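import Cfsg.Agent.Mrg.Omega.NO3b.TheoremL.Act
import Cfsg.Agent.Mrg.Omega.MinFF.LLemma
import Cfsg.Agent.Mrg.Omega.NO3b.Exit.BO
import Cfsg.Agent.Mrg.Omega.NO3b.Exit.TightDat
import Cfsg.Agent.Mrg.Omega.NO3b.Exit.TenBase

section


/-!
# THEOREM L (#18749, helper344), part 4: simple sections and the irreducibility of `M` on `C_N(A)`

`Hyp.sections` : an inclusion-closed family `I` of `Y`-invariant subgroups between `Z` and `W` such that
`|P / P'| ≤ |A : A ∩ O|²` for all `I`-simple sections;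
`Hyp.irr` : an `M`-invariant subgroup of `W ∩ C`, not in `Z`, has order at least `|A : A ∩ O|` modulo `Z`.
-/

set_option autoImplicit false
set_option linter.unusedSectionVars false

namespace Cfsg.Agent.Omega.NO3b.TheoremL.Core2

open Cfsg.Agent.Omega.FF.Basic (fx mem_fx fx_anti card_sup_inf card_le eq_of_card_le card_fib EA mm mm_bot cj mem_cj
  mem_cj_of isPGroup_cj card_cj smul_mem_fx_cj mem_fx_cj card_smul fx_bot)
open Cfsg.Agent.Omega.NO3b.Exit.TT (cf mem_cf nf mem_nf mem_smul smul_mem' nf_smul le_cf card_smul' cf_conj nf_conj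
  quad' card_pow two_mul_le_of_pow mm_pow)
open Cfsg.Agent.Omega.NO3b.TheoremL.Act
open Cfsg.Agent.Omega.NO3b.TheoremL.Core1
open Cfsg.Agent.Omega.NO3b.TheoremL.RingRel (ring_rel)
open Cfsg.Agent.Omega.MinFF (TI)
open Cfsg (pCore)
open scoped Pointwise

variable {Y : Type*} [Group Y] [Finite Y] {U : Type*} [AddCommGroup U] [Finite U] [DistribMulAction Y U]
  {A M : Subgroup Y} {V : AddSubgroup U}

/-- a family of `Y`-invariant subgroups with small simple sections -/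
structure Fam (A : Subgroup Y) (V : AddSubgroup U) (I : AddSubgroup U → Prop) : Prop where
  top : I (W Y V)
  bot : I (fx U (⊤ : Subgroup Y))
  sec : ∀ P, I P → Sec U A P
  le : ∀ P, I P → P ≤ W Y V
  small : ∀ P' P, I P' → I P → P' < P → (∀ R, I R → P' ≤ R → R ≤ P → R = P' ∨ R = P) →
    Nat.card P * (Nat.card ↥(A ⊓ pCore 2 Y) * Nat.card ↥(A ⊓ pCore 2 Y)) ≤
      Nat.card P' * (Nat.card A * Nat.card A)

/-- `|W : C_W(A)| |C_A(W)| ≤ |A|` -/
theorem w_le (h : Hyp A M V) : Nat.card (W Y V) * (Nat.card ↥(A ⊓ cf Y (W Y V)) * Nat.card ↥(A ⊓ cf Y (W Y V))) ≤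
    Nat.card A * Nat.card A * Nat.card (fx U (⊤ : Subgroup Y)) := by
  have h1 := h.mm_le (inf_le_left : A ⊓ cf Y (W Y V) ≤ A)
  have h2 : W Y V ⊔ fx U A ≤ fx U (A ⊓ cf Y (W Y V)) := sup_le (le_cf.1 inf_le_right) (fx_anti inf_le_left)
  have h3 := card_sup_inf (W Y V) (fx U A)
  have h4 := card_le h2
  have h5 := h.secW.card h.toQ
  rw [mm, mm] at h1
  have pC : 0 < Nat.card (fx U A) := Nat.card_pos
  have pW : 0 < Nat.card (W Y V) := Nat.card_pos
  set s := Nat.card ↥(A ⊓ cf Y (W Y V))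
  set a := Nat.card A
  set c := Nat.card (fx U A)
  set w := Nat.card (W Y V)
  set wc := Nat.card ↥(W Y V ⊓ fx U A)
  set z := Nat.card (fx U (⊤ : Subgroup Y))
  have h6 : w * s ≤ a * wc := by
    refine Nat.le_of_mul_le_mul_right ?_ pC
    calc w * s * c = s * (w * c) := by ring
      _ = s * (Nat.card ↥(W Y V ⊔ fx U A) * wc) := by rw [h3]
      _ = s * Nat.card ↥(W Y V ⊔ fx U A) * wc := by ring
      _ ≤ s * Nat.card (fx U (A ⊓ cf Y (W Y V))) * wc := Nat.mul_le_mul_right _ (Nat.mul_le_mul_left _ h4)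
      _ ≤ a * c * wc := Nat.mul_le_mul_right _ h1
      _ = a * wc * c := by ring
  refine Nat.le_of_mul_le_mul_left ?_ pW
  calc w * (w * (s * s)) = (w * s) * (w * s) := by ring
    _ ≤ (a * wc) * (a * wc) := Nat.mul_le_mul h6 h6
    _ = a * a * (wc * wc) := by ring
    _ = a * a * (w * z) := by rw [h5]
    _ = w * (a * a * z) := by ring

/-- the hypotheses of `ring_rel` for `W` -/
theorem ring_W (h : Hyp A M V) (hne : A ⊓ pCore 2 Y ≠ ⊥) :
    ∃ I : AddSubgroup U → Prop, I (W Y V) ∧ I (fx U (⊤ : Subgroup Y)) ∧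
      (∀ P, I P → fx U (⊤ : Subgroup Y) ≤ P ∧ P ≤ W Y V) ∧ (∀ P, I P → ∀ y : Y, ∀ v ∈ P, y • v ∈ P) ∧
      (∀ P' P, I P' → I P → P' < P → (∀ R, I R → P' ≤ R → R ≤ P → R = P' ∨ R = P) →
        Nat.card P * (Nat.card (QQ A) * Nat.card (fx U (⊤ : Subgroup Y))) ≤
          Nat.card P' * (Nat.card (W Y V) * Nat.card ↥(QQ A ⊓ cf Y (W Y V)))) := by
  obtain ⟨I, h1, h2, h3, h4, h5⟩ := ring_rel (W := W Y V) (Z := fx U (⊤ : Subgroup Y)) (Q := QQ A) h.two (Z_le_W V)
    (fun t ht w hw => h.comm_QQ ht hw) (fun t _ z hz => Q.Z_smul hz t) (fun w hw hf => h.inf_fx_le hne ⟨hw, hf⟩)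
    (fun B hB hBc => h.nfW _ B le_rfl hB hBc)
  exact ⟨I, h1, h2, h3, fun P hP y v hv => h4 P hP y (fun w hw => W_inv V y hw) (fun z hz => Q.Z_smul hz y)
    (fun t ht => Hyp.QQ_conj ht y) v hv, h5⟩

/-- the family `I` -/
theorem sections (h : Hyp A M V) : ∃ I : AddSubgroup U → Prop, Fam A V I := by
  have hw := w_le h
  have pZ : 0 < Nat.card (fx U (⊤ : Subgroup Y)) := Nat.card_pos
  by_cases hne : A ⊓ pCore 2 Y = ⊥
  · refine ⟨fun P => Sec U A P ∧ P ≤ W Y V, ⟨h.secW, le_rfl⟩, ⟨h.secZ, Z_le_W V⟩, fun P hP => hP.1, fun P hP => hP.2, ?_⟩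
    intro P' P hP' hP _ _
    rw [hne, Subgroup.card_bot, one_mul, mul_one]
    have h1 : 1 ≤ Nat.card ↥(A ⊓ cf Y (W Y V)) := Nat.card_pos
    calc Nat.card P ≤ Nat.card (W Y V) := card_le hP.2
      _ = Nat.card (W Y V) * (1 * 1) := by ring
      _ ≤ Nat.card (W Y V) * (Nat.card ↥(A ⊓ cf Y (W Y V)) * Nat.card ↥(A ⊓ cf Y (W Y V))) :=
        Nat.mul_le_mul_left _ (Nat.mul_le_mul h1 h1)
      _ ≤ Nat.card A * Nat.card A * Nat.card (fx U (⊤ : Subgroup Y)) := hw
      _ ≤ Nat.card A * Nat.card A * Nat.card P' := Nat.mul_le_mul_left _ (card_le hP'.1.Z_le)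
      _ = _ := by ring
  · obtain ⟨I, h1, h2, h3, h4, h5⟩ := ring_W h hne
    refine ⟨I, h1, h2, fun P hP => ⟨(h3 P hP).1, (h3 P hP).2.trans h.secW.le_D, h4 P hP⟩, fun P hP => (h3 P hP).2, ?_⟩
    intro P' P hP' hP hlt hmax
    have h6 := h5 P' P hP' hP hlt hmax
    have h7 := h.theta (B := A ⊓ pCore 2 Y) Hyp.A₁_le fun b hb a ha => h.ea.comm ha hb.1
    have h8 : Nat.card ↥(A ⊓ pCore 2 Y ⊓ cf Y (W Y V)) ≤ Nat.card ↥(A ⊓ cf Y (W Y V)) :=
      Subgroup.card_le_of_le (inf_le_inf_right _ inf_le_left)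
    have pK : 0 < Nat.card ↥(QQ A ⊓ cf Y (W Y V)) := Nat.card_pos
    set a := Nat.card A
    set a1 := Nat.card ↥(A ⊓ pCore 2 Y)
    set s := Nat.card ↥(A ⊓ cf Y (W Y V))
    set s1 := Nat.card ↥(A ⊓ pCore 2 Y ⊓ cf Y (W Y V))
    set k := Nat.card ↥(QQ A ⊓ cf Y (W Y V))
    set q := Nat.card (QQ A)
    set z := Nat.card (fx U (⊤ : Subgroup Y))
    set w := Nat.card (W Y V)
    set p := Nat.card P
    set p' := Nat.card P'
    have h9 : a1 * a1 * k ≤ q * (s * s) := h7.trans (Nat.mul_le_mul_left _ (Nat.mul_le_mul h8 h8))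
    refine Nat.le_of_mul_le_mul_right ?_ (Nat.mul_pos pK pZ)
    calc p * (a1 * a1) * (k * z) = (p * z) * (a1 * a1 * k) := by ring
      _ ≤ (p * z) * (q * (s * s)) := Nat.mul_le_mul_left _ h9
      _ = (p * (q * z)) * (s * s) := by ring
      _ ≤ (p' * (w * k)) * (s * s) := Nat.mul_le_mul_right _ h6
      _ = (p' * k) * (w * (s * s)) := by ring
      _ ≤ (p' * k) * (a * a * z) := Nat.mul_le_mul_left _ hw
      _ = p' * (a * a) * (k * z) := by ring

theorem le_of_sq {a b : ℕ} (h : a * a ≤ b * b) : a ≤ b := by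
  by_contra hc
  push Not at hc
  have := Nat.mul_self_lt_mul_self hc
  omega

/-- **`M` is irreducible on `C_N(A)`** -/
theorem irr (h : Hyp A M V) {B₀ : AddSubgroup U} (hM : ∀ m ∈ M, ∀ v ∈ B₀, m • v ∈ B₀)
    (hZ : fx U (⊤ : Subgroup Y) ≤ B₀) (hC : B₀ ≤ fx U A) (hW : B₀ ≤ W Y V) (hne : ¬ B₀ ≤ fx U (⊤ : Subgroup Y)) :
    Nat.card A * Nat.card (fx U (⊤ : Subgroup Y)) ≤ Nat.card ↥(A ⊓ pCore 2 Y) * Nat.card B₀ := by
  classical
  obtain ⟨I, f⟩ := sections h
  -- `P`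
  obtain ⟨P, ⟨hIP, hPne⟩, hPmin⟩ := Set.exists_min_image {P : AddSubgroup U | I P ∧ ¬ B₀ ⊓ P ≤ fx U (⊤ : Subgroup Y)}
    (fun P => Nat.card P) (Set.toFinite _) ⟨W Y V, f.top, by rwa [inf_eq_left.2 hW]⟩
  have sP := f.sec P hIP
  have hltZ : fx U (⊤ : Subgroup Y) < P := lt_of_le_of_ne sP.Z_le fun h0 => hPne (by rw [← h0]; exact inf_le_right)
  obtain ⟨P', ⟨hIP', hlt⟩, hPmax⟩ := Set.exists_max_image {P' : AddSubgroup U | I P' ∧ P' < P}
    (fun P => Nat.card P) (Set.toFinite _) ⟨_, f.bot, hltZ⟩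
  have sP' := f.sec P' hIP'
  have hinf : B₀ ⊓ P' ≤ fx U (⊤ : Subgroup Y) := by
    by_contra hcon
    have h1 := hPmin P' ⟨hIP', hcon⟩
    exact hlt.ne (eq_of_card_le hlt.le h1)
  have hsm := f.small P' P hIP' hIP hlt fun R hR h1 h2 => by
    rcases h2.eq_or_lt with h3 | h3
    · exact Or.inr h3
    · exact Or.inl (eq_of_card_le h1 (hPmax R ⟨hR, h3⟩)).symm
  have pZ : 0 < Nat.card (fx U (⊤ : Subgroup Y)) := Nat.card_pos
  have pA1 : 0 < Nat.card ↥(A ⊓ pCore 2 Y) := Nat.card_pos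
  have cP := sP.card h.toQ
  have cP' := sP'.card h.toQ
  -- `Y`-simple
  have simple : ∀ R : AddSubgroup U, Sec U A R → P' ≤ R → R ≤ P → R ≠ P' → R = P := by
    intro R hR h1 h2 h3
    have h4 := hR.index h.toQ sP' (lt_of_le_of_ne h1 h3.symm)
    have cR := hR.card h.toQ
    refine eq_of_card_le h2 ?_
    refine Nat.le_of_mul_le_mul_right ?_ (Nat.mul_pos (Nat.mul_pos pA1 pA1) pZ)
    calc Nat.card P * (Nat.card ↥(A ⊓ pCore 2 Y) * Nat.card ↥(A ⊓ pCore 2 Y) * Nat.card (fx U (⊤ : Subgroup Y)))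
        = Nat.card P * (Nat.card ↥(A ⊓ pCore 2 Y) * Nat.card ↥(A ⊓ pCore 2 Y)) *
          Nat.card (fx U (⊤ : Subgroup Y)) := by ring
      _ ≤ Nat.card P' * (Nat.card A * Nat.card A) * Nat.card (fx U (⊤ : Subgroup Y)) := Nat.mul_le_mul_right _ hsm
      _ = Nat.card A * Nat.card A * (Nat.card P' * Nat.card (fx U (⊤ : Subgroup Y))) := by ring
      _ = (Nat.card A * Nat.card ↥(P' ⊓ fx U A)) * (Nat.card A * Nat.card ↥(P' ⊓ fx U A)) := by rw [cP']; ring
      _ ≤ (Nat.card ↥(A ⊓ pCore 2 Y) * Nat.card ↥(R ⊓ fx U A)) * (Nat.card ↥(A ⊓ pCore 2 Y) * Nat.card ↥(R ⊓ fx U A)) :=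
        Nat.mul_le_mul h4 h4
      _ = Nat.card ↥(A ⊓ pCore 2 Y) * Nat.card ↥(A ⊓ pCore 2 Y) *
          (Nat.card ↥(R ⊓ fx U A) * Nat.card ↥(R ⊓ fx U A)) := by ring
      _ = _ := by rw [← cR]; ring
  have hPC : Nat.card ↥(P ⊓ fx U A) * Nat.card ↥(A ⊓ pCore 2 Y) ≤ Nat.card ↥(P' ⊓ fx U A) * Nat.card A := by
    apply le_of_sq
    calc Nat.card ↥(P ⊓ fx U A) * Nat.card ↥(A ⊓ pCore 2 Y) * (Nat.card ↥(P ⊓ fx U A) * Nat.card ↥(A ⊓ pCore 2 Y))
        = (Nat.card ↥(P ⊓ fx U A) * Nat.card ↥(P ⊓ fx U A)) *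
          (Nat.card ↥(A ⊓ pCore 2 Y) * Nat.card ↥(A ⊓ pCore 2 Y)) := by ring
      _ = (Nat.card P * (Nat.card ↥(A ⊓ pCore 2 Y) * Nat.card ↥(A ⊓ pCore 2 Y))) *
          Nat.card (fx U (⊤ : Subgroup Y)) := by rw [← cP]; ring
      _ ≤ (Nat.card P' * (Nat.card A * Nat.card A)) * Nat.card (fx U (⊤ : Subgroup Y)) := Nat.mul_le_mul_right _ hsm
      _ = (Nat.card P' * Nat.card (fx U (⊤ : Subgroup Y))) * (Nat.card A * Nat.card A) := by ring
      _ = _ := by rw [cP']; ring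
  set B := B₀ ⊓ P with hB
  have hBM : ∀ m ∈ M, ∀ v ∈ B, m • v ∈ B := fun m hm v hv => ⟨hM m hm v hv.1, sP.inv m v hv.2⟩
  -- `[v, A] P' ≥ P ∩ C`
  have hsurj : ∀ g : Y, g ∉ M → ∀ c₂ ∈ B, c₂ ∉ P' → ∀ c ∈ P ⊓ fx U A, ∃ a ∈ A, (a • g • c₂ - g • c₂) - c ∈ P' := by
    intro g hg c₂ hc₂ hc₂' c hc
    set v := g • c₂ with hv
    have hvP : v ∈ P := sP.inv g _ hc₂.2
    have hvg : g⁻¹ • v ∈ fx U A := by rw [hv, inv_smul_smul]; exact hC hc₂.1
    have hvP' : v ∉ P' := fun h0 => hc₂' (by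
      have := sP'.inv g⁻¹ _ h0
      rwa [hv, inv_smul_smul] at this)
    have hadd : ∀ a ∈ A, ∀ b ∈ A, (a * b) • v - v = (a • v - v) + (b • v - v) := by
      intro a ha b hb
      have h1 := h.toQ.quad b hb a ha v
      rw [smul_sub] at h1
      rw [mul_smul]
      have e : a • b • v = b • v - v + a • v := by rw [← h1]; abel
      rw [e]; abel
    let H : AddSubgroup U :=
      { carrier := {c | c ∈ P ⊓ fx U A ∧ ∃ a ∈ A, (a • v - v) - c ∈ P'}
        zero_mem' := ⟨zero_mem _, 1, A.one_mem, by rw [one_smul, sub_self, sub_zero]; exact zero_mem _⟩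
        add_mem' := by
          rintro c c' ⟨h1, a, ha, h2⟩ ⟨h1', b, hb, h2'⟩
          refine ⟨add_mem h1 h1', a * b, A.mul_mem ha hb, ?_⟩
          rw [hadd a ha b hb]
          have e : (a • v - v) + (b • v - v) - (c + c') = ((a • v - v) - c) + ((b • v - v) - c') := by abel
          rw [e]; exact add_mem h2 h2'
        neg_mem' := by
          rintro c ⟨h1, a, ha, h2⟩
          refine ⟨neg_mem h1, a⁻¹, A.inv_mem ha, ?_⟩
          have h3 := hadd a⁻¹ (A.inv_mem ha) a ha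
          rw [inv_mul_cancel, one_smul, sub_self] at h3
          have e : (a⁻¹ • v - v) = -(a • v - v) := eq_neg_of_add_eq_zero_left h3.symm
          have e2 : (a⁻¹ • v - v) - (-c) = -((a • v - v) - c) := by rw [e]; abel
          rw [e2]; exact neg_mem h2 }
    have h1 := sP.fib h.toQ sP' hg hvP hvg hvP' (H := H) (by
        intro c hc
        refine ⟨⟨hlt.le hc.1, hc.2⟩, 1, A.one_mem, ?_⟩
        rw [one_smul, sub_self, zero_sub]
        exact neg_mem hc.1) (by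
        intro a ha
        refine ⟨AddSubgroup.mem_inf.2 ⟨sub_mem (sP.inv a v hvP) hvP, fun b hb => h.toQ.quad a ha b hb v⟩, a, ha, ?_⟩
        rw [sub_self]; exact zero_mem _)
    have h2 : H = P ⊓ fx U A := by
      refine eq_of_card_le (fun c hc => hc.1) ?_
      refine Nat.le_of_mul_le_mul_left ?_ pA1
      calc Nat.card ↥(A ⊓ pCore 2 Y) * Nat.card ↥(P ⊓ fx U A)
          = Nat.card ↥(P ⊓ fx U A) * Nat.card ↥(A ⊓ pCore 2 Y) := by ring
        _ ≤ Nat.card ↥(P' ⊓ fx U A) * Nat.card A := hPC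
        _ = Nat.card A * Nat.card ↥(P' ⊓ fx U A) := by ring
        _ ≤ _ := h1
    rw [← h2] at hc
    exact hc.2
  -- the union of the conjugates of `B` modulo `P'`
  let R : AddSubgroup U :=
    { carrier := {u | ∃ y : Y, ∃ c ∈ B, u - y • c ∈ P'}
      zero_mem' := ⟨1, 0, zero_mem _, by rw [smul_zero, sub_zero]; exact zero_mem _⟩
      neg_mem' := by
        rintro u ⟨y, c, hc, h1⟩
        refine ⟨y, -c, neg_mem hc, ?_⟩
        have e : -u - y • (-c) = -(u - y • c) := by rw [smul_neg]; abel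
        rw [e]; exact neg_mem h1
      add_mem' := by
        rintro u₁ u₂ ⟨y₁, c₁, hc₁, h₁⟩ ⟨y₂, c₂, hc₂, h₂⟩
        by_cases hP' : c₂ ∈ P'
        · refine ⟨y₁, c₁, hc₁, ?_⟩
          have e : u₁ + u₂ - y₁ • c₁ = (u₁ - y₁ • c₁) + (u₂ - y₂ • c₂) + y₂ • c₂ := by abel
          rw [e]; exact add_mem (add_mem h₁ h₂) (sP'.inv y₂ _ hP')
        · by_cases hm : y₁⁻¹ * y₂ ∈ M
          · refine ⟨y₁, c₁ + (y₁⁻¹ * y₂) • c₂, add_mem hc₁ (hBM _ hm _ hc₂), ?_⟩
            have e : u₁ + u₂ - y₁ • (c₁ + (y₁⁻¹ * y₂) • c₂) = (u₁ - y₁ • c₁) + (u₂ - y₂ • c₂) := by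
              rw [smul_add, smul_smul, mul_inv_cancel_left]; abel
            rw [e]; exact add_mem h₁ h₂
          · obtain ⟨a, -, h3⟩ := hsurj _ hm c₂ hc₂ hP' c₁ ⟨hc₁.2, hC hc₁.1⟩
            refine ⟨y₁ * a * (y₁⁻¹ * y₂), c₂, hc₂, ?_⟩
            have e : u₁ + u₂ - (y₁ * a * (y₁⁻¹ * y₂)) • c₂ = (u₁ - y₁ • c₁) + (u₂ - y₂ • c₂) -
                y₁ • ((a • (y₁⁻¹ * y₂) • c₂ - (y₁⁻¹ * y₂) • c₂) - c₁) := by
              rw [smul_sub, smul_sub, smul_smul y₁ (y₁⁻¹ * y₂), mul_inv_cancel_left, mul_smul (y₁ * a), mul_smul y₁ a]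
              abel
            rw [e]; exact sub_mem (add_mem h₁ h₂) (sP'.inv y₁ _ h3) }
  have hP'R : P' ≤ R := fun u hu => ⟨1, 0, zero_mem _, by rw [smul_zero, sub_zero]; exact hu⟩
  have hRP : R ≤ P := by
    rintro u ⟨y, c, hc, h1⟩
    have e : u = (u - y • c) + y • c := by abel
    rw [e]; exact add_mem (hlt.le h1) (sP.inv y _ hc.2)
  have sR : Sec U A R :=
    { Z_le := sP'.Z_le.trans hP'R
      le_D := hRP.trans sP.le_D
      inv := by
        rintro y u ⟨y', c, hc, h1⟩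
        refine ⟨y * y', c, hc, ?_⟩
        have e : y • u - (y * y') • c = y • (u - y' • c) := by rw [smul_sub, mul_smul]
        rw [e]; exact sP'.inv y _ h1 }
  have hRne : R ≠ P' := by
    intro h0
    apply hPne
    have h1 : B ≤ P' := by
      rw [← h0]
      intro u hu
      exact ⟨1, u, hu, by rw [one_smul, sub_self]; exact zero_mem _⟩
    exact (le_inf inf_le_left h1).trans hinf
  have hRtop := simple R sR hP'R hRP hRne
  -- `P ∩ C ≤ B (P' ∩ C)`
  have hPC2 : P ⊓ fx U A ≤ B ⊔ (P' ⊓ fx U A) := by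
    have h1 : ∀ c ∈ P ⊓ fx U A, ∃ b ∈ B, c - b ∈ P' := by
      intro c hc
      have h2 : c ∈ R := by rw [hRtop]; exact hc.1
      obtain ⟨y, c', hc', h3⟩ := h2
      by_cases hy : y ∈ M
      · exact ⟨y • c', hBM y hy c' hc', h3⟩
      · refine ⟨0, zero_mem _, ?_⟩
        rw [sub_zero]
        have h4 : c - y • c' ∈ (P' ⊓ fx U A) ⊔ y • (P' ⊓ fx U A) := by rw [sP'.sup_eq h.toQ hy]; exact h3
        obtain ⟨d₁, hd₁, d₂, hd₂, e⟩ := AddSubgroup.mem_sup.1 h4
        rw [mem_smul] at hd₂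
        have h5 : c - d₁ ∈ fx U (⊤ : Subgroup Y) := by
          apply h.toQ.inf_le hy
          · exact sub_mem hc.2 hd₁.2
          · have e2 : y⁻¹ • (c - d₁) = c' + y⁻¹ • d₂ := by
              have e3 : c - d₁ = y • c' + d₂ := by
                have : c = d₁ + d₂ + y • c' := by rw [e]; abel
                rw [this]; abel
              rw [e3, smul_add, inv_smul_smul]
            rw [e2]; exact add_mem (hC hc'.1) hd₂.2
        have e4 : c = (c - d₁) + d₁ := by abel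
        rw [e4]; exact add_mem (sP'.Z_le h5) hd₁.1
    intro c hc
    obtain ⟨b, hb, h2⟩ := h1 c hc
    have e : c = b + (c - b) := by abel
    rw [e]
    exact add_mem (AddSubgroup.mem_sup_left hb)
      (AddSubgroup.mem_sup_right (AddSubgroup.mem_inf.2 ⟨h2, sub_mem hc.2 (hC hb.1)⟩))
  have h1 := card_sup_inf B (P' ⊓ fx U A)
  have h2 : fx U (⊤ : Subgroup Y) ≤ B ⊓ (P' ⊓ fx U A) :=
    le_inf (le_inf hZ sP.Z_le) (le_inf sP'.Z_le (Q.Z_le A))
  have h3 := card_le h2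
  have h4 := card_le hPC2
  have h5 : Nat.card B ≤ Nat.card B₀ := card_le inf_le_left
  have h6 := sP.index h.toQ sP' hlt
  have pP' : 0 < Nat.card ↥(P' ⊓ fx U A) := Nat.card_pos
  refine Nat.le_of_mul_le_mul_right ?_ pP'
  calc Nat.card A * Nat.card (fx U (⊤ : Subgroup Y)) * Nat.card ↥(P' ⊓ fx U A)
      = (Nat.card A * Nat.card ↥(P' ⊓ fx U A)) * Nat.card (fx U (⊤ : Subgroup Y)) := by ring
    _ ≤ (Nat.card ↥(A ⊓ pCore 2 Y) * Nat.card ↥(P ⊓ fx U A)) * Nat.card (fx U (⊤ : Subgroup Y)) :=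
      Nat.mul_le_mul_right _ h6
    _ ≤ (Nat.card ↥(A ⊓ pCore 2 Y) * Nat.card ↥(B ⊔ (P' ⊓ fx U A))) * Nat.card ↥(B ⊓ (P' ⊓ fx U A)) :=
      Nat.mul_le_mul (Nat.mul_le_mul_left _ h4) h3
    _ = Nat.card ↥(A ⊓ pCore 2 Y) * (Nat.card ↥(B ⊔ (P' ⊓ fx U A)) * Nat.card ↥(B ⊓ (P' ⊓ fx U A))) := by ring
    _ = Nat.card ↥(A ⊓ pCore 2 Y) * (Nat.card B * Nat.card ↥(P' ⊓ fx U A)) := by rw [h1]
    _ = Nat.card ↥(A ⊓ pCore 2 Y) * Nat.card B * Nat.card ↥(P' ⊓ fx U A) := by ring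
    _ ≤ Nat.card ↥(A ⊓ pCore 2 Y) * Nat.card B₀ * Nat.card ↥(P' ⊓ fx U A) :=
      Nat.mul_le_mul_right _ (Nat.mul_le_mul_left _ h5)

end Cfsg.Agent.Omega.NO3b.TheoremL.Core2

end

section


/-!
# THEOREM L (#18749, helper344), part 5: the theorem for a TI group

`core` : `f(A) = |U|`, `|V Z : Z| = |A|`, `C_U(A) = V Z`, `U = V^k C_U(A)` for `k ∉ M`, `A ∩ O` acts faithfully on `V^k`,
`C_U(A ∩ O) = C_U(A)` if `A ∩ O ≠ 1`, `[U, A ∩ O] ≤ Z`, `A ∩ M^k = A ∩ O`.
-/

set_option autoImplicit false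
set_option linter.unusedSectionVars false

namespace Cfsg.Agent.Omega.NO3b.TheoremL.Core3

open Cfsg.Agent.Omega.FF.Basic (fx mem_fx fx_anti card_sup_inf card_le eq_of_card_le card_fib EA mm mm_bot cj mem_cj
  mem_cj_of isPGroup_cj card_cj smul_mem_fx_cj mem_fx_cj card_smul fx_bot card_top card_le_top)
open Cfsg.Agent.Omega.NO3b.Exit.TT (cf mem_cf nf mem_nf mem_smul smul_mem' nf_smul le_cf card_smul' cf_conj nf_conj
  quad' card_pow two_mul_le_of_pow mm_pow)
open Cfsg.Agent.Omega.NO3b.TheoremL.Act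
open Cfsg.Agent.Omega.NO3b.TheoremL.Core1
open Cfsg.Agent.Omega.NO3b.TheoremL.Core2
open Cfsg.Agent.Omega.NO3b.TheoremL.RingRel (ring_rel TH tau card_TH)
open Cfsg.Agent.Omega.MinFF (TI)
open Cfsg (pCore)
open scoped Pointwise

variable {Y : Type*} [Group Y] [Finite Y] {U : Type*} [AddCommGroup U] [Finite U] [DistribMulAction Y U]
  {A M : Subgroup Y} {V : AddSubgroup U}

/-- `V Z` -/
abbrev VZ (Y : Type*) [Group Y] {U : Type*} [AddCommGroup U] [DistribMulAction Y U] (V : AddSubgroup U) :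
    AddSubgroup U := V ⊔ fx U (⊤ : Subgroup Y)

theorem VZ_le_C (h : Hyp A M V) : VZ Y V ≤ fx U A := sup_le h.V_le_C (Q.Z_le A)

theorem VZ_le_W (V : AddSubgroup U) : VZ Y V ≤ W Y V := sup_le (V_le_W V) (Z_le_W V)

theorem VZ_inv (h : Hyp A M V) {m : Y} (hm : m ∈ M) {v : U} (hv : v ∈ VZ Y V) : m • v ∈ VZ Y V := by
  obtain ⟨a, ha, b, hb, rfl⟩ := AddSubgroup.mem_sup.1 hv
  rw [smul_add, Q.Z_smul hb]
  exact add_mem (AddSubgroup.mem_sup_left (nf_smul (h.inv hm) ha)) (AddSubgroup.mem_sup_right hb)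

/-- quotient groups of a subgroup -/
theorem quot_le {W Z : AddSubgroup U} {B Q : Subgroup Y} (hBQ : B ≤ Q) (hQW : ∀ t ∈ Q, ∀ w ∈ W, t • w - w ∈ Z)
    (hQZ : ∀ t ∈ Q, ∀ z ∈ Z, t • z = z) :
    Nat.card B * Nat.card ↥(Q ⊓ cf Y W) ≤ Nat.card Q * Nat.card ↥(B ⊓ cf Y W) := by
  have hfin : Finite (W →+ Z) := Finite.of_injective (fun f : W →+ Z => (f : W → Z)) DFunLike.coe_injective
  let T₁ := TH (W := W) (Z := Z) (Q := B) (fun t ht => hQW t (hBQ ht)) (fun t ht => hQZ t (hBQ ht))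
  let T := TH (W := W) (Z := Z) (Q := Q) hQW hQZ
  have hT₁ : T₁ ≤ T := by
    rintro _ ⟨t, rfl⟩
    exact ⟨⟨t, hBQ t.2⟩, rfl⟩
  have c₁ : Nat.card B = Nat.card T₁ * Nat.card ↥(B ⊓ cf Y W) := card_TH _ _
  have c : Nat.card Q = Nat.card T * Nat.card ↥(Q ⊓ cf Y W) := card_TH _ _
  rw [c₁, c]
  calc Nat.card T₁ * Nat.card ↥(B ⊓ cf Y W) * Nat.card ↥(Q ⊓ cf Y W)
      = Nat.card T₁ * (Nat.card ↥(Q ⊓ cf Y W) * Nat.card ↥(B ⊓ cf Y W)) := by ring
    _ ≤ Nat.card T * (Nat.card ↥(Q ⊓ cf Y W) * Nat.card ↥(B ⊓ cf Y W)) := Nat.mul_le_mul_right _ (card_le hT₁)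
    _ = _ := by ring

/-- NF for `V Z` -/
theorem nfVZ (h : Hyp A M V) {B : Subgroup Y} (hB : B ≤ QQ A) (hne : ¬ B ≤ cf Y (VZ Y V)) :
    2 * (Nat.card B * Nat.card ↥(VZ Y V ⊓ fx U B)) ≤ Nat.card (VZ Y V) * Nat.card ↥(B ⊓ cf Y (VZ Y V)) := by
  have hne' : ¬ B ≤ cf Y ((1 : Y) • V) := by
    rw [one_smul]
    intro h0
    apply hne
    rw [le_cf] at h0 ⊢
    exact sup_le h0 (Q.Z_le B)
  have h1 := h.nfV 1 hB hne'
  rw [one_smul] at h1
  have h2 : B ⊓ cf Y (VZ Y V) = B ⊓ cf Y V := by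
    apply le_antisymm
    · rintro b ⟨hb, hb'⟩
      exact ⟨hb, fun v hv => hb' v (AddSubgroup.mem_sup_left hv)⟩
    · rintro b ⟨hb, hb'⟩
      refine ⟨hb, fun v hv => ?_⟩
      obtain ⟨x, hx, z, hz, rfl⟩ := AddSubgroup.mem_sup.1 hv
      rw [smul_add, hb' x hx, Q.Z_smul hz]
  have h3 : VZ Y V ⊓ fx U B = (V ⊓ fx U B) ⊔ fx U (⊤ : Subgroup Y) := by
    apply le_antisymm
    · rintro v ⟨hv, hvB⟩
      obtain ⟨x, hx, z, hz, rfl⟩ := AddSubgroup.mem_sup.1 hv
      refine add_mem (AddSubgroup.mem_sup_left ⟨hx, ?_⟩) (AddSubgroup.mem_sup_right hz)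
      have e : x = (x + z) - z := by abel
      have h7 : (x + z) - z ∈ fx U B := sub_mem hvB (Q.Z_le B hz)
      rwa [← e] at h7
    · exact sup_le (inf_le_inf_right _ le_sup_left) (le_inf le_sup_right (Q.Z_le B))
  have h4 := card_sup_inf (V ⊓ fx U B) (fx U (⊤ : Subgroup Y))
  have h5 := card_sup_inf V (fx U (⊤ : Subgroup Y))
  have h6 : V ⊓ fx U B ⊓ fx U (⊤ : Subgroup Y) = V ⊓ fx U (⊤ : Subgroup Y) := by
    rw [inf_assoc, inf_eq_right.2 (Q.Z_le B)]
  rw [h6] at h4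
  rw [h2, h3]
  have p : 0 < Nat.card ↥(V ⊓ fx U (⊤ : Subgroup Y)) := Nat.card_pos
  refine Nat.le_of_mul_le_mul_right ?_ p
  calc 2 * (Nat.card B * Nat.card ↥((V ⊓ fx U B) ⊔ fx U (⊤ : Subgroup Y))) * Nat.card ↥(V ⊓ fx U (⊤ : Subgroup Y))
      = 2 * (Nat.card B * (Nat.card ↥((V ⊓ fx U B) ⊔ fx U (⊤ : Subgroup Y)) *
        Nat.card ↥(V ⊓ fx U (⊤ : Subgroup Y)))) := by ring
    _ = 2 * (Nat.card B * Nat.card ↥(V ⊓ fx U B)) * Nat.card (fx U (⊤ : Subgroup Y)) := by rw [h4]; ring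
    _ ≤ Nat.card V * Nat.card ↥(B ⊓ cf Y V) * Nat.card (fx U (⊤ : Subgroup Y)) := Nat.mul_le_mul_right _ h1
    _ = (Nat.card V * Nat.card (fx U (⊤ : Subgroup Y))) * Nat.card ↥(B ⊓ cf Y V) := by ring
    _ = (Nat.card (VZ Y V) * Nat.card ↥(V ⊓ fx U (⊤ : Subgroup Y))) * Nat.card ↥(B ⊓ cf Y V) := by rw [h5]
    _ = _ := by ring

/-- the lower bound for `|V Z : Z|` -/
theorem lower (h : Hyp A M V) (k : Y) :
    Nat.card A * Nat.card (fx U (⊤ : Subgroup Y)) ≤
      Nat.card (VZ Y V) * Nat.card ↥(A ⊓ pCore 2 Y ⊓ cf Y (k • V)) := by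
  have hVZ : ¬ VZ Y V ≤ fx U (⊤ : Subgroup Y) := fun h0 => h.nz (le_sup_left.trans h0)
  have pZ : 0 < Nat.card (fx U (⊤ : Subgroup Y)) := Nat.card_pos
  have pA1 : 0 < Nat.card ↥(A ⊓ pCore 2 Y) := Nat.card_pos
  by_cases hne : A ⊓ pCore 2 Y = ⊥
  · have h1 := irr h (B₀ := VZ Y V) (fun m hm v hv => VZ_inv h hm hv) le_sup_right (VZ_le_C h) (VZ_le_W V) hVZ
    rw [hne, Subgroup.card_bot, one_mul] at h1
    have h2 : 1 ≤ Nat.card ↥(A ⊓ pCore 2 Y ⊓ cf Y (k • V)) := Nat.card_pos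
    calc _ ≤ Nat.card (VZ Y V) := h1
      _ = Nat.card (VZ Y V) * 1 := (mul_one _).symm
      _ ≤ _ := Nat.mul_le_mul_left _ h2
  · classical
    have hQW : ∀ t ∈ QQ A, ∀ w ∈ VZ Y V, t • w - w ∈ fx U (⊤ : Subgroup Y) := fun t ht w hw =>
      h.comm_QQ ht (VZ_le_W V hw)
    have hQZ : ∀ t ∈ QQ A, ∀ z ∈ fx U (⊤ : Subgroup Y), t • z = z := fun t _ z hz => Q.Z_smul hz t
    obtain ⟨I, i1, i2, i3, i4, i5⟩ := ring_rel (W := VZ Y V) (Z := fx U (⊤ : Subgroup Y)) (Q := QQ A) h.two le_sup_right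
      hQW hQZ (fun w hw hf => h.inf_fx_le hne ⟨VZ_le_W V hw, hf⟩) (fun B hB hBc => nfVZ h hB hBc)
    have hlt0 : fx U (⊤ : Subgroup Y) < VZ Y V := lt_of_le_of_ne le_sup_right fun h0 => hVZ h0.ge
    obtain ⟨P, ⟨hIP, hlt⟩, hPmin⟩ := Set.exists_min_image {P : AddSubgroup U | I P ∧ fx U (⊤ : Subgroup Y) < P}
      (fun P => Nat.card P) (Set.toFinite _) ⟨VZ Y V, i1, hlt0⟩
    have h1 := i5 _ P i2 hIP hlt fun R hR h1 h2 => by
      rcases h1.eq_or_lt with h3 | h3
      · exact Or.inl h3.symm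
      · exact Or.inr (eq_of_card_le h2 (hPmin R ⟨hR, h3⟩))
    have hPle := (i3 P hIP).2
    have h2 := irr h (B₀ := P) (fun m hm v hv => i4 P hIP m (fun w hw => VZ_inv h hm hw)
      (fun z hz => Q.Z_smul hz m) (fun t ht => Hyp.QQ_conj ht m) v hv) hlt.le (hPle.trans (VZ_le_C h))
      (hPle.trans (VZ_le_W V)) (fun h0 => hlt.not_ge h0)
    -- `k`
    have hB' : cj k⁻¹ (A ⊓ pCore 2 Y) ≤ QQ A := by
      intro t ht
      rw [mem_cj, inv_inv] at ht
      have h1 := Hyp.QQ_conj (Hyp.A₁_le ht) k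
      have e : k⁻¹ * (k * t * k⁻¹) * k = t := by group
      rwa [e] at h1
    have h3 := quot_le hB' hQW hQZ
    rw [card_cj] at h3
    have h4 : Nat.card ↥(cj k⁻¹ (A ⊓ pCore 2 Y) ⊓ cf Y (VZ Y V)) = Nat.card ↥(A ⊓ pCore 2 Y ⊓ cf Y (k • V)) := by
      have e3 : cj k⁻¹ (A ⊓ pCore 2 Y) ⊓ cf Y (VZ Y V) = cj k⁻¹ (A ⊓ pCore 2 Y ⊓ cf Y (k • V)) := by
        ext a
        rw [mem_cj, inv_inv, Subgroup.mem_inf, Subgroup.mem_inf (x := k * a * k⁻¹), mem_cj, inv_inv, cf_conj]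
        have e : k⁻¹ * (k * a * k⁻¹) * k = a := by group
        rw [e]
        refine and_congr_right fun _ => ?_
        constructor
        · intro h5 v hv
          exact h5 v (AddSubgroup.mem_sup_left hv)
        · intro h5 v hv
          obtain ⟨x, hx, z, hz, rfl⟩ := AddSubgroup.mem_sup.1 hv
          rw [smul_add, h5 x hx, Q.Z_smul hz]
      rw [e3, card_cj]
    rw [h4] at h3
    have pK : 0 < Nat.card ↥(QQ A ⊓ cf Y (VZ Y V)) := Nat.card_pos
    have pQ : 0 < Nat.card (QQ A) := Nat.card_pos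
    set a := Nat.card A
    set a1 := Nat.card ↥(A ⊓ pCore 2 Y)
    set z := Nat.card (fx U (⊤ : Subgroup Y))
    set q := Nat.card (QQ A)
    set c := Nat.card ↥(QQ A ⊓ cf Y (VZ Y V))
    set e := Nat.card ↥(A ⊓ pCore 2 Y ⊓ cf Y (k • V))
    set w := Nat.card (VZ Y V)
    set p := Nat.card P
    -- `h1 : p (q z) ≤ z (w c)`, `h2 : a z ≤ a1 p`, `h3 : a1 c ≤ q e`
    have h5 : p * q ≤ w * c := by
      refine Nat.le_of_mul_le_mul_right ?_ pZ
      calc p * q * z = p * (q * z) := by ring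
        _ ≤ z * (w * c) := h1
        _ = w * c * z := by ring
    refine Nat.le_of_mul_le_mul_right ?_ (Nat.mul_pos (Nat.mul_pos pA1 pK) pQ)
    calc a * z * (a1 * c * q) ≤ (a1 * p) * (a1 * c * q) := Nat.mul_le_mul_right _ h2
      _ = (a1 * a1 * c) * (p * q) := by ring
      _ ≤ (a1 * a1 * c) * (w * c) := Nat.mul_le_mul_left _ h5
      _ = (a1 * w * c) * (a1 * c) := by ring
      _ ≤ (a1 * w * c) * (q * e) := Nat.mul_le_mul_left _ h3
      _ = w * e * (a1 * c * q) := by ring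

/-- the conclusions of THEOREM L for a TI group -/
structure Out (A M : Subgroup Y) (V : AddSubgroup U) : Prop where
  mm_eq : mm U A = Nat.card U
  card : Nat.card (VZ Y V) = Nat.card A * Nat.card (fx U (⊤ : Subgroup Y))
  C_eq : fx U A = VZ Y V
  sup : ∀ k, k ∉ M → k • V ⊔ fx U A = ⊤
  inf : ∀ k, k ∉ M → k • V ⊓ fx U A ≤ fx U (⊤ : Subgroup Y)
  cf : ∀ k, k ∉ M → A ⊓ pCore 2 Y ⊓ cf Y (k • V) = ⊥
  fx_eq : A ⊓ pCore 2 Y ≠ ⊥ → fx U (A ⊓ pCore 2 Y) = fx U A
  comm : ∀ t ∈ A ⊓ pCore 2 Y, ∀ u : U, t • u - u ∈ fx U (⊤ : Subgroup Y)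
  nf : ∀ k, k ∉ M → A ⊓ MulAut.conj k • M = A ⊓ pCore 2 Y

theorem core (h : Hyp A M V) : Out A M V := by
  classical
  set Z := fx U (⊤ : Subgroup Y) with hZ
  have pZ : 0 < Nat.card Z := Nat.card_pos
  have pC : 0 < Nat.card (fx U A) := Nat.card_pos
  have pA : 0 < Nat.card A := Nat.card_pos
  have key : ∀ k, k ∉ M → A ⊓ pCore 2 Y ⊓ cf Y (k • V) = ⊥ ∧
      Nat.card (VZ Y V) = Nat.card A * Nat.card Z ∧ mm U A = Nat.card U ∧ (k • VZ Y V) ⊔ fx U A = ⊤ := by
    intro k hk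
    set E := A ⊓ pCore 2 Y ⊓ cf Y (k • V) with hE
    have h1 := lower h k
    rw [← hE] at h1
    have h2 : (k • VZ Y V) ⊔ fx U A ≤ fx U E := by
      refine sup_le ?_ (fx_anti (inf_le_left.trans inf_le_left))
      intro v hv
      rw [mem_smul] at hv
      obtain ⟨x, hx, z, hz, e⟩ := AddSubgroup.mem_sup.1 hv
      have e2 : v = k • x + z := by
        rw [← smul_inv_smul k v, ← e, smul_add, Q.Z_smul hz]
      rw [e2]
      exact add_mem (le_cf.1 (inf_le_right : E ≤ _) (smul_mem' hx)) (Q.Z_le E hz)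
    have h3 : (k • VZ Y V) ⊓ fx U A ≤ Z := by
      rintro v ⟨hv, hvA⟩
      exact h.toQ.inf_le hk hvA (VZ_le_C h (mem_smul.1 hv))
    have h4 := card_sup_inf (k • VZ Y V) (fx U A)
    rw [card_smul'] at h4
    have h5 := card_le h3
    have h6 := card_le h2
    -- `|E| |V Z| |C| ≤ |E| |fx E| |Z|`
    have h7 : Nat.card (VZ Y V) * Nat.card (fx U A) ≤ Nat.card ↥((k • VZ Y V) ⊔ fx U A) * Nat.card Z := by
      rw [← h4]; exact Nat.mul_le_mul_left _ h5
    have h8 : mm U A ≤ mm U E := by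
      rw [mm, mm]
      refine Nat.le_of_mul_le_mul_right ?_ pZ
      calc Nat.card A * Nat.card (fx U A) * Nat.card Z = (Nat.card A * Nat.card Z) * Nat.card (fx U A) := by ring
        _ ≤ (Nat.card (VZ Y V) * Nat.card E) * Nat.card (fx U A) := Nat.mul_le_mul_right _ h1
        _ = Nat.card E * (Nat.card (VZ Y V) * Nat.card (fx U A)) := by ring
        _ ≤ Nat.card E * (Nat.card ↥((k • VZ Y V) ⊔ fx U A) * Nat.card Z) := Nat.mul_le_mul_left _ h7
        _ ≤ Nat.card E * (Nat.card (fx U E) * Nat.card Z) :=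
          Nat.mul_le_mul_left _ (Nat.mul_le_mul_right _ h6)
        _ = _ := by ring
    have hEA : E < A := lt_of_le_of_lt inf_le_left h.A₁_lt
    have hE0 : E = ⊥ := by
      by_contra h0
      exact absurd (h.min E hEA h0) (not_lt.2 h8)
    rw [hE0, mm_bot] at h8
    have hmm : mm U A = Nat.card U := le_antisymm h8 h.off
    rw [hE0, Subgroup.card_bot, mul_one] at h1
    have h9 := card_le_top ((k • VZ Y V) ⊔ fx U A)
    have h10 : Nat.card ↥((k • VZ Y V) ⊔ fx U A) = Nat.card U := by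
      apply le_antisymm h9
      refine Nat.le_of_mul_le_mul_right ?_ pZ
      calc Nat.card U * Nat.card Z = Nat.card A * Nat.card Z * Nat.card (fx U A) := by rw [← hmm, mm]; ring
        _ ≤ Nat.card (VZ Y V) * Nat.card (fx U A) := Nat.mul_le_mul_right _ h1
        _ ≤ _ := h7
    have h11 : Nat.card (VZ Y V) = Nat.card A * Nat.card Z := by
      apply le_antisymm _ h1
      refine Nat.le_of_mul_le_mul_right ?_ pC
      calc Nat.card (VZ Y V) * Nat.card (fx U A) ≤ Nat.card ↥((k • VZ Y V) ⊔ fx U A) * Nat.card Z := h7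
        _ = Nat.card A * Nat.card (fx U A) * Nat.card Z := by rw [h10, ← hmm, mm]
        _ = _ := by ring
    exact ⟨hE0, h11, hmm, eq_of_card_le le_top (by rw [h10, card_top])⟩
  obtain ⟨g, hg⟩ := h.ti.exists_not_mem
  obtain ⟨-, h1, h2, h3⟩ := key g hg
  -- `D = U`
  have hD : Act.D U A = ⊤ := by
    rw [eq_top_iff, ← h3]
    refine sup_le ?_ Q.C_le_D
    refine le_trans ?_ (Q.smul_C_le_D g)
    exact AddSubgroup.pointwise_smul_le_pointwise_smul_iff.2 (VZ_le_C h)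
  have sT : Sec U A (⊤ : AddSubgroup U) := ⟨le_top, hD.ge, fun _ _ _ => trivial⟩
  have h4 := sT.card h.toQ
  rw [top_inf_eq, card_top, ← h2, mm] at h4
  have h5 : Nat.card (fx U A) = Nat.card A * Nat.card Z := by
    refine Nat.eq_of_mul_eq_mul_right pC ?_
    rw [← h4]; ring
  have hC : fx U A = VZ Y V := (eq_of_card_le (VZ_le_C h) (by rw [h1, h5])).symm
  have hsup : ∀ k, k ∉ M → k • V ⊔ fx U A = ⊤ := by
    intro k hk
    rw [eq_top_iff, ← (key k hk).2.2.2]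
    refine sup_le ?_ le_sup_right
    intro v hv
    rw [mem_smul] at hv
    obtain ⟨x, hx, z, hz, e⟩ := AddSubgroup.mem_sup.1 hv
    have e2 : v = k • x + z := by
      rw [← smul_inv_smul k v, ← e, smul_add, Q.Z_smul hz]
    rw [e2]
    exact add_mem (AddSubgroup.mem_sup_left (smul_mem' hx)) (AddSubgroup.mem_sup_right (Q.Z_le A hz))
  have hWt : W Y V = ⊤ := by
    rw [eq_top_iff, ← hsup g hg, hC]
    exact sup_le (smul_le_W V g) (VZ_le_W V)
  refine ⟨h2, h1, hC, hsup, ?_, fun k hk => (key k hk).1, ?_, ?_, ?_⟩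
  · intro k hk v hv
    exact h.toQ.inf_le hk hv.2 (h.V_le_C (mem_smul.1 hv.1))
  · -- `C_U(A ∩ O) = C_U(A)`
    intro hne
    refine le_antisymm ?_ (fx_anti inf_le_left)
    obtain ⟨I, i1, i2, i3, i4, i5⟩ := ring_W h hne
    have hWZ : ¬ W Y V ≤ Z := fun h0 => h.nz ((V_le_W V).trans h0)
    have hlt0 : Z < W Y V := lt_of_le_of_ne (Z_le_W V) fun h0 => hWZ h0.ge
    obtain ⟨P, ⟨hIP, hlt⟩, hPmin⟩ := Set.exists_min_image {P : AddSubgroup U | I P ∧ Z < P}
      (fun P => Nat.card P) (Set.toFinite _) ⟨W Y V, i1, hlt0⟩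
    have j1 := i5 _ P i2 hIP hlt fun R hR h1 h2 => by
      rcases h1.eq_or_lt with h3 | h3
      · exact Or.inl h3.symm
      · exact Or.inr (eq_of_card_le h2 (hPmin R ⟨hR, h3⟩))
    have sP : Sec U A P := ⟨(i3 P hIP).1, by rw [hD]; exact le_top, i4 P hIP⟩
    have j2 := sP.index h.toQ h.secZ hlt
    have j3 : Z ⊓ fx U A = Z := inf_eq_left.2 (Q.Z_le A)
    rw [← hZ, j3] at j2
    have j4 := sP.card h.toQ
    have hcf : cf Y (W Y V) = ⊥ := by
      rw [Subgroup.eq_bot_iff_forall]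
      intro y hy
      apply h.faith
      intro u
      exact hy u (by rw [hWt]; trivial)
    rw [hcf, inf_bot_eq, Subgroup.card_bot, mul_one, hWt, card_top, ← h2, mm, h5] at j1
    have pP : 0 < Nat.card P := Nat.card_pos
    -- `|Q| ≤ |A ∩ O|²`
    have j5 : Nat.card (QQ A) ≤ Nat.card ↥(A ⊓ pCore 2 Y) * Nat.card ↥(A ⊓ pCore 2 Y) := by
      refine Nat.le_of_mul_le_mul_right ?_ (Nat.mul_pos pP (Nat.mul_pos pZ pZ))
      calc Nat.card (QQ A) * (Nat.card P * (Nat.card Z * Nat.card Z))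
          = (Nat.card P * (Nat.card (QQ A) * Nat.card Z)) * Nat.card Z := by ring
        _ ≤ (Nat.card Z * (Nat.card A * (Nat.card A * Nat.card Z))) * Nat.card Z := Nat.mul_le_mul_right _ j1
        _ = (Nat.card A * Nat.card Z) * (Nat.card A * Nat.card Z) * Nat.card Z := by ring
        _ ≤ (Nat.card ↥(A ⊓ pCore 2 Y) * Nat.card ↥(P ⊓ fx U A)) *
            (Nat.card ↥(A ⊓ pCore 2 Y) * Nat.card ↥(P ⊓ fx U A)) * Nat.card Z :=
          Nat.mul_le_mul_right _ (Nat.mul_le_mul j2 j2)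
        _ = Nat.card ↥(A ⊓ pCore 2 Y) * Nat.card ↥(A ⊓ pCore 2 Y) *
            ((Nat.card ↥(P ⊓ fx U A) * Nat.card ↥(P ⊓ fx U A)) * Nat.card Z) := by ring
        _ = _ := by rw [← j4]; ring
    -- `C_Q(A) = A ∩ O`
    set K : Subgroup Y := QQ A ⊓ Subgroup.centralizer (A : Set Y) with hK
    have j6 := h.theta (B := K) inf_le_left fun b hb a ha => (Subgroup.mem_centralizer_iff.1 hb.2 a ha)
    rw [hcf, inf_bot_eq, inf_bot_eq, Subgroup.card_bot, mul_one, mul_one] at j6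
    have j7 : A ⊓ pCore 2 Y ≤ K := le_inf Hyp.A₁_le fun t ht => Subgroup.mem_centralizer_iff.2 fun a ha =>
      h.ea.comm ha ht.1
    have j8 : A ⊓ pCore 2 Y = K := Subgroup.eq_of_le_of_card_ge j7 (le_of_sq (by
      calc _ ≤ Nat.card (QQ A) * 1 := j6
        _ = Nat.card (QQ A) := mul_one _
        _ ≤ _ := j5))
    intro w hw
    obtain ⟨a, ha, haO⟩ := SetLike.not_le_iff_exists.1 h.ti.not_le_pCore
    have hcomm : ∀ t ∈ QQ A, ∀ u : U, t • u - u ∈ Z := fun t ht u => h.comm_QQ ht (by rw [hWt]; trivial)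
    have hai : ∀ t ∈ QQ A, ∀ b ∈ A, ∀ u : U, (b * t * b⁻¹) • u - u = t • b⁻¹ • u - b⁻¹ • u := by
      intro t ht b _ u
      have e : (b * t * b⁻¹) • u - u = b • (t • b⁻¹ • u - b⁻¹ • u) := by
        rw [smul_sub, smul_inv_smul, mul_smul, mul_smul]
      rw [e, Q.Z_smul (hcomm t ht _)]
    have hn : (QQ A).Normal := Hyp.QQ_normal
    -- `[w, a] ∈ C_U(Q)`
    have j9 : a⁻¹ • w - w ∈ fx U (QQ A) := by
      intro t ht
      have haI : a⁻¹ ∈ A := A.inv_mem ha
      -- `c = a t a⁻¹ t⁻¹` is in `K`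
      have hcQ : a * t * a⁻¹ * t⁻¹ ∈ QQ A := (QQ A).mul_mem (hn.conj_mem t ht a) ((QQ A).inv_mem ht)
      have hτ : ∀ u : U, (a * t * a⁻¹ * t⁻¹) • u - u = t • (a⁻¹ • u - u) - (a⁻¹ • u - u) := by
        intro u
        have e1 : (a * t * a⁻¹ * t⁻¹) • u = (a * t * a⁻¹) • (t⁻¹ • u) := by rw [mul_smul (a * t * a⁻¹)]
        have e2 : t⁻¹ • u = u - (t • u - u) := by
          have h7 := Q.Z_smul (hcomm t ht u) t⁻¹
          rw [smul_sub, inv_smul_smul] at h7
          have : t⁻¹ • u = u - (u - t⁻¹ • u) := by abel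
          rw [this, h7]
        have e3 := hai t ht a ha u
        have e4 : (a * t * a⁻¹) • (t • u - u) = t • u - u := Q.Z_smul (hcomm t ht u) _
        rw [e1, e2, smul_sub, e4]
        have e5 : (a * t * a⁻¹) • u = u + (t • a⁻¹ • u - a⁻¹ • u) := by rw [← e3]; abel
        rw [e5, smul_sub]; abel
      have hcK : a * t * a⁻¹ * t⁻¹ ∈ K := by
        refine ⟨hcQ, Subgroup.mem_centralizer_iff.2 fun b hb => ?_⟩
        have h6 : b * (a * t * a⁻¹ * t⁻¹) * b⁻¹ = a * t * a⁻¹ * t⁻¹ := by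
          have h7 : (a * t * a⁻¹ * t⁻¹)⁻¹ * (b * (a * t * a⁻¹ * t⁻¹) * b⁻¹) = 1 := by
            apply h.faith
            intro u
            rw [mul_smul, inv_smul_eq_iff]
            have e1 := hai _ hcQ b hb u
            have e2 := hτ (b⁻¹ • u)
            have e3 := hτ u
            have e4 : a⁻¹ • b⁻¹ • u - b⁻¹ • u = a⁻¹ • u - u := by
              have h8 := h.toQ.quad _ haI _ (A.inv_mem hb) u
              have h9 : a⁻¹ • b⁻¹ • u = b⁻¹ • a⁻¹ • u := by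
                rw [smul_smul, smul_smul, h.ea.comm haI (A.inv_mem hb)]
              rw [h9, ← smul_sub]; exact h8
            rw [e4] at e2
            have e5 : (b * (a * t * a⁻¹ * t⁻¹) * b⁻¹) • u - u = (a * t * a⁻¹ * t⁻¹) • u - u := by
              rw [e1, e2, e3]
            exact sub_left_injective e5
          exact (inv_mul_eq_one.1 h7).symm
        have h8 : b * (a * t * a⁻¹ * t⁻¹) = a * t * a⁻¹ * t⁻¹ * b := by
          calc b * (a * t * a⁻¹ * t⁻¹) = (b * (a * t * a⁻¹ * t⁻¹) * b⁻¹) * b := by group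
            _ = _ := by rw [h6]
        exact h8
      rw [← j8] at hcK
      have h9 := hw _ hcK
      have h10 := hτ w
      rw [h9, sub_self] at h10
      exact (sub_eq_zero.1 h10.symm)
    have j10 : a⁻¹ • w - w ∈ Z := h.inf_fx_le hne ⟨by rw [hWt]; trivial, j9⟩
    exact h.toQ.mem_C (A.inv_mem ha) (fun h0 => haO (by
      have := (pCore 2 Y).inv_mem h0
      rwa [inv_inv] at this)) (by rw [hD]; trivial) j10
  · intro t ht u
    exact h.comm_A₁ ht (by rw [hWt]; trivial)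
  · intro k hk
    apply le_antisymm
    · exact le_inf inf_le_left (h.toQ.inf_core hk)
    · refine le_inf inf_le_left ?_
      intro t ht
      have hn : (pCore 2 Y).Normal := Lib.Cores.pCore_normal 2
      rw [MinFF.mem_cj]
      apply h.toQ.core_le
      have := hn.conj_mem t ht.2 k⁻¹
      rwa [inv_inv] at this

end Cfsg.Agent.Omega.NO3b.TheoremL.Core3

end

section


/-!
# THEOREM L (#18749, helper344): TIGHT, for every `q`, every `X`, every `T ≤ S`

`X` finite acts faithfully on the elementary abelian 2-group `U`, `N_X(V)` is the unique maximal subgroup of `X` over the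
Sylow 2-subgroup `S`; `F ≤ V ≤ U` is centralised by `X`, `V ∩ V^x ≤ F` for `V^x ≠ V`; `V` is not FF for `N_X(V)`
(`DatU S V F`).  `B` is an elementary abelian 2-subgroup, `B ≰ O₂(X)`, `|U| ≤ f(B)`, `f(E) < f(B)` for `1 ≠ E < B`
(`MBU`), `f(E) = |E| |C_U(E)|`.  Then (`tight`): `f(B) = |U|`, `|V : F| = |B|`, and for every line `V^x` which is not
`B`-invariant `U = V^x C_U(B)`, `V^x ∩ C_U(B) = F`, `N_B(V^x) = B ∩ O₂(X)` acts faithfully on `V^x`; `[U, B ∩ O₂(X)] ≤ F`;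
`C_U(B ∩ O₂(X)) = C_U(B)` if `B ∩ O₂(X) ≠ 1`.  `noover`: no `E` with `C_U(E) ≥ C_U(B)` is an over-offender.
-/

set_option autoImplicit false
set_option linter.unusedSectionVars false
set_option linter.dupNamespace false

namespace Cfsg.Agent.Omega.NO3b.TheoremL.Tight

open Cfsg.Agent.Omega.FF.Basic
open Cfsg.Agent.Omega.NO3b.Exit.TT
open Cfsg.Agent.Omega.NO3b.TheoremL.Act (Q)
open Cfsg.Agent.Omega.NO3b.TheoremL.Core1 (Hyp)
open Cfsg.Agent.Omega.NO3b.TheoremL.Core3 (Out core VZ)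
open Cfsg.Agent.Omega.MinFF (TI)
open Cfsg (pCore)
open scoped Pointwise

/-- The hypotheses. -/
structure DatU {X : Type*} [Group X] {U : Type*} [AddCommGroup U] [DistribMulAction X U] (S : Sylow 2 X)
    (V F : AddSubgroup U) : Prop where
  two : ∀ u : U, u + u = 0
  faith : ∀ x : X, (∀ u : U, x • u = u) → x = 1
  SV : (S : Subgroup X) ≤ nf X V
  ne : nf X V ≠ ⊤
  uniq : ∀ K : Subgroup X, (S : Subgroup X) ≤ K → K ≠ ⊤ → K ≤ nf X V
  FV : F ≤ V
  Fx : ∀ (x : X), ∀ f ∈ F, x • f = f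
  ti : ∀ x : X, x • V ≠ V → V ⊓ x • V ≤ F
  nff : ∀ A : Subgroup X, IsPGroup 2 A → A ≤ nf X V → (∀ a ∈ A, ∀ v ∈ V, a • a • v = v) → ¬ A ≤ cf X V →
    Nat.card A * Nat.card ↥(V ⊓ fx U A) < Nat.card V * Nat.card ↥(A ⊓ cf X V)

/-- a best offender, minimal in itself, which is not contained in `O₂(X)` -/
structure MBU {X : Type*} [Group X] (U : Type*) [AddCommGroup U] [DistribMulAction X U] (B : Subgroup X) : Prop where
  ea : EA B
  nle : ¬ B ≤ pCore 2 X
  off : Nat.card U ≤ mm U B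
  min : ∀ E : Subgroup X, E < B → E ≠ ⊥ → mm U E < mm U B

variable {X : Type*} [Group X] {U : Type*} [AddCommGroup U] [DistribMulAction X U] {S : Sylow 2 X}
  {V F : AddSubgroup U} {B : Subgroup X}

/-- the conclusions for the line `V^x` -/
structure TightAt (B : Subgroup X) (V F : AddSubgroup U) (x : X) : Prop where
  sup : x • V ⊔ fx U B = ⊤
  inf : x • V ⊓ fx U B = F
  nf_eq : B ⊓ nf X (x • V) = B ⊓ pCore 2 X
  cf_eq : B ⊓ pCore 2 X ⊓ cf X (x • V) = ⊥

/-- the conclusions -/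
structure Tight (B : Subgroup X) (V F : AddSubgroup U) : Prop where
  mm_eq : mm U B = Nat.card U
  card : Nat.card B * Nat.card F = Nat.card V
  fx_eq : B ⊓ pCore 2 X ≠ ⊥ → fx U (B ⊓ pCore 2 X) = fx U B
  comm : ∀ b ∈ B ⊓ pCore 2 X, ∀ u : U, b • u - u ∈ F
  ex : ∃ x : X, ¬ B ≤ nf X (x • V)
  all : ∀ x : X, ¬ B ≤ nf X (x • V) → TightAt B V F x

namespace DatU

variable (h : DatU S V F)
include h

theorem F_smul (x : X) : x • F = F := by
  ext w
  rw [mem_smul]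
  constructor
  · intro hw
    have := h.Fx x _ hw
    rw [smul_inv_smul] at this
    rw [this]; exact hw
  · intro hw
    rw [h.Fx x⁻¹ w hw]; exact hw

theorem F_le (x : X) : F ≤ x • V := by
  rw [← h.F_smul x]
  exact AddSubgroup.pointwise_smul_le_pointwise_smul_iff.2 h.FV

theorem F_fx (A : Subgroup X) : F ≤ fx U A := fun f hf a _ => h.Fx a f hf

/-- (TI) for two lines -/
theorem ti' {x y : X} (hne : x • V ≠ y • V) : x • V ⊓ y • V ≤ F := by
  have h1 : (x⁻¹ * y) • V ≠ V := by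
    intro h0
    apply hne
    have := congrArg (fun U : AddSubgroup U => x • U) h0
    simp only [smul_smul, mul_inv_cancel_left] at this
    exact this.symm
  intro w hw
  have h2 : x⁻¹ • w ∈ F := by
    apply h.ti _ h1
    refine ⟨mem_smul.1 hw.1, ?_⟩
    have h3 : y⁻¹ • w ∈ V := mem_smul.1 hw.2
    have e : ((x⁻¹ * y)⁻¹ • x⁻¹ • w : U) = y⁻¹ • w := by
      rw [smul_smul]; congr 1; group
    exact mem_smul.2 (by rw [e]; exact h3)
  have h3 := h.Fx x _ h2
  rw [smul_inv_smul] at h3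
  rw [h3]; exact h2

/-- NF for the line `V^x` -/
theorem nff' (x : X) {A : Subgroup X} (hA : IsPGroup 2 A) (hAn : A ≤ nf X (x • V))
    (hsq : ∀ a ∈ A, ∀ v ∈ x • V, a • a • v = v) (hne : ¬ A ≤ cf X (x • V)) :
    Nat.card A * Nat.card ↥(x • V ⊓ fx U A) < Nat.card V * Nat.card ↥(A ⊓ cf X (x • V)) := by
  have h1 := h.nff (cj x⁻¹ A) (isPGroup_cj _ hA) (fun a ha => by
      rw [mem_cj, inv_inv] at ha
      have h2 := hAn ha
      rw [nf_conj] at h2
      have e : x⁻¹ * (x * a * x⁻¹) * x = a := by group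
      rwa [e] at h2) (fun a ha v hv => by
      rw [mem_cj, inv_inv] at ha
      have h2 := hsq _ ha _ (smul_mem' (x := x) hv)
      rw [smul_smul, smul_smul] at h2
      have e : x * a * x⁻¹ * (x * a * x⁻¹) * x = x * (a * a) := by group
      rw [e, mul_smul] at h2
      rw [smul_smul]
      exact smul_left_cancel x h2) (fun h0 => hne (fun a ha => by
      rw [cf_conj]
      have h2 := h0 (mem_cj_of (g := x⁻¹) ha)
      rwa [inv_inv] at h2))
  rw [card_cj] at h1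
  have e1 : Nat.card ↥(V ⊓ fx U (cj x⁻¹ A)) = Nat.card ↥(x • V ⊓ fx U A) := by
    refine (card_smul x fun v => ?_).symm
    constructor
    · rintro ⟨h2, h3⟩
      exact ⟨mem_smul.1 h2, smul_mem_fx_cj h3⟩
    · rintro ⟨h2, h3⟩
      have h3' := mem_fx_cj.1 h3
      rw [inv_inv, smul_inv_smul] at h3'
      exact ⟨mem_smul.2 h2, h3'⟩
  have e2 : Nat.card ↥(cj x⁻¹ A ⊓ cf X V) = Nat.card ↥(A ⊓ cf X (x • V)) := by
    have e3 : cj x⁻¹ A ⊓ cf X V = cj x⁻¹ (A ⊓ cf X (x • V)) := by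
      ext a
      rw [mem_cj, inv_inv, Subgroup.mem_inf, Subgroup.mem_inf, mem_cj, inv_inv, cf_conj]
      have e : x⁻¹ * (x * a * x⁻¹) * x = a := by group
      rw [e]
    rw [e3, card_cj]
  rw [e1, e2] at h1
  exact h1

/-- `C_{V^g}(b) ≤ F` if `b` moves the line `V^g` -/
theorem fe_inf {g b : X} (hb : b ∉ nf X (g • V)) : g • V ⊓ fe U b ≤ F := by
  rintro v ⟨h1, h2⟩
  refine h.ti' (x := g) (y := b * g) ?_ ⟨h1, ?_⟩
  · intro h0
    apply hb
    rw [mem_nf, ← mul_smul]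
    exact h0.symm
  · rw [mul_smul]
    have h3 := smul_mem' (x := b) h1
    have h4 : b • v = v := h2
    rwa [h4] at h3

/-- `C_{V^g}(B) = F` -/
theorem fx_inf {g : X} (hg : ¬ B ≤ nf X (g • V)) : g • V ⊓ fx U B = F := by
  refine le_antisymm ?_ (le_inf (h.F_le g) (h.F_fx B))
  rw [SetLike.not_le_iff_exists] at hg
  obtain ⟨b, hb, hbn⟩ := hg
  exact (inf_le_inf_left _ (fx_le_fe hb)).trans (fe_inf h hbn)

variable [Finite X]

theorem core_nf (x : X) : pCore 2 X ≤ nf X (x • V) := by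
  intro q hq
  rw [nf_conj]
  have hn : (pCore 2 X).Normal := Lib.Cores.pCore_normal 2
  have h1 : x⁻¹ * q * x ∈ pCore 2 X := by
    have := hn.conj_mem q hq x⁻¹
    rwa [inv_inv] at this
  exact h.SV (Lib.Cores.pCore_le_sylow S h1)

variable [Finite U]

/-- a best offender which normalises a line centralises it. -/
theorem bo_cent {A : Subgroup X} (hA : BO U A) {x : X} (hx : A ≤ nf X (x • V)) : A ≤ cf X (x • V) := by
  by_contra hne
  have h1 := h.nff' x hA.ea.isPGroup hx (fun a ha v _ => by rw [smul_smul, hA.ea a ha, one_smul]) hne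
  set E := A ⊓ cf X (x • V) with hE
  have h2 := hA.le E inf_le_left
  have h3 : x • V ⊔ fx U A ≤ fx U E := by
    refine sup_le ?_ (fx_anti inf_le_left)
    exact le_cf.1 inf_le_right
  have h4 := card_sup_inf (x • V) (fx U A)
  have h5 := card_le h3
  rw [card_smul'] at h4
  rw [mm, mm] at h2
  have h6 : Nat.card V * Nat.card E ≤ Nat.card A * Nat.card ↥(x • V ⊓ fx U A) := by
    have p : 0 < Nat.card (fx U A) := Nat.card_pos
    refine Nat.le_of_mul_le_mul_right ?_ p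
    calc Nat.card V * Nat.card E * Nat.card (fx U A) = Nat.card E * (Nat.card V * Nat.card (fx U A)) := by ring
      _ = Nat.card E * (Nat.card ↥(x • V ⊔ fx U A) * Nat.card ↥(x • V ⊓ fx U A)) := by rw [h4]
      _ ≤ Nat.card E * (Nat.card (fx U E) * Nat.card ↥(x • V ⊓ fx U A)) :=
        Nat.mul_le_mul_left _ (Nat.mul_le_mul_right _ h5)
      _ = Nat.card E * Nat.card (fx U E) * Nat.card ↥(x • V ⊓ fx U A) := by ring
      _ ≤ Nat.card A * Nat.card (fx U A) * Nat.card ↥(x • V ⊓ fx U A) := Nat.mul_le_mul_right _ h2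
      _ = _ := by ring
  exact absurd h1 (not_lt.2 h6)

end DatU

theorem MBU.bo [Finite X] [Finite U] (m : MBU U B) : BO U B where
  ea := m.ea
  le := fun E hE => by
    by_cases h0 : E = ⊥
    · rw [h0, mm_bot]; exact m.off
    · rcases hE.eq_or_lt with h1 | h1
      · rw [h1]
      · exact (m.min E h1 h0).le

theorem MBU.ne_bot (m : MBU U B) : B ≠ ⊥ := fun h0 => m.nle (h0 ▸ bot_le)

section sub

variable {Y₀ : Subgroup X}

theorem fx_sub {E : Subgroup Y₀} : fx U (E.map Y₀.subtype) = fx U E := by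
  ext u
  constructor
  · intro hu e he
    exact hu e ⟨e, he, rfl⟩
  · rintro hu _ ⟨e, he, rfl⟩
    exact hu e he

theorem card_sub (E : Subgroup Y₀) : Nat.card (E.map Y₀.subtype) = Nat.card E :=
  (Nat.card_congr (Subgroup.equivMapOfInjective _ _ Y₀.subtype_injective).toEquiv).symm

theorem mm_sub (E : Subgroup Y₀) : mm U (E.map Y₀.subtype) = mm U E := by
  rw [mm, mm, fx_sub, card_sub]

theorem map_sub {E : Subgroup X} (hE : E ≤ Y₀) : (E.subgroupOf Y₀).map Y₀.subtype = E := by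
  rw [Subgroup.subgroupOf_map_subtype, inf_eq_left.2 hE]

end sub

/-- THEOREM L for `X₁ = ⟨B, B^x⟩` -/
theorem exists_out [Finite X] [Finite U] (h : DatU S V F) (m : MBU U B) :
    ∃ (Y₀ : Subgroup X) (y : X), B ≤ Y₀ ∧ Hyp (B.subgroupOf Y₀) ((MulAut.conj y • nf X V).subgroupOf Y₀) (y • V) := by
  obtain ⟨x, y, hti⟩ := Lift.exists_ti S (nf X V) h.SV h.ne h.uniq m.ea.isPGroup m.nle
  set Y₀ := B ⊔ MulAut.conj x • B with hY₀
  have hB : B ≤ Y₀ := le_sup_left
  have hBm := map_sub hB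
  refine ⟨Y₀, y, hB, Hyp.of_nff h.two (fun z hz => Subtype.ext (h.faith z fun u => hz u)) hti ?_ ?_ ?_ ?_ ?_ ?_⟩
  · intro a ha
    exact Subtype.ext (m.ea _ (Subgroup.mem_subgroupOf.1 ha))
  · rw [← mm_sub, hBm]; exact m.off
  · intro E hE hE0
    rw [← mm_sub E, ← mm_sub (B.subgroupOf Y₀), hBm]
    refine m.min _ ?_ ?_
    · rw [← hBm]
      exact lt_of_le_of_ne (Subgroup.map_mono hE.le) fun h0 =>
        hE.ne (Subgroup.map_injective Y₀.subtype_injective h0)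
    · intro h0
      exact hE0 ((Subgroup.map_eq_bot_iff_of_injective _ Y₀.subtype_injective).1 h0)
  · intro z hz
    have h1 := MinFF.mem_cj.1 (Subgroup.mem_subgroupOf.1 hz)
    rw [← nf_conj] at h1
    exact h1
  · intro A hA hAM hsq hne
    have hAn : A.map Y₀.subtype ≤ nf X (y • V) := by
      rintro _ ⟨a, ha, rfl⟩
      have h1 := MinFF.mem_cj.1 (Subgroup.mem_subgroupOf.1 (hAM ha))
      rw [← nf_conj] at h1
      exact h1
    have h1 := h.nff' y (hA.map Y₀.subtype) hAn (by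
      rintro _ ⟨a, ha, rfl⟩ v hv
      exact hsq a ha v hv) (fun h0 => hne fun a ha => h0 ⟨a, ha, rfl⟩)
    rw [card_sub, fx_sub] at h1
    have h2 : A.map Y₀.subtype ⊓ cf X (y • V) = (A ⊓ cf Y₀ (y • V)).map Y₀.subtype := by
      ext z
      constructor
      · rintro ⟨⟨a, ha, rfl⟩, hz⟩
        exact ⟨a, ⟨ha, hz⟩, rfl⟩
      · rintro ⟨a, ⟨ha, hz⟩, rfl⟩
        exact ⟨⟨a, ha, rfl⟩, hz⟩
    rw [h2, card_sub] at h1
    rw [card_smul']
    exact h1
  · intro h0
    apply hti.ne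
    rw [eq_top_iff]
    intro z _
    rw [Subgroup.mem_subgroupOf, MinFF.mem_cj, ← nf_conj]
    refine cf_le_nf (y • V) ?_
    intro v hv
    exact h0 hv z (Subgroup.mem_top z)

/-- **TIGHT** -/
theorem tight [Finite X] [Finite U] (h : DatU S V F) (m : MBU U B) : Tight B V F := by
  obtain ⟨Y₀, y, hB, hy⟩ := exists_out h m
  have o := core hy
  have hBm := map_sub hB
  set A := B.subgroupOf Y₀ with hA
  set M := (MulAut.conj y • nf X V).subgroupOf Y₀ with hM
  have memM : ∀ k : Y₀, k ∈ M ↔ (k : X) ∈ nf X (y • V) := by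
    intro k
    rw [hM, Subgroup.mem_subgroupOf, MinFF.mem_cj, ← nf_conj]
  have mmB : mm U B = Nat.card U := by rw [← hBm, mm_sub]; exact o.mm_eq
  obtain ⟨k, hk⟩ := hy.ti.exists_not_mem
  have pF : 0 < Nat.card F := Nat.card_pos
  have pZ : 0 < Nat.card (fx U (⊤ : Subgroup Y₀)) := Nat.card_pos
  -- `V^y ∩ Z = F`
  have hVZ : (y • V) ⊓ fx U (⊤ : Subgroup Y₀) = F := by
    apply le_antisymm
    · rintro v ⟨hv, hvZ⟩
      have hne : y • V ≠ ((k : X) * y) • V := by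
        intro h0
        apply hk
        rw [memM, mem_nf, ← mul_smul]
        exact h0.symm
      refine h.ti' hne ⟨hv, ?_⟩
      have h2 : (k : X) • v = v := hvZ k (Subgroup.mem_top k)
      rw [← h2, mul_smul]
      exact smul_mem' hv
    · exact le_inf (h.F_le y) fun f hf k _ => h.Fx (k : X) f hf
  have hcardA : Nat.card A = Nat.card B := by rw [← card_sub, hBm]
  have hcard : Nat.card B * Nat.card F = Nat.card V := by
    have h1 := card_sup_inf (y • V) (fx U (⊤ : Subgroup Y₀))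
    rw [hVZ, card_smul'] at h1
    have h2 := o.card
    rw [hcardA] at h2
    refine Nat.eq_of_mul_eq_mul_right pZ ?_
    rw [← h1, h2]; ring
  have hall : ∀ x : X, ¬ B ≤ nf X (x • V) → TightAt B V F x := by
    intro x hx
    have hinf := h.fx_inf hx
    have hsup : x • V ⊔ fx U B = ⊤ := by
      refine eq_of_card_le le_top ?_
      have h1 := card_sup_inf (x • V) (fx U B)
      rw [hinf, card_smul', ← hcard] at h1
      rw [card_top, ← mmB, mm]
      refine Nat.le_of_mul_le_mul_right ?_ pF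
      rw [h1]
      exact le_of_eq (by ring)
    have hcomm : ∀ b ∈ B, b ∈ nf X (x • V) → ∀ u : U, b • u - u ∈ F := by
      intro b hb hbn u
      have hu : u ∈ x • V ⊔ fx U B := by rw [hsup]; trivial
      obtain ⟨v, hv, c, hc, rfl⟩ := mem_sup hu
      have e : b • (v + c) - (v + c) = (b • v - v) + (b • c - c) := by rw [smul_add]; abel
      rw [e, hc b hb, sub_self, add_zero, ← hinf]
      exact AddSubgroup.mem_inf.2 ⟨sub_mem (nf_smul hbn hv) hv, fun c hc =>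
        quad' h.two m.ea m.ne_bot m.off m.min b hb c hc v⟩
    have hKF : ∀ b : X, (∀ u : U, b • u - u ∈ F) → b ∈ pCore 2 X := by
      have h1 : KF X F h.Fx ≤ pCore 2 X := by
        refine Lib.Cores.le_pCore ⟨fun a ha g => ?_⟩ ?_
        · intro w
          have h1 := ha (g⁻¹ • w)
          have h2 := h.Fx g _ h1
          have e : (g * a * g⁻¹) • w - w = g • (a • g⁻¹ • w - g⁻¹ • w) := by
            rw [smul_sub, smul_inv_smul, mul_smul, mul_smul]
          rw [e, h2]; exact h1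
        · intro a
          refine ⟨1, Subtype.ext ?_⟩
          have h3 : (a : X) * a = 1 := by
            apply h.faith
            intro u
            have h4 := h.Fx a _ (a.2 u)
            have e : ((a : X) * a) • u = (a : X) • ((a : X) • u - u) + (a : X) • u := by
              rw [mul_smul, smul_sub]; abel
            rw [e, h4]
            have e2 : (a : X) • u - u + (a : X) • u = ((a : X) • u + (a : X) • u) - u := by abel
            rw [e2, h.two, zero_sub]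
            exact neg_eq_of_add_eq_zero_left (h.two u)
          simpa [pow_two] using h3
      intro b hb
      exact h1 hb
    refine ⟨hsup, hinf, ?_, ?_⟩
    · apply le_antisymm
      · rintro b ⟨hb, hbn⟩
        exact ⟨hb, hKF b (hcomm b hb hbn)⟩
      · exact inf_le_inf_left _ (h.core_nf x)
    · rw [Subgroup.eq_bot_iff_forall]
      rintro b ⟨⟨hb, -⟩, hbc⟩
      apply h.faith
      intro u
      have hu : u ∈ x • V ⊔ fx U B := by rw [hsup]; trivial
      obtain ⟨v, hv, c, hc, rfl⟩ := mem_sup hu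
      rw [smul_add, hbc v hv, hc b hb]
  -- a moved line
  have hx : ¬ B ≤ nf X (((k : X) * y) • V) := by
    intro h0
    apply hk
    apply hy.ti.ti
    intro a ha
    rw [MinFF.mem_cj, memM]
    have h1 := h0 (Subgroup.mem_subgroupOf.1 ha)
    rw [mul_smul, nf_conj] at h1
    exact h1
  have tx := hall _ hx
  refine ⟨mmB, hcard, ?_, ?_, ⟨_, hx⟩, hall⟩
  · -- `C_U(B ∩ O₂(X)) = C_U(B)`
    intro hne
    have h1 := o.nf k hk
    have h2 : (A ⊓ pCore 2 Y₀).map Y₀.subtype = B ⊓ pCore 2 X := by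
      rw [← h1, ← tx.nf_eq]
      ext b
      constructor
      · rintro ⟨a, ⟨ha, hak⟩, rfl⟩
        refine ⟨Subgroup.mem_subgroupOf.1 ha, ?_⟩
        have h3 := MinFF.mem_cj.1 hak
        rw [memM] at h3
        have h4 : (a : X) ∈ nf X ((k : X) • y • V) := nf_conj.2 h3
        rw [← mul_smul] at h4
        exact h4
      · rintro ⟨hb, hbn⟩
        refine ⟨⟨b, hB hb⟩, ⟨Subgroup.mem_subgroupOf.2 hb, ?_⟩, rfl⟩
        refine MinFF.mem_cj.2 ?_
        rw [memM]
        have h4 : b ∈ nf X ((k : X) • y • V) := by rw [← mul_smul]; exact hbn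
        exact nf_conj.1 h4
    have h3 : A ⊓ pCore 2 Y₀ ≠ ⊥ := by
      intro h0
      rw [h0, Subgroup.map_bot] at h2
      exact hne h2.symm
    have h4 := o.fx_eq h3
    rw [← h2, fx_sub, h4, ← fx_sub, hBm]
  · intro b hb u
    have hbn := h.core_nf ((k : X) * y) hb.2
    have hu : u ∈ ((k : X) * y) • V ⊔ fx U B := by rw [tx.sup]; trivial
    obtain ⟨v, hv, c, hc, rfl⟩ := mem_sup hu
    have e : b • (v + c) - (v + c) = (b • v - v) + (b • c - c) := by rw [smul_add]; abel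
    rw [e, hc b hb.1, sub_self, add_zero, ← tx.inf]
    exact AddSubgroup.mem_inf.2 ⟨sub_mem (nf_smul hbn hv) hv, fun c hc => quad' h.two m.ea m.ne_bot m.off m.min b hb.1 c hc v⟩

/-- **no over-offenders** with `C_U(E) ≥ C_U(B)` -/
theorem noover [Finite X] [Finite U] (h : DatU S V F) (m : MBU U B) {E : Subgroup X} (hE : EA E)
    (hle : fx U B ≤ fx U E) : mm U E ≤ Nat.card U := by
  classical
  by_contra hcon
  push Not at hcon
  obtain ⟨E₁, hE₁, hmax⟩ := Set.exists_max_image {E' : Subgroup X | E' ≤ E} (fun E' => mm U E') (Set.toFinite _) ⟨E, le_refl E⟩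
  obtain ⟨E₂, ⟨hE₂, hE₂m⟩, hmin⟩ := Set.exists_min_image {E' : Subgroup X | E' ≤ E ∧ mm U E' = mm U E₁}
    (fun E' => Nat.card E') (Set.toFinite _) ⟨E₁, hE₁, rfl⟩
  have h1 : Nat.card U < mm U E₂ := by
    rw [hE₂m]; exact lt_of_lt_of_le hcon (hmax E (le_refl E))
  have hbo : BO U E₂ := ⟨hE.mono hE₂, fun E' h' => by rw [hE₂m]; exact hmax E' (h'.trans hE₂)⟩
  by_cases hQ : E₂ ≤ pCore 2 X
  · obtain ⟨x, hx⟩ := (tight h m).ex
    have t := (tight h m).all x hx
    have h2 := h.bo_cent hbo (x := x) (hQ.trans (h.core_nf x))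
    have h3 : E₂ = ⊥ := by
      rw [Subgroup.eq_bot_iff_forall]
      intro e he
      apply h.faith
      intro u
      have hu : u ∈ x • V ⊔ fx U B := by rw [t.sup]; trivial
      obtain ⟨v, hv, c, hc, rfl⟩ := mem_sup hu
      rw [smul_add, h2 he v hv, hle hc e (hE₂ he)]
    rw [h3, mm_bot] at h1
    exact lt_irrefl _ h1
  · have m₂ : MBU U E₂ :=
      { ea := hE.mono hE₂
        nle := hQ
        off := h1.le
        min := fun E' h' h0 => by
          refine lt_of_le_of_ne (hbo.le E' h'.le) fun heq => ?_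
          have h2 := hmin E' ⟨h'.le.trans hE₂, heq.trans hE₂m⟩
          exact h'.ne (Subgroup.eq_of_le_of_card_ge h'.le h2) }
    have h2 := (tight h m₂).mm_eq
    omega

/-- FULL: `κ ∈ O₂(X)`, `[C_U(B), κ] = 1`, `[U, κ] ≤ F` imply `κ ∈ B` -/
theorem full [Finite X] [Finite U] (h : DatU S V F) (m : MBU U B) {κ : X} (hB : ∀ u ∈ fx U B, κ • u = u)
    (hF : ∀ u : U, κ • u - u ∈ F) : κ ∈ B := by
  have hF' : ∀ u : U, κ • (κ • u - u) = κ • u - u := fun u => h.Fx κ _ (hF u)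
  have hsq : κ * κ = 1 := by
    apply h.faith
    intro u
    have e : (κ * κ) • u = κ • (κ • u - u) + κ • u := by rw [mul_smul, smul_sub]; abel
    rw [e, hF' u]
    have e2 : κ • u - u + κ • u = (κ • u + κ • u) - u := by abel
    rw [e2, h.two, zero_sub]
    exact neg_eq_of_add_eq_zero_left (h.two u)
  have hcomm : ∀ b ∈ B, b * κ = κ * b := by
    intro b hb
    have h1 : (κ * b)⁻¹ * (b * κ) = 1 := by
      apply h.faith
      intro u
      rw [mul_smul, inv_smul_eq_iff, mul_smul, mul_smul]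
      have h2 : b • (κ • u - u) = κ • u - u := h.Fx b _ (hF u)
      have h3 : κ • (b • u - u) = b • u - u := hB _ fun c hc =>
        quad' h.two m.ea m.ne_bot m.off m.min b hb c hc u
      rw [smul_sub] at h2 h3
      have e1 : b • κ • u = κ • u - u + b • u := by rw [← h2]; abel
      have e2 : κ • b • u = b • u - u + κ • u := by rw [← h3]; abel
      rw [e1, e2]; abel
    exact (inv_mul_eq_one.1 h1).symm
  -- `E = B ⟨κ⟩`
  let E : Subgroup X :=
    { carrier := {x | x ∈ B ∨ κ * x ∈ B}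
      one_mem' := Or.inl B.one_mem
      mul_mem' := by
        intro x y hx hy
        rcases hx with hx | hx <;> rcases hy with hy | hy
        · exact Or.inl (B.mul_mem hx hy)
        · right
          have e : κ * (x * y) = x * (κ * y) := by rw [← mul_assoc, ← hcomm x hx, mul_assoc]
          rw [e]; exact B.mul_mem hx hy
        · right
          rw [← mul_assoc]; exact B.mul_mem hx hy
        · left
          have h1 := B.mul_mem hx hy
          have e : κ * x * (κ * y) = x * y := by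
            have h2 : κ * x * κ = x := by
              have := hcomm _ hx
              rw [← mul_assoc, hsq, one_mul] at this
              exact this
            rw [← mul_assoc, h2]
          rw [e] at h1; exact h1
      inv_mem' := by
        intro x hx
        rcases hx with hx | hx
        · exact Or.inl (B.inv_mem hx)
        · right
          have h1 := hcomm _ hx
          have hκ : κ⁻¹ = κ := inv_eq_of_mul_eq_one_left hsq
          have h2 : κ * x⁻¹ = (κ * x)⁻¹ := by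
            rw [mul_inv_rev, hκ]
            have h3 : κ * x * κ = x := by
              have := h1
              rw [← mul_assoc, hsq, one_mul] at this
              exact this
            have h4 : x = κ * x * κ := h3.symm
            have h5 : x⁻¹ = κ * x⁻¹ * κ := by
              calc x⁻¹ = (κ * x * κ)⁻¹ := by rw [h3]
                _ = κ * x⁻¹ * κ := by rw [mul_inv_rev, mul_inv_rev, hκ, mul_assoc]
            calc κ * x⁻¹ = κ * (κ * x⁻¹ * κ) := by rw [← h5]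
              _ = (κ * κ) * x⁻¹ * κ := by group
              _ = x⁻¹ * κ := by rw [hsq, one_mul]
          rw [h2]; exact B.inv_mem hx }
  have hBE : B ≤ E := fun b hb => Or.inl hb
  have hκE : κ ∈ E := Or.inr (by rw [hsq]; exact B.one_mem)
  have hEA : EA E := by
    intro x hx
    rcases hx with hx | hx
    · exact m.ea x hx
    · have h1 := hcomm _ hx
      have h3 : κ * x * κ = x := by
        have := h1
        rw [← mul_assoc, hsq, one_mul] at this
        exact this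
      have h4 := m.ea _ hx
      have e : κ * x * (κ * x) = x * x := by rw [← mul_assoc, h3]
      rw [e] at h4; exact h4
  have hfx : fx U B ≤ fx U E := by
    intro u hu x hx
    rcases hx with hx | hx
    · exact hu x hx
    · have h1 := hu _ hx
      rw [mul_smul] at h1
      have h2 : κ • (x • u) = κ • u := by rw [h1, hB u hu]
      exact smul_left_cancel κ h2
  have h1 := noover h m hEA hfx
  have h2 := (tight h m).mm_eq
  have h3 : fx U E = fx U B := le_antisymm (fx_anti hBE) hfx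
  rw [← h2, mm, mm, h3] at h1
  have h4 := Nat.le_of_mul_le_mul_right h1 Nat.card_pos
  have h5 := Subgroup.eq_of_le_of_card_ge hBE h4
  rw [h5]; exact hκE

/-! ### the setting of `Exit/BO.lean` -/

theorem DatU.of_dat (h : Dat S V F) : DatU S V F where
  two := h.two
  faith := h.faith
  SV := h.SV
  ne := h.ne
  uniq := h.uniq
  FV := h.FV
  Fx := h.Fx
  ti := h.ti
  nff := h.nff

theorem MBU.of_mb [Finite X] [Finite U] (m : MB U B) (h : Dat S V F) : MBU U B where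
  ea := m.bo.ea
  nle := m.nle
  off := m.card_le_mm
  min := fun E hE hne => by
    have h1 := m.two_mul h hE hne
    have h2 : 0 < mm U E := Nat.mul_pos Nat.card_pos Nat.card_pos
    omega

end Cfsg.Agent.Omega.NO3b.TheoremL.Tight

end

section


/-!
# THEOREM L (#18749, helper344): two noncentral `X`-factors in `U` imply `B ∩ O₂(X) ≠ 1`

`ne_of_two` : if `N ≤ U` is `X`-invariant and the elements of odd order act nontrivially on `N` and on `U / N`, then
`B ∩ O₂(X) ≠ 1`.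
-/

set_option autoImplicit false
set_option linter.unusedSectionVars false

namespace Cfsg.Agent.Omega.NO3b.TheoremL.Ne

open Cfsg.Agent.Omega.FF.Basic
open Cfsg.Agent.Omega.NO3b.Exit.TT
open Cfsg.Agent.Omega.NO3b.TheoremL.Act (Q Sec)
open Cfsg.Agent.Omega.NO3b.TheoremL.Core1 (Hyp)
open Cfsg.Agent.Omega.NO3b.TheoremL.Core3 (Out core VZ)
open Cfsg.Agent.Omega.NO3b.TheoremL.Tight
open Cfsg.Agent.Omega.MinFF (TI)
open Cfsg (pCore)
open scoped Pointwise

variable {X : Type*} [Group X] [Finite X] {U : Type*} [AddCommGroup U] [Finite U] [DistribMulAction X U]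
  {S : Sylow 2 X} {V F : AddSubgroup U} {B : Subgroup X}

/-- a normal subgroup which contains a 2-subgroup `B ≰ O₂(X)` contains all elements of odd order -/
theorem odd_mem (h : DatU S V F) {K : Subgroup X} (hK : K.Normal) (hB : IsPGroup 2 B) (hBK : B ≤ K)
    (hne : ¬ B ≤ pCore 2 X) {x : X} (hx : Odd (orderOf x)) : x ∈ K := by
  classical
  have hf : Fact (Nat.Prime 2) := ⟨Nat.prime_two⟩
  by_cases hKV : K ≤ nf X V
  · exfalso
    apply hne
    have h1 := Lib.SylowNormalInf.normalizer_inf_sup_eq_top S K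
    have h2 : (S : Subgroup X) ≤ Subgroup.normalizer (((S : Subgroup X) ⊓ K : Subgroup X) : Set X) := by
      intro s hs
      rw [← cj_eq_iff_mem_normalizer]
      ext z
      rw [mem_cj, Subgroup.mem_inf, Subgroup.mem_inf]
      constructor
      · rintro ⟨h3, h4⟩
        have h5 := (S : Subgroup X).mul_mem ((S : Subgroup X).mul_mem hs h3) ((S : Subgroup X).inv_mem hs)
        have h6 := hK.conj_mem _ h4 s
        have e : s * (s⁻¹ * z * s) * s⁻¹ = z := by group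
        rw [e] at h5 h6
        exact ⟨h5, h6⟩
      · rintro ⟨h3, h4⟩
        have h6 := hK.conj_mem _ h4 s⁻¹
        rw [inv_inv] at h6
        exact ⟨(S : Subgroup X).mul_mem ((S : Subgroup X).mul_mem ((S : Subgroup X).inv_mem hs) h3) hs, h6⟩
    have h3 : Subgroup.normalizer (((S : Subgroup X) ⊓ K : Subgroup X) : Set X) = ⊤ := by
      by_contra h4
      have h5 := h.uniq _ h2 h4
      apply h.ne
      rw [eq_top_iff, ← h1]
      exact sup_le h5 hKV
    have h4 : ((S : Subgroup X) ⊓ K).Normal := Subgroup.normalizer_eq_top_iff.1 h3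
    have h5 : (S : Subgroup X) ⊓ K ≤ pCore 2 X := Lib.Cores.le_pCore h4 (S.isPGroup'.to_le inf_le_left)
    obtain ⟨P, hP⟩ := hB.exists_le_sylow
    obtain ⟨g, hg⟩ := MulAction.exists_smul_eq X P S
    have hg' : ∀ z : X, z ∈ (P : Subgroup X) → g * z * g⁻¹ ∈ (S : Subgroup X) := by
      intro z hz
      rw [← hg]
      show g * z * g⁻¹ ∈ ((g • P : Sylow 2 X) : Subgroup X)
      rw [MinFF.coe_smul_sylow, MinFF.mem_cj]
      have e : g⁻¹ * (g * z * g⁻¹) * g = z := by group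
      rw [e]; exact hz
    intro b hb
    have h6 : g * b * g⁻¹ ∈ (S : Subgroup X) ⊓ K := ⟨hg' b (hP hb), hK.conj_mem b (hBK hb) g⟩
    have h7 := h4.conj_mem _ h6 g⁻¹
    have e : g⁻¹ * (g * b * g⁻¹) * g⁻¹⁻¹ = b := by group
    rw [e] at h7
    exact h5 h7
  · have h1 : (S : Subgroup X) ⊔ K = ⊤ := by
      by_contra h2
      exact hKV (le_sup_right.trans (h.uniq _ le_sup_left h2))
    -- `X / K` is a 2-group
    have h2 : IsPGroup 2 (X ⧸ K) := by
      intro q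
      obtain ⟨z, rfl⟩ := QuotientGroup.mk_surjective q
      have hz : z ∈ (S : Subgroup X) ⊔ K := by rw [h1]; trivial
      obtain ⟨s, hs, k, hk, rfl⟩ := Subgroup.mem_sup_of_normal_right.1 hz
      obtain ⟨n, hn⟩ := S.isPGroup' ⟨s, hs⟩
      refine ⟨n, ?_⟩
      have h3 : (QuotientGroup.mk (s * k) : X ⧸ K) = QuotientGroup.mk s := by
        rw [QuotientGroup.mk_mul, (QuotientGroup.eq_one_iff k).2 hk, mul_one]
      have h4 : s ^ 2 ^ n = 1 := congrArg Subtype.val hn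
      rw [h3, ← QuotientGroup.mk_pow, h4]; rfl
    have h3 : orderOf (QuotientGroup.mk x : X ⧸ K) ∣ orderOf x := orderOf_map_dvd (QuotientGroup.mk' K) x
    obtain ⟨n, hn⟩ := h2 (QuotientGroup.mk x)
    have h4 := orderOf_dvd_of_pow_eq_one hn
    have h5 : orderOf (QuotientGroup.mk x : X ⧸ K) = 1 := by
      have h6 : Nat.Coprime (orderOf x) (2 ^ n) := (Nat.coprime_two_right.2 hx).pow_right n
      exact Nat.eq_one_of_dvd_coprimes h6 h3 h4
    exact (QuotientGroup.eq_one_iff x).1 (orderOf_eq_one_iff.1 h5)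

/-- **two noncentral `X`-factors** in `U` -/
theorem ne_of_two (h : DatU S V F) (m : MBU U B) {N : AddSubgroup U} (hN : ∀ x : X, ∀ v ∈ N, x • v ∈ N)
    (h1 : ∃ x : X, Odd (orderOf x) ∧ ∃ u : U, x • u - u ∉ N) (h2 : ∃ x : X, Odd (orderOf x) ∧ ∃ v ∈ N, x • v ≠ v) :
    B ⊓ pCore 2 X ≠ ⊥ := by
  intro h0
  obtain ⟨Y₀, y, hB, hy⟩ := exists_out h m
  have o := core hy
  have t := tight h m
  set A := B.subgroupOf Y₀ with hA
  set M := (MulAut.conj y • nf X V).subgroupOf Y₀ with hM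
  have memM : ∀ k : Y₀, k ∈ M ↔ (k : X) ∈ nf X (y • V) := by
    intro k
    rw [hM, Subgroup.mem_subgroupOf, MinFF.mem_cj, ← nf_conj]
  obtain ⟨k, hk⟩ := hy.ti.exists_not_mem
  have hx : ¬ B ≤ nf X (((k : X) * y) • V) := by
    intro h0
    apply hk
    apply hy.ti.ti
    intro a ha
    rw [MinFF.mem_cj, memM]
    have h1 := h0 (Subgroup.mem_subgroupOf.1 ha)
    rw [mul_smul, nf_conj] at h1
    exact h1
  have tx := t.all _ hx
  have hA₁ : A ⊓ pCore 2 Y₀ = ⊥ := by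
    rw [← o.nf k hk, Subgroup.eq_bot_iff_forall]
    rintro a ⟨ha, hak⟩
    have h3 := MinFF.mem_cj.1 hak
    rw [memM] at h3
    have h4 : (a : X) ∈ nf X ((k : X) • y • V) := nf_conj.2 h3
    rw [← mul_smul] at h4
    have h5 : (a : X) ∈ B ⊓ nf X (((k : X) * y) • V) := ⟨Subgroup.mem_subgroupOf.1 ha, h4⟩
    rw [tx.nf_eq, h0, Subgroup.mem_bot] at h5
    exact Subtype.ext h5
  set Z := fx U (⊤ : Subgroup Y₀) with hZ
  have hD : Act.D U A = ⊤ := by
    rw [eq_top_iff, ← o.sup k hk]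
    refine sup_le ?_ Q.C_le_D
    exact (AddSubgroup.pointwise_smul_le_pointwise_smul_iff.2 hy.V_le_C).trans (Q.smul_C_le_D k)
  have hP : Sec U A (N ⊔ Z) :=
    { Z_le := le_sup_right
      le_D := by rw [hD]; exact le_top
      inv := fun z v hv => by
        obtain ⟨n, hn, c, hc, rfl⟩ := AddSubgroup.mem_sup.1 hv
        rw [smul_add, Q.Z_smul hc]
        exact add_mem (AddSubgroup.mem_sup_left (hN (z : X) n hn)) (AddSubgroup.mem_sup_right hc) }
  have hcase : N ≤ Z ∨ N ⊔ Z = ⊤ := by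
    by_cases hNZ : N ≤ Z
    · exact Or.inl hNZ
    · right
      have hlt : Z < N ⊔ Z := lt_of_le_of_ne le_sup_right fun h3 => hNZ (by rw [h3]; exact le_sup_left)
      have h3 := hP.index hy.toQ hy.secZ hlt
      rw [← hZ, inf_eq_left.2 (Q.Z_le A), hA₁, Subgroup.card_bot, one_mul] at h3
      have h4 : Nat.card (fx U A) = Nat.card A * Nat.card Z := by rw [o.C_eq]; exact o.card
      have h5 : (N ⊔ Z) ⊓ fx U A = fx U A := eq_of_card_le inf_le_right (by rw [h4]; exact h3)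
      have h6 : fx U A ≤ N ⊔ Z := by rw [← h5]; exact inf_le_left
      rw [eq_top_iff, ← o.sup k hk]
      refine sup_le ?_ h6
      refine (AddSubgroup.pointwise_smul_le_pointwise_smul_iff.2 hy.V_le_C : k • y • V ≤ k • fx U A).trans ?_
      intro v hv
      rw [mem_smul] at hv
      have h7 := hP.inv k _ (h6 hv)
      rwa [smul_inv_smul] at h7
  rcases hcase with hc | hc
  · obtain ⟨x, hxo, v, hv, hne⟩ := h2
    let K : Subgroup X := cf X N
    have hK : K.Normal := by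
      constructor
      intro a ha g n hn
      have h3 := ha _ (hN g⁻¹ n hn)
      rw [mul_smul, mul_smul, h3, smul_inv_smul]
    apply hne
    refine odd_mem h hK m.ea.isPGroup ?_ m.nle hxo v hv
    intro b hb n hn
    exact hc hn ⟨b, hB hb⟩ (Subgroup.mem_top _)
  · obtain ⟨x, hxo, u, hu⟩ := h1
    let K : Subgroup X :=
      { carrier := {x | ∀ u : U, x • u - u ∈ N}
        one_mem' := fun u => by rw [one_smul, sub_self]; exact zero_mem _
        mul_mem' := fun {a b} ha hb u => by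
          have e : (a * b) • u - u = (a • (b • u) - b • u) + (b • u - u) := by rw [mul_smul]; abel
          rw [e]; exact add_mem (ha _) (hb u)
        inv_mem' := fun {a} ha u => by
          have h3 := ha (a⁻¹ • u)
          rw [smul_inv_smul] at h3
          have e : a⁻¹ • u - u = -(u - a⁻¹ • u) := by abel
          rw [e]; exact neg_mem h3 }
    have hK : K.Normal := by
      constructor
      intro a ha g u
      have h3 := hN g _ (ha (g⁻¹ • u))
      have e : (g * a * g⁻¹) • u - u = g • (a • g⁻¹ • u - g⁻¹ • u) := by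
        rw [smul_sub, smul_inv_smul, mul_smul, mul_smul]
      rw [e]; exact h3
    apply hu
    refine odd_mem h hK m.ea.isPGroup ?_ m.nle hxo u
    intro b hb w
    have hw : w ∈ N ⊔ Z := by rw [hc]; trivial
    obtain ⟨n, hn, c, hc', rfl⟩ := AddSubgroup.mem_sup.1 hw
    have h3 : b • c = c := hc' ⟨b, hB hb⟩ (Subgroup.mem_top _)
    have e : b • (n + c) - (n + c) = b • n - n := by rw [smul_add, h3]; abel
    rw [e]
    exact sub_mem (hN b n hn) hn

end Cfsg.Agent.Omega.NO3b.TheoremL.Ne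

end

section


/-!
# THEOREM L (344) → the M-side frame `MX` (#18749, #18319)

`Γ` acts faithfully on `U`; `X ≤ Γ`, `S ∈ Syl₂(X)`, `DatU S V F`, `MBU U B` for the group `X`; `M ≤ Γ` stabilises `V`,
`O₂(X) ≤ M`, `D ⊴ M`, `B ≤ D ≤ X`, `D` centralises `V`, `O₂(M / C_M(V)) = 1`, `B ∩ O₂(X) ≠ 1`.

* `R_le` : `{x ∈ X | [U, x] ≤ F} ≤ O₂(X)`;
* `mx_of_tight` : `MX M X D B V F x` for every line `x V` which is moved by `B`;
* `exists_mx` : such an `x` exists; `exists_mx_of_two` : with two noncentral `X`-factors instead of `B ∩ O₂(X) ≠ 1`.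
-/

set_option autoImplicit false

namespace Cfsg.Agent.Omega.NO3b.Exit.TDat

open Subgroup
open Cfsg (pCore)
open Cfsg.Agent.Omega.FF.Basic
open Cfsg.Agent.Omega.NO3b.Exit.TT (nf cf mem_smul mem_nf smul_mem' quad')
open Cfsg.Agent.Omega.NO3b.TheoremL.Tight (DatU MBU TightAt Tight tight fx_sub)
open Cfsg.Agent.Omega.NO3b.Exit.Ten (br br_def br_mul br_one br_zero br_conj_smul br_eq_zero smul_eq)
open scoped Pointwise

universe u v

section r

variable {X : Type u} {U : Type v} [Group X] [AddCommGroup U] [DistribMulAction X U]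

/-- `{x | [U, x] ≤ F} ≤ O₂(X)` -/
theorem R_le {F : AddSubgroup U} (two : ∀ u : U, u + u = 0) (faith : ∀ x : X, (∀ u : U, x • u = u) → x = 1)
    (Fx : ∀ (x : X), ∀ f ∈ F, x • f = f) {x : X} (hx : ∀ u : U, x • u - u ∈ F) : x ∈ pCore 2 X := by
  let R : Subgroup X :=
    { carrier := {x | ∀ u : U, br x u ∈ F}
      one_mem' := fun u => by rw [br_one]; exact zero_mem _
      mul_mem' := fun {a b} ha hb u => by
        rw [br_mul]
        exact F.add_mem (F.add_mem (ha _) (hb u)) (ha u)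
      inv_mem' := fun {a} ha u => by
        have e : br a⁻¹ u = - (a⁻¹ • br a u) := by
          simp only [br_def, smul_sub, inv_smul_smul]; abel
        rw [e, Fx _ _ (ha u)]
        exact F.neg_mem (ha u) }
  have hR : R.Normal := ⟨fun n hn g u => by
    have e : u = g • (g⁻¹ • u) := (smul_inv_smul g u).symm
    rw [e, br_conj_smul, Fx g _ (hn _)]
    exact hn _⟩
  have h2 : IsPGroup 2 R := by
    rintro ⟨r, hr⟩
    refine ⟨1, Subtype.ext ?_⟩
    rw [pow_one, pow_two]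
    refine faith _ fun u => ?_
    have h1 : br (r * r) u = 0 := by
      rw [br_mul, br_def r (br r u), Fx r _ (hr u), sub_self, zero_add, two]
    exact br_eq_zero.1 h1
  exact Lib.Cores.le_pCore hR h2 (show x ∈ R from hx)

end r

section mx

variable {Γ : Type u} [Group Γ] [Finite Γ] {U : Type v} [AddCommGroup U] [Finite U] [DistribMulAction Γ U]
  {M X D : Subgroup Γ} {V F : AddSubgroup U} {S : Sylow 2 X} {B : Subgroup X}

/-- THEOREM L gives the M-side frame, for every line which is moved by `B`. -/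
theorem mx_of_tight (faith : ∀ y : Γ, (∀ u : U, y • u = u) → y = 1) (h : DatU S V F) (m : MBU U B)
    (hne : B ⊓ pCore 2 X ≠ ⊥) (MV : ∀ m ∈ M, ∀ v ∈ V, m • v ∈ V) (DX : D ≤ X) (BD : B.map X.subtype ≤ D)
    (MD : ∀ m ∈ M, ∀ d ∈ D, m * d * m⁻¹ ∈ D) (DV : ∀ d ∈ D, ∀ v ∈ V, d • v = v)
    (hM : (pCore 2 X).map X.subtype ≤ M) (red : Red M V) {x : X} (hx : ¬ B ≤ nf X (x • V)) :
    MX M X D (B.map X.subtype) V F (x : Γ) := by
  have t := tight h m
  have ta := t.all x hx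
  refine { faith := faith, two := h.two, MV := MV, FV := h.FV, Fx := ?_, ti := ?_, gX := x.2, DX := DX, BD := BD,
           MD := MD, DV := DV, quad := ?_, sup := ?_, inf := ?_, ne := ?_, RM := ?_, red := red }
  · intro y hy f hf
    exact h.Fx ⟨y, hy⟩ f hf
  · intro y hy hyV
    exact h.ti ⟨y, hy⟩ hyV
  · rintro _ ⟨a, ha, rfl⟩ _ ⟨b, hb, rfl⟩ u
    exact quad' h.two m.ea m.ne_bot m.off m.min a ha b hb u
  · rw [fx_sub]; exact ta.sup
  · rw [fx_sub]; exact ta.inf.le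
  · obtain ⟨⟨y, hy⟩, hy1⟩ := Subgroup.ne_bot_iff_exists_ne_one.1 hne
    exact ⟨y, ⟨y, hy.1, rfl⟩, fun h0 => hy1 (Subtype.ext (Subtype.ext h0)), fun u => t.comm y hy u⟩
  · intro y hy hyF
    exact hM ⟨⟨y, hy⟩, R_le h.two h.faith h.Fx hyF, rfl⟩

theorem exists_mx (faith : ∀ y : Γ, (∀ u : U, y • u = u) → y = 1) (h : DatU S V F) (m : MBU U B)
    (hne : B ⊓ pCore 2 X ≠ ⊥) (MV : ∀ m ∈ M, ∀ v ∈ V, m • v ∈ V) (DX : D ≤ X) (BD : B.map X.subtype ≤ D)
    (MD : ∀ m ∈ M, ∀ d ∈ D, m * d * m⁻¹ ∈ D) (DV : ∀ d ∈ D, ∀ v ∈ V, d • v = v)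
    (hM : (pCore 2 X).map X.subtype ≤ M) (red : Red M V) :
    ∃ x ∈ X, MX M X D (B.map X.subtype) V F x := by
  obtain ⟨x, hx⟩ := (tight h m).ex
  exact ⟨x, x.2, mx_of_tight faith h m hne MV DX BD MD DV hM red hx⟩

/-- with 823's `Two` -/
theorem exists_mx_of_two (faith : ∀ y : Γ, (∀ u : U, y • u = u) → y = 1) (h : DatU S V F) (m : MBU U B)
    {N : AddSubgroup U} (hN : ∀ x ∈ X, ∀ v ∈ N, x • v ∈ N)
    (h1 : ∃ x ∈ X, Odd (orderOf x) ∧ ∃ u : U, x • u - u ∉ N) (h2 : ∃ x ∈ X, Odd (orderOf x) ∧ ∃ v ∈ N, x • v ≠ v)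
    (MV : ∀ m ∈ M, ∀ v ∈ V, m • v ∈ V) (DX : D ≤ X) (BD : B.map X.subtype ≤ D)
    (MD : ∀ m ∈ M, ∀ d ∈ D, m * d * m⁻¹ ∈ D) (DV : ∀ d ∈ D, ∀ v ∈ V, d • v = v)
    (hM : (pCore 2 X).map X.subtype ≤ M) (red : Red M V) :
    ∃ x ∈ X, MX M X D (B.map X.subtype) V F x := by
  refine exists_mx faith h m ?_ MV DX BD MD DV hM red
  refine TheoremL.Ne.ne_of_two h m (N := N) (fun x v hv => hN x x.2 v hv) ?_ ?_
  · obtain ⟨x, hx, ho, u, hu⟩ := h1
    exact ⟨⟨x, hx⟩, by rwa [Subgroup.orderOf_mk], u, hu⟩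
  · obtain ⟨x, hx, ho, v, hv, hne⟩ := h2
    exact ⟨⟨x, hx⟩, by rwa [Subgroup.orderOf_mk], v, hv, hne⟩

end mx

end Cfsg.Agent.Omega.NO3b.Exit.TDat

end

section


/-!
# `MX` (957) → `Blk`

* `Sn.inf`, `sn_sbc` : `sbc M Q` is subnormal in `M`, and in every `K` with `sbc M Q ≤ K ≤ M`;
* `blk` : `MX M X D B V F g` together with `S`, `O` gives `Blk`.
-/

set_option autoImplicit false

namespace Cfsg.Agent.Omega.NO3b.Exit.TBlk

open Subgroup TDat
open Cfsg.Agent.Omega.FF.Basic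
open scoped Pointwise

universe u v

theorem Sn.inf {H : Type u} [Group H] {Y K : Subgroup H} (h : Sn Y K) (L : Subgroup H) : Sn (Y ⊓ L) (K ⊓ L) := by
  induction h with
  | refl => exact Sn.refl
  | step _ h1 h2 ih =>
    exact ih.step (inf_le_inf_right _ h1) fun k hk n hn =>
      mem_inf.2 ⟨h2 k hk.1 n hn.1, mul_mem (mul_mem hk.2 hn.2) (inv_mem hk.2)⟩

theorem sn_sbc {H : Type u} [Group H] [Finite H] {M Q : Subgroup H} (hQ : Q ≤ M) : Sn (sbc M Q) M := by
  obtain ⟨n, h1, -⟩ := exists_stab hQ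
  rw [h1]
  have key : ∀ j i, i + j = n → Sn (nst M Q n) (nst M Q i) := by
    intro j
    induction j with
    | zero =>
      intro i hi
      obtain rfl : i = n := by omega
      exact Sn.refl
    | succ j ih =>
      intro i hi
      exact (ih (i + 1) (by omega)).step (nst_succ_le hQ i) fun k hk x hx => nst_norm i hk hx
  exact key n 0 (by omega)

theorem sn_sbc_of_le {H : Type u} [Group H] [Finite H] {M Q K : Subgroup H} (hQ : Q ≤ M) (h1 : sbc M Q ≤ K)
    (h2 : K ≤ M) : Sn (sbc M Q) K := by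
  have h := (sn_sbc hQ).inf K
  rwa [inf_eq_left.2 h1, inf_eq_right.2 h2] at h

/-- The plug. -/
theorem blk {H : Type u} {U : Type v} [Group H] [Finite H] [AddCommGroup U] [DistribMulAction H U]
    {M X D B : Subgroup H} {V F : AddSubgroup U} {g : H} (h : MX M X D B V F g) {S O : Subgroup H} (SM : S ≤ M)
    (S2 : IsPGroup 2 S) (syl : ¬ 2 ∣ S.relIndex M)
    (gen : ∀ W : AddSubgroup U, (∀ m ∈ M, ∀ w ∈ W, m • w ∈ W) → (∀ v ∈ V, (∀ s ∈ S, s • v = v) → v ∈ W) → V ≤ W)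
    (OM : O ≤ M)
    (pr : ∃ m ∈ M, ∀ N : Subgroup H, N ≤ M → (∀ q ∈ FFq M F, m * q * m⁻¹ ∈ N) → (∀ o ∈ O, ∀ n ∈ N, o * n * o⁻¹ ∈ N) →
      (∀ s ∈ S, ∀ n ∈ N, s * n * s⁻¹ ∈ N) → O ≤ N)
    (cz : ∀ z ∈ V, (∀ s ∈ S, s • z = z) → (∀ o ∈ O, o • z = z) → z = 0) :
    Blk (sbc M (FFq M F)) (FFq M F) (ncl (KV M V h.MV) B) V F (g • V) (fx U B) g⁻¹ M (KV M V h.MV) S O where
  dat := h.dat
  KM := fun _ hk => hk.1
  nK := fun _ hm _ hk => h.KV_norm hm hk
  mV := h.MV
  kV := fun _ hk => hk.2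
  kB := fun _ hk _ hb => ncl_conj hk hb
  sn := sn_sbc_of_le MX.FFq_le_M h.sbc_le_KV fun _ hk => hk.1
  SM := SM
  S2 := S2
  syl := syl
  gen := gen
  OM := OM
  pr := pr
  cz := cz

end Cfsg.Agent.Omega.NO3b.Exit.TBlk

end

section


/-!
# THEOREM L with two lines (#22211 (5), helper16, helper344)

`X` finite acts faithfully on the elementary abelian 2-group `U`, `S` is a Sylow 2-subgroup of `X` and `M` is the unique
maximal subgroup of `X` over `S`; `F ≤ L ≤ V ≤ U`, `F` is centralised by `X`, `V` is normalised by `S`, `L` is normalised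
by `M`, `V ∩ V^x ≤ F` for `x ∉ M`, `L ≰ F`.  No elementary abelian subgroup of `S` offends on `V` (`nffV`); no subgroup
`A ≤ S` with `[V, A] ≤ F` offends on `L` (`nffL`) (`DatW S M V L F`).

* `DatW.exists_mbu` : if `U = ⟨V^X⟩` and some `E ≠ 1` offends on `U`, then `MBU U B` for some `B`.
* `DatW.eq` : `MBU U B` implies `V = L`.
-/

set_option autoImplicit false
set_option linter.unusedSectionVars false
set_option linter.dupNamespace false

namespace Cfsg.Agent.Omega.NO3b.TheoremL.TwoLine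

open Cfsg.Agent.Omega.FF.Basic
open Cfsg.Agent.Omega.NO3b.Exit.TT
open Cfsg.Agent.Omega.NO3b.TheoremL.Act (Q)
open Cfsg.Agent.Omega.NO3b.TheoremL.Core1 (Pre Hyp QQ)
open Cfsg.Agent.Omega.NO3b.TheoremL.Core3 (Out core VZ)
open Cfsg.Agent.Omega.NO3b.TheoremL.Tight (MBU fx_sub card_sub mm_sub map_sub)
open Cfsg.Agent.Omega.MinFF (TI)
open Cfsg (pCore)
open scoped Pointwise

section idx

variable {Y : Type*} [Group Y] {U : Type*} [AddCommGroup U] [DistribMulAction Y U]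

/-- two groups inducing the same group on `L` -/
theorem idx {B B' : Subgroup Y} {L : AddSubgroup U} (hB : B ≤ nf Y L) (hB' : B' ≤ nf Y L)
    (h1 : ∀ b ∈ B, ∃ d ∈ B', ∀ l ∈ L, b • l = d • l) (h2 : ∀ d ∈ B', ∃ b ∈ B, ∀ l ∈ L, d • l = b • l) :
    Nat.card B * Nat.card ↥(B' ⊓ cf Y L) = Nat.card B' * Nat.card ↥(B ⊓ cf Y L) := by
  set N := nf Y L with hN
  set C := (cf Y L).subgroupOf N with hC
  have hCn : C.Normal := by
    constructor
    rintro ⟨c, hc⟩ hcC ⟨n, hn⟩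
    rw [hC, Subgroup.mem_subgroupOf] at hcC ⊢
    intro l hl
    show (n * c * n⁻¹) • l = l
    have h3 : n⁻¹ • l ∈ L := nf_smul (N.inv_mem hn) hl
    rw [mul_smul, mul_smul, hcC _ h3, smul_inv_smul]
  have key : ∀ {P P' : Subgroup Y}, P ≤ N → P' ≤ N → (∀ b ∈ P, ∃ d ∈ P', ∀ l ∈ L, b • l = d • l) →
      P.subgroupOf N ≤ P'.subgroupOf N ⊔ C := by
    intro P P' hP hP' h x hx
    obtain ⟨d, hd, hdl⟩ := h x (Subgroup.mem_subgroupOf.1 hx)
    have hdN : d ∈ N := hP' hd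
    have e : x = ⟨d, hdN⟩ * (⟨d, hdN⟩⁻¹ * x) := by group
    rw [e]
    refine mul_mem (Subgroup.mem_sup_left (Subgroup.mem_subgroupOf.2 hd)) (Subgroup.mem_sup_right ?_)
    rw [hC, Subgroup.mem_subgroupOf]
    intro l hl
    show (d⁻¹ * (x : Y)) • l = l
    rw [mul_smul, hdl l hl, inv_smul_smul]
  have h3 : B.subgroupOf N ⊔ C = B'.subgroupOf N ⊔ C :=
    le_antisymm (sup_le (key hB hB' h1) le_sup_right) (sup_le (key hB' hB h2) le_sup_right)
  have h4 : C.relIndex (B.subgroupOf N) = C.relIndex (B'.subgroupOf N) := by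
    rw [← Subgroup.relIndex_sup_right, h3, Subgroup.relIndex_sup_right]
  rw [hC, Subgroup.relIndex_subgroupOf hB, Subgroup.relIndex_subgroupOf hB'] at h4
  have h5 : ∀ P : Subgroup Y, Nat.card ↥(P ⊓ cf Y L) * (cf Y L).relIndex P = Nat.card P := by
    intro P
    have h6 := Subgroup.relIndex_mul_relIndex (⊥ : Subgroup Y) (P ⊓ cf Y L) P bot_le inf_le_left
    rw [Subgroup.relIndex_bot_left, Subgroup.relIndex_bot_left, Subgroup.inf_relIndex_left] at h6
    exact h6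
  rw [← h5 B, ← h5 B', h4]
  ring

end idx

/-- The hypotheses. -/
structure DatW {X : Type*} [Group X] {U : Type*} [AddCommGroup U] [DistribMulAction X U] (S : Sylow 2 X)
    (M : Subgroup X) (V L F : AddSubgroup U) : Prop where
  two : ∀ u : U, u + u = 0
  faith : ∀ x : X, (∀ u : U, x • u = u) → x = 1
  SM : (S : Subgroup X) ≤ M
  ne : M ≠ ⊤
  uniq : ∀ K : Subgroup X, (S : Subgroup X) ≤ K → K ≠ ⊤ → K ≤ M
  SV : (S : Subgroup X) ≤ nf X V
  ML : M ≤ nf X L
  LV : L ≤ V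
  FL : F ≤ L
  Fx : ∀ (x : X), ∀ f ∈ F, x • f = f
  ti : ∀ x : X, x ∉ M → V ⊓ x • V ≤ F
  nz : ¬ L ≤ F
  nffV : ∀ A : Subgroup X, A ≤ S → EA A → ¬ A ≤ cf X V →
    Nat.card A * Nat.card ↥(V ⊓ fx U A) < Nat.card V * Nat.card ↥(A ⊓ cf X V)
  nffL : ∀ A : Subgroup X, A ≤ S → (∀ a ∈ A, ∀ v ∈ V, a • v - v ∈ F) → ¬ A ≤ cf X L →
    Nat.card A * Nat.card ↥(L ⊓ fx U A) < Nat.card L * Nat.card ↥(A ⊓ cf X L)

variable {X : Type*} [Group X] {U : Type*} [AddCommGroup U] [DistribMulAction X U] {S : Sylow 2 X}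
  {M : Subgroup X} {V L F : AddSubgroup U} {B : Subgroup X}

/-- conjugating a not-FF inequality -/
theorem conj_lt (x : X) {A : Subgroup X} {W : AddSubgroup U}
    (h1 : Nat.card (cj x⁻¹ A) * Nat.card ↥(W ⊓ fx U (cj x⁻¹ A)) < Nat.card W * Nat.card ↥(cj x⁻¹ A ⊓ cf X W)) :
    Nat.card A * Nat.card ↥(x • W ⊓ fx U A) < Nat.card W * Nat.card ↥(A ⊓ cf X (x • W)) := by
  rw [card_cj] at h1
  have e1 : Nat.card ↥(W ⊓ fx U (cj x⁻¹ A)) = Nat.card ↥(x • W ⊓ fx U A) := by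
    refine (card_smul x fun v => ?_).symm
    constructor
    · rintro ⟨h2, h3⟩
      exact ⟨mem_smul.1 h2, smul_mem_fx_cj h3⟩
    · rintro ⟨h2, h3⟩
      have h3' := mem_fx_cj.1 h3
      rw [inv_inv, smul_inv_smul] at h3'
      exact ⟨mem_smul.2 h2, h3'⟩
  have e2 : Nat.card ↥(cj x⁻¹ A ⊓ cf X W) = Nat.card ↥(A ⊓ cf X (x • W)) := by
    have e3 : cj x⁻¹ A ⊓ cf X W = cj x⁻¹ (A ⊓ cf X (x • W)) := by
      ext a
      rw [mem_cj, inv_inv, Subgroup.mem_inf, Subgroup.mem_inf, mem_cj, inv_inv, cf_conj]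
      have e : x⁻¹ * (x * a * x⁻¹) * x = a := by group
      rw [e]
    rw [e3, card_cj]
  rw [e1, e2] at h1
  exact h1

namespace DatW

variable (h : DatW S M V L F)
include h

theorem F_smul (x : X) : x • F = F := by
  ext w
  rw [mem_smul]
  constructor
  · intro hw
    have := h.Fx x _ hw
    rw [smul_inv_smul] at this
    rw [this]; exact hw
  · intro hw
    rw [h.Fx x⁻¹ w hw]; exact hw

theorem F_le (x : X) : F ≤ x • L := by
  rw [← h.F_smul x]
  exact AddSubgroup.pointwise_smul_le_pointwise_smul_iff.2 h.FL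

theorem L_le (x : X) : x • L ≤ x • V := AddSubgroup.pointwise_smul_le_pointwise_smul_iff.2 h.LV

theorem L_eq {m : X} (hm : m ∈ M) : m • L = L := h.ML hm

/-- (TI) for two lines -/
theorem ti' {x y : X} (hne : x⁻¹ * y ∉ M) : x • V ⊓ y • V ≤ F := by
  intro w hw
  have h2 : x⁻¹ • w ∈ F := by
    apply h.ti _ hne
    refine ⟨mem_smul.1 hw.1, ?_⟩
    have h3 : y⁻¹ • w ∈ V := mem_smul.1 hw.2
    have e : ((x⁻¹ * y)⁻¹ • x⁻¹ • w : U) = y⁻¹ • w := by
      rw [smul_smul]; congr 1; group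
    exact mem_smul.2 (by rw [e]; exact h3)
  have h3 := h.Fx x _ h2
  rw [smul_inv_smul] at h3
  rw [h3]; exact h2

variable [Finite X] [Finite U]

/-- a best offender in `S^x` centralises `V^x`. -/
theorem bo_cent {A : Subgroup X} (hA : BO U A) {x : X} (hx : cj x⁻¹ A ≤ (S : Subgroup X)) : A ≤ cf X (x • V) := by
  by_contra hne
  have h1 := conj_lt x (h.nffV (cj x⁻¹ A) hx (fun a ha => by
    rw [mem_cj, inv_inv] at ha
    have h2 := hA.ea _ ha
    have e : x * a * x⁻¹ * (x * a * x⁻¹) = x * (a * a) * x⁻¹ := by group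
    rw [e] at h2
    have h3 : x⁻¹ * (x * (a * a) * x⁻¹) * x = x⁻¹ * 1 * x := by rw [h2]
    have e2 : x⁻¹ * (x * (a * a) * x⁻¹) * x = a * a := by group
    rw [e2, mul_one, inv_mul_cancel] at h3
    exact h3) (fun h0 => hne (fun a ha => by
      rw [cf_conj]
      have h2 := h0 (mem_cj_of (g := x⁻¹) ha)
      rwa [inv_inv] at h2)))
  set E := A ⊓ cf X (x • V) with hE
  have h2 := hA.le E inf_le_left
  have h3 : x • V ⊔ fx U A ≤ fx U E := by
    refine sup_le ?_ (fx_anti inf_le_left)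
    exact le_cf.1 inf_le_right
  have h4 := card_sup_inf (x • V) (fx U A)
  have h5 := card_le h3
  rw [card_smul'] at h4
  rw [mm, mm] at h2
  have h6 : Nat.card V * Nat.card E ≤ Nat.card A * Nat.card ↥(x • V ⊓ fx U A) := by
    have p : 0 < Nat.card (fx U A) := Nat.card_pos
    refine Nat.le_of_mul_le_mul_right ?_ p
    calc Nat.card V * Nat.card E * Nat.card (fx U A) = Nat.card E * (Nat.card V * Nat.card (fx U A)) := by ring
      _ = Nat.card E * (Nat.card ↥(x • V ⊔ fx U A) * Nat.card ↥(x • V ⊓ fx U A)) := by rw [h4]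
      _ ≤ Nat.card E * (Nat.card (fx U E) * Nat.card ↥(x • V ⊓ fx U A)) :=
        Nat.mul_le_mul_left _ (Nat.mul_le_mul_right _ h5)
      _ = Nat.card E * Nat.card (fx U E) * Nat.card ↥(x • V ⊓ fx U A) := by ring
      _ ≤ Nat.card A * Nat.card (fx U A) * Nat.card ↥(x • V ⊓ fx U A) := Nat.mul_le_mul_right _ h2
      _ = _ := by ring
  exact absurd h1 (not_lt.2 h6)

theorem core_S (x : X) {A : Subgroup X} (hA : A ≤ pCore 2 X) : cj x⁻¹ A ≤ (S : Subgroup X) := by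
  intro a ha
  rw [mem_cj, inv_inv] at ha
  have hn : (pCore 2 X).Normal := Lib.Cores.pCore_normal 2
  have h1 := hn.conj_mem _ (hA ha) x⁻¹
  have e : x⁻¹ * (x * a * x⁻¹) * x⁻¹⁻¹ = a := by group
  rw [e] at h1
  exact Lib.Cores.pCore_le_sylow S h1

/-- **`MBU U B` exists** if some `E ≠ 1` offends on `U = ⟨V^X⟩`. -/
theorem exists_mbu (gen : ∀ K : AddSubgroup U, (∀ x : X, x • V ≤ K) → K = ⊤) {E : Subgroup X} (hE : EA E)
    (hE0 : E ≠ ⊥) (hoff : Nat.card U ≤ mm U E) : ∃ B : Subgroup X, MBU U B := by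
  classical
  let T : Set (Subgroup X) := {B | EA B ∧ B ≠ ⊥}
  obtain ⟨B₁, ⟨h1, h2⟩, hmax⟩ := Set.exists_max_image T (fun B => mm U B) (Set.toFinite T) ⟨E, hE, hE0⟩
  let T' : Set (Subgroup X) := {B | EA B ∧ B ≠ ⊥ ∧ mm U B = mm U B₁}
  obtain ⟨B, ⟨h3, h4, h5⟩, hmin⟩ := Set.exists_min_image T' (fun B => Nat.card B) (Set.toFinite T') ⟨B₁, h1, h2, rfl⟩
  have hoffB : Nat.card U ≤ mm U B := by
    rw [h5]; exact hoff.trans (hmax E ⟨hE, hE0⟩)
  have hlt : ∀ E' : Subgroup X, E' < B → E' ≠ ⊥ → mm U E' < mm U B := by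
    intro E' hE' hE'0
    have h6 := hmax E' ⟨h3.mono hE'.le, hE'0⟩
    refine lt_of_le_of_ne (by rw [h5]; exact h6) fun h7 => ?_
    have h8 := hmin E' ⟨h3.mono hE'.le, hE'0, by rw [h7, h5]⟩
    exact absurd (Subgroup.eq_of_le_of_card_ge hE'.le h8) hE'.ne
  have hbo : BO U B :=
    { ea := h3
      le := fun E' hE' => by
        by_cases h0 : E' = ⊥
        · rw [h0, mm_bot]; exact hoffB
        · rcases hE'.eq_or_lt with h6 | h6
          · rw [h6]
          · exact (hlt E' h6 h0).le }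
  refine ⟨B, h3, fun hcore => h4 ?_, hoffB, hlt⟩
  have h6 : fx U B = ⊤ := gen _ fun x => le_cf.1 (h.bo_cent hbo (h.core_S x hcore))
  rw [Subgroup.eq_bot_iff_forall]
  intro b hb
  refine h.faith b fun u => ?_
  have : u ∈ fx U B := by rw [h6]; trivial
  exact this b hb

/-- an elementary abelian 2-subgroup `P` of `M^y` is contained in `S^{y'}` with `M^{y'} = M^y`, `L^{y'} = L^y`. -/
theorem exists_line (y : X) {P : Subgroup X} (hP : IsPGroup 2 P) (hPM : P ≤ MulAut.conj y • M) :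
    ∃ y' : X, MulAut.conj y' • M = MulAut.conj y • M ∧ P ≤ MulAut.conj y' • (S : Subgroup X) := by
  set N := MulAut.conj y • M with hN
  have hSN : ((y • S : Sylow 2 X) : Subgroup X) ≤ N := by
    rw [Sylow.coe_subgroup_smul, hN]
    exact Subgroup.pointwise_smul_le_pointwise_smul_iff.2 h.SM
  have hP' : IsPGroup 2 (P.subgroupOf N) := hP.comap_of_injective N.subtype N.subtype_injective
  obtain ⟨g, hg⟩ := MinFF.exists_cj_le hP' ((y • S).subtype hSN)
  refine ⟨(g : X)⁻¹ * y, ?_, ?_⟩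
  · rw [map_mul, mul_smul, ← hN]
    exact Subgroup.conj_smul_eq_self_of_mem (N.inv_mem g.2)
  · intro p hp
    have hpN := hPM hp
    have h1 : g * ⟨p, hpN⟩ * g⁻¹ ∈ MulAut.conj g • P.subgroupOf N := by
      rw [MinFF.mem_cj]
      have e : g⁻¹ * (g * ⟨p, hpN⟩ * g⁻¹) * g = ⟨p, hpN⟩ := by group
      rw [e]; exact Subgroup.mem_subgroupOf.2 hp
    have h2 := hg h1
    have h3 : (g : X) * p * (g : X)⁻¹ ∈ ((y • S : Sylow 2 X) : Subgroup X) := h2
    rw [Sylow.coe_subgroup_smul] at h3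
    have h4 := MinFF.mem_cj.1 h3
    rw [MinFF.mem_cj]
    have e : ((g : X)⁻¹ * y)⁻¹ * p * ((g : X)⁻¹ * y) = y⁻¹ * ((g : X) * p * (g : X)⁻¹) * y := by group
    rw [e]; exact h4

/-- THEOREM L for `X₁ = ⟨B, B^x⟩` and the lines `L^{x'}` -/
theorem exists_out (m : MBU U B) :
    ∃ (Y₀ : Subgroup X) (y : X), y • V ≤ fx U (B.subgroupOf Y₀) ∧ y • V ⊓ fx U (⊤ : Subgroup Y₀) ≤ F ∧
      Hyp (B.subgroupOf Y₀) ((MulAut.conj y • M).subgroupOf Y₀) (y • L) := by
  obtain ⟨x, y₀, hti⟩ := Lift.exists_ti S M h.SM h.ne h.uniq m.ea.isPGroup m.nle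
  set Y₀ := B ⊔ MulAut.conj x • B with hY₀
  have hB : B ≤ Y₀ := le_sup_left
  have hBm := map_sub hB
  set A := B.subgroupOf Y₀ with hA
  have faith : ∀ z : Y₀, (∀ u : U, z • u = u) → z = 1 := fun z hz => Subtype.ext (h.faith z fun u => hz u)
  have ea : EA A := fun a ha => Subtype.ext (m.ea _ (Subgroup.mem_subgroupOf.1 ha))
  have off : Nat.card U ≤ mm U A := by rw [← mm_sub, hBm]; exact m.off
  have min : ∀ E < A, E ≠ ⊥ → mm U E < mm U A := by
    intro E hE hE0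
    rw [← mm_sub E, ← mm_sub A, hBm]
    refine m.min _ ?_ ?_
    · rw [← hBm]
      exact lt_of_le_of_ne (Subgroup.map_mono hE.le) fun h0 =>
        hE.ne (Subgroup.map_injective Y₀.subtype_injective h0)
    · intro h0
      exact hE0 ((Subgroup.map_eq_bot_iff_of_injective _ Y₀.subtype_injective).1 h0)
  have hAne : A ≠ ⊥ := by
    intro h0
    apply m.ne_bot
    rw [← hBm, h0, Subgroup.map_bot]
  have q₀ : Q U A ((MulAut.conj y₀ • M).subgroupOf Y₀) := ⟨h.two, faith, hti, quad' h.two ea hAne off min⟩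
  have hO2 := Lib.Cores.pCore_isPGroup (G := Y₀) 2
  have hOn : (pCore 2 Y₀).Normal := Lib.Cores.pCore_normal 2
  have hP2 : IsPGroup 2 ((A ⊔ pCore 2 Y₀ : Subgroup Y₀).map Y₀.subtype) :=
    (IsPGroup.to_sup_of_normal_right ea.isPGroup hO2).map _
  have hPM : (A ⊔ pCore 2 Y₀ : Subgroup Y₀).map Y₀.subtype ≤ MulAut.conj y₀ • M := by
    have h1 : A ⊔ pCore 2 Y₀ ≤ (MulAut.conj y₀ • M).subgroupOf Y₀ := sup_le hti.le q₀.core_le
    rintro _ ⟨a, ha, rfl⟩
    exact Subgroup.mem_subgroupOf.1 (h1 ha)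
  obtain ⟨y, hyM, hyP⟩ := h.exists_line y₀ hP2 hPM
  rw [← hyM] at hti q₀
  have hcjS : ∀ P : Subgroup X, P ≤ MulAut.conj y • (S : Subgroup X) → cj y⁻¹ P ≤ (S : Subgroup X) := by
    intro P hP p hp
    rw [mem_cj, inv_inv] at hp
    have h1 := MinFF.mem_cj.1 (hP hp)
    have e : y⁻¹ * (y * p * y⁻¹) * y = p := by group
    rwa [e] at h1
  have hBS : B ≤ MulAut.conj y • (S : Subgroup X) := by
    refine le_trans ?_ hyP
    rw [← hBm]
    exact Subgroup.map_mono le_sup_left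
  have hcent : B ≤ cf X (y • V) := h.bo_cent m.bo (hcjS B hBS)
  -- `M^y` normalises `L^y`
  have hML : ∀ z : Y₀, z ∈ (MulAut.conj y • M).subgroupOf Y₀ → (z : X) ∈ nf X (y • L) := by
    intro z hz
    rw [nf_conj]
    exact h.ML (MinFF.mem_cj.1 (Subgroup.mem_subgroupOf.1 hz))
  -- `O` normalises `V^y`
  have hOV : ∀ t ∈ pCore 2 Y₀, (t : X) ∈ nf X (y • V) := by
    intro t ht
    rw [nf_conj]
    exact h.SV (MinFF.mem_cj.1 (hyP ⟨t, Subgroup.mem_sup_right ht, rfl⟩))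
  have hVA : y • V ≤ fx U A := by
    intro v hv a ha
    exact hcent (Subgroup.mem_subgroupOf.1 ha) v hv
  have hpre : Pre A ((MulAut.conj y • M).subgroupOf Y₀) (y • L) :=
    ⟨h.two, faith, hti, ea, off, min, fun z hz => hML z hz, (h.L_le y).trans hVA⟩
  -- `V^y ∩ V^{zy} ≤ F`
  have hTI : ∀ z : Y₀, z ∉ (MulAut.conj y • M).subgroupOf Y₀ → y • V ⊓ ((z : X) * y) • V ≤ F := by
    intro z hz
    apply h.ti'
    intro h0
    apply hz
    rw [Subgroup.mem_subgroupOf, MinFF.mem_cj]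
    have e : y⁻¹ * (z : X) * y = y⁻¹ * ((z : X) * y) := by group
    rw [e]; exact h0
  obtain ⟨k, hk⟩ := hti.exists_not_mem
  -- `V^y ∩ Z ≤ F`
  have hVZ : y • V ⊓ fx U (⊤ : Subgroup Y₀) ≤ F := by
    rintro v ⟨hv, hvZ⟩
    refine hTI k hk ⟨hv, ?_⟩
    have h2 : (k : X) • v = v := hvZ k (Subgroup.mem_top k)
    rw [← h2, mul_smul]
    exact smul_mem' hv
  refine ⟨Y₀, y, hVA, hVZ, hpre, ?_, ?_⟩
  · intro B' hB' hne
    -- the group of all `t` which act on `L^y` as an element `δ ∈ O` with `[V^y, δ] ≤ F`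
    have hδL : ∀ δ : X, (∀ v ∈ y • V, δ • v - v ∈ F) → ∀ v ∈ y • L, δ • v ∈ y • L := by
      intro δ hδ v hv
      have h1 := h.F_le y (hδ v (h.L_le y hv))
      have e : δ • v = (δ • v - v) + v := by abel
      rw [e]; exact add_mem h1 hv
    have hdm : ∀ δ ε : X, (∀ v ∈ y • V, δ • v - v ∈ F) → (∀ v ∈ y • V, ε • v - v ∈ F) →
        ∀ v ∈ y • V, (δ * ε) • v - v ∈ F := by
      intro δ ε hδ hε v hv
      have e : (δ * ε) • v - v = (δ • (ε • v - v)) + (δ • v - v) := by rw [mul_smul, smul_sub]; abel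
      rw [e, h.Fx δ _ (hε v hv)]
      exact add_mem (hε v hv) (hδ v hv)
    have hdi : ∀ δ : X, (∀ v ∈ y • V, δ • v - v ∈ F) → ∀ v ∈ y • V, δ⁻¹ • v - v ∈ F := by
      intro δ hδ v hv
      have h1 := hδ v hv
      have h2 := h.Fx δ⁻¹ _ h1
      rw [smul_sub, inv_smul_smul] at h2
      have e : δ⁻¹ • v - v = -(v - δ⁻¹ • v) := by abel
      rw [e, h2]; exact neg_mem h1
    let K₁ : Subgroup Y₀ :=
      { carrier := {t | ∃ δ ∈ pCore 2 Y₀, (∀ v ∈ y • V, (δ : X) • v - v ∈ F) ∧ ∀ v ∈ y • L, (t : X) • v = (δ : X) • v}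
        one_mem' := ⟨1, one_mem _, fun v _ => by
          rw [OneMemClass.coe_one, one_smul, sub_self]; exact zero_mem _, fun v _ => rfl⟩
        mul_mem' := by
          rintro s t ⟨δ, hδ, h1, h2⟩ ⟨ε, hε, h3, h4⟩
          refine ⟨δ * ε, mul_mem hδ hε, hdm _ _ h1 h3, fun v hv => ?_⟩
          rw [Subgroup.coe_mul, Subgroup.coe_mul, mul_smul, mul_smul, h4 v hv, h2 _ (hδL _ h3 v hv)]
        inv_mem' := by
          rintro s ⟨δ, hδ, h1, h2⟩
          refine ⟨δ⁻¹, inv_mem hδ, hdi _ h1, fun v hv => ?_⟩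
          rw [Subgroup.coe_inv, Subgroup.coe_inv, inv_smul_eq_iff, h2 _ (hδL _ (hdi _ h1) v hv), smul_inv_smul] }
    have hK : QQ A ≤ K₁ := by
      rw [QQ, Subgroup.normalClosure, Subgroup.closure_le]
      rintro c hc
      obtain ⟨t, ht, hc⟩ := Group.mem_conjugatesOfSet_iff.1 hc
      obtain ⟨z, rfl⟩ := isConj_iff.1 hc
      by_cases hz : z ∈ (MulAut.conj y • M).subgroupOf Y₀
      · refine ⟨1, one_mem _, fun v _ => by rw [OneMemClass.coe_one, one_smul, sub_self]; exact zero_mem _,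
          fun v hv => ?_⟩
        have h1 : (z : X)⁻¹ • v ∈ y • L := nf_smul (inv_mem (hML z hz)) hv
        have h2 : (t : X) • (z : X)⁻¹ • v = (z : X)⁻¹ • v := hVA (h.L_le y h1) t ht.1
        rw [Subgroup.coe_mul, Subgroup.coe_mul, Subgroup.coe_inv, mul_smul, mul_smul, h2, smul_inv_smul,
          OneMemClass.coe_one, one_smul]
      · have htO : z * t * z⁻¹ ∈ pCore 2 Y₀ := hOn.conj_mem t ht.2 z
        refine ⟨z * t * z⁻¹, htO, fun v hv => ?_, fun v _ => rfl⟩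
        apply hVZ
        have h1 : ((z * t * z⁻¹ : Y₀) : X) • v ∈ y • V := nf_smul (hOV _ htO) hv
        have h2 : ((z * t * z⁻¹ : Y₀) : X) • v - v ∈ y • V := sub_mem h1 hv
        refine ⟨h2, ?_⟩
        refine q₀.inf_le (g := z) hz (hVA h2) ?_
        · intro a ha
          have e : z⁻¹ • (((z * t * z⁻¹ : Y₀) : X) • v - v) = t • (z⁻¹ • v) - z⁻¹ • v := by
            show z⁻¹ • ((z * t * z⁻¹ : Y₀) • v - v) = _
            rw [smul_sub, smul_smul]
            congr 1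
            rw [smul_smul]; congr 1; group
          rw [e]
          exact q₀.quad t ht.1 a ha _
    -- the subgroup `B₂ ≤ O` which induces the group `B'` on `L^y`
    let B₂ : Subgroup X :=
      { carrier := {δ | δ ∈ (pCore 2 Y₀).map Y₀.subtype ∧ (∀ v ∈ y • V, δ • v - v ∈ F) ∧
          ∃ b ∈ B', ∀ v ∈ y • L, δ • v = (b : X) • v}
        one_mem' := ⟨one_mem _, fun v _ => by rw [one_smul, sub_self]; exact zero_mem _, 1, one_mem _, fun v _ => rfl⟩
        mul_mem' := by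
          rintro s t ⟨h1, h2, b, hb, h3⟩ ⟨h4, h5, c, hc, h6⟩
          refine ⟨mul_mem h1 h4, hdm _ _ h2 h5, b * c, mul_mem hb hc, fun v hv => ?_⟩
          have h7 := hδL _ h5 v hv
          rw [mul_smul, h3 _ h7, h6 v hv, Subgroup.coe_mul, mul_smul]
        inv_mem' := by
          rintro s ⟨h1, h2, b, hb, h3⟩
          refine ⟨inv_mem h1, hdi _ h2, b⁻¹, inv_mem hb, fun v hv => ?_⟩
          have h7 := hδL _ (hdi _ h2) v hv
          have h8 := h3 _ h7
          rw [smul_inv_smul] at h8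
          rw [Subgroup.coe_inv, eq_inv_smul_iff, ← h8] }
    have hB₂S : B₂ ≤ MulAut.conj y • (S : Subgroup X) := fun δ hδ =>
      hyP (Subgroup.map_mono le_sup_right hδ.1)
    have memB₂ : ∀ b ∈ B', ∃ δ ∈ B₂, ∀ l ∈ y • L, (b : X) • l = δ • l := by
      intro b hb
      obtain ⟨δ, hδ, h1, h2⟩ := hK (hB' hb)
      exact ⟨δ, ⟨⟨δ, hδ, rfl⟩, h1, b, hb, fun v hv => (h2 v hv).symm⟩, h2⟩
    have hB₂n : B₂ ≤ nf X (y • L) := by
      intro δ hδ
      rw [nf_conj]
      exact (h.SM.trans h.ML) (MinFF.mem_cj.1 (hB₂S hδ))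
    have hB'n : B'.map Y₀.subtype ≤ nf X (y • L) := by
      rintro _ ⟨b, hb, rfl⟩
      exact hML b (q₀.core_le (Core1.Pre.QQ_le (hB' hb)))
    have hi := idx hB'n hB₂n (by
      rintro _ ⟨b, hb, rfl⟩
      exact memB₂ b hb) (by
      rintro δ ⟨-, -, b, hb, h3⟩
      exact ⟨b, ⟨b, hb, rfl⟩, h3⟩)
    have hfx : y • L ⊓ fx U B₂ = y • L ⊓ fx U B' := by
      ext v
      constructor
      · rintro ⟨hv, h1⟩
        refine ⟨hv, fun b hb => ?_⟩
        obtain ⟨δ, hδ, h2⟩ := memB₂ b hb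
        show (b : X) • v = v
        rw [h2 v hv]; exact h1 δ hδ
      · rintro ⟨hv, h1⟩
        refine ⟨hv, fun δ hδ => ?_⟩
        obtain ⟨-, -, b, hb, h3⟩ := hδ
        rw [h3 v hv]; exact h1 b hb
    have hcf : Nat.card ↥(B'.map Y₀.subtype ⊓ cf X (y • L)) = Nat.card ↥(B' ⊓ cf Y₀ (y • L)) := by
      rw [← card_sub (Y₀ := Y₀)]
      congr 2
      ext z
      constructor
      · rintro ⟨⟨a, ha, rfl⟩, hz⟩
        exact ⟨a, ⟨ha, hz⟩, rfl⟩
      · rintro ⟨a, ⟨ha, hz⟩, rfl⟩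
        exact ⟨⟨a, ha, rfl⟩, hz⟩
    rw [card_sub, hcf] at hi
    have hne₂ : ¬ cj y⁻¹ B₂ ≤ cf X L := by
      intro h0
      apply hne
      intro b hb v hv
      obtain ⟨δ, hδ, h2⟩ := memB₂ b hb
      show (b : X) • v = v
      rw [h2 v hv]
      have h3 := h0 (mem_cj_of (g := y⁻¹) hδ)
      rw [inv_inv, ← cf_conj] at h3
      exact h3 v hv
    have h1 := conj_lt y (h.nffL (cj y⁻¹ B₂) (hcjS _ hB₂S) (by
      intro a ha v hv
      rw [mem_cj, inv_inv] at ha
      have h2 := ha.2.1 (y • v) (smul_mem' hv)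
      have h3 := h.Fx y⁻¹ _ h2
      have e : y⁻¹ • ((y * a * y⁻¹) • y • v - y • v) = a • v - v := by
        rw [smul_sub, inv_smul_smul, smul_smul, smul_smul]
        congr 2; group
      rw [← e, h3]; exact h2) hne₂)
    rw [hfx] at h1
    rw [card_smul']
    have p₁ : 0 < Nat.card ↥(B₂ ⊓ cf X (y • L)) := Nat.card_pos
    have p₂ : 0 < Nat.card ↥(B' ⊓ cf Y₀ (y • L)) := Nat.card_pos
    refine Nat.lt_of_mul_lt_mul_right (a := Nat.card ↥(B₂ ⊓ cf X (y • L))) ?_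
    calc Nat.card B' * Nat.card ↥(y • L ⊓ fx U B') * Nat.card ↥(B₂ ⊓ cf X (y • L))
        = (Nat.card B' * Nat.card ↥(B₂ ⊓ cf X (y • L))) * Nat.card ↥(y • L ⊓ fx U B') := by ring
      _ = Nat.card B₂ * Nat.card ↥(y • L ⊓ fx U B') * Nat.card ↥(B' ⊓ cf Y₀ (y • L)) := by rw [hi]; ring
      _ < Nat.card L * Nat.card ↥(B₂ ⊓ cf X (y • L)) * Nat.card ↥(B' ⊓ cf Y₀ (y • L)) :=
        Nat.mul_lt_mul_of_pos_right h1 p₂
      _ = _ := by ring
  · intro h0
    apply h.nz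
    intro l hl
    have h1 : y • l ∈ y • L := smul_mem' hl
    have h2 := hVZ ⟨h.L_le y h1, h0 h1⟩
    have h3 := h.Fx y⁻¹ _ h2
    rw [inv_smul_smul] at h3
    rw [h3]; exact h2

/-- **`V = L`** -/
theorem eq (m : MBU U B) : V = L := by
  obtain ⟨Y₀, y, hVA, hVZ, hy⟩ := h.exists_out m
  have o := core hy
  refine le_antisymm ?_ h.LV
  rw [← AddSubgroup.pointwise_smul_le_pointwise_smul_iff (a := y)]
  intro v hv
  have h1 := hVA hv
  rw [o.C_eq] at h1
  obtain ⟨l, hl, z, hz, rfl⟩ := AddSubgroup.mem_sup.1 h1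
  have h2 : l + z - l ∈ y • V := sub_mem hv (h.L_le y hl)
  rw [add_sub_cancel_left] at h2
  exact add_mem hl (h.F_le y (hVZ ⟨h2, hz⟩))

end DatW

end Cfsg.Agent.Omega.NO3b.TheoremL.TwoLine

end
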