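import Cfsg.Agent.Mrg.Omega.NO3b.Exit.BO
import Cfsg.Agent.Mrg.Omega.MinFF.LLemma
import Cfsg.Agent.Mrg.Omega.FF.TvBasic
import Mathlib

section


/-!
# THEOREM L (#18749, helper344), part 2: a TI group `A` acting quadratically

`TI A M`, `Y` faithful on the elementary abelian 2-group `U`, `A` quadratic, `Z = C_U(Y)`, `C = C_U(A)`, `O = O₂(Y)`,
`D = ⟨C^Y⟩`.  For `g ∉ M` : `C ∩ C^g = Z`, `D = C C^g`, `A ∩ M^g ≤ O`; `a ∈ A - O`, `v ∈ D`, `[v, a] ∈ Z` imply `v ∈ C`.
`Sec P` : `Z ≤ P ≤ D` is `Y`-invariant.  `Sec.card` : `|P| |Z| = |P ∩ C|²`;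
`Sec.index` : `P' < P` implies `|A : A ∩ O| ≤ |P ∩ C : P' ∩ C|`.
-/

set_option autoImplicit false
set_option linter.unusedSectionVars false

namespace Cfsg.Agent.Omega.NO3b.TheoremL.Act

open Cfsg.Agent.Omega.FF.Basic (fx mem_fx fx_anti card_sup_inf card_le eq_of_card_le card_fib EA)
open Cfsg.Agent.Omega.NO3b.Exit.TT (cf mem_cf nf mem_nf mem_smul smul_mem' nf_smul le_cf card_smul')
open Cfsg.Agent.Omega.MinFF (TI)
open Cfsg (pCore)
open scoped Pointwise

section gen

variable {U : Type*} [AddCommGroup U] [Finite U]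

/-- counting by fibres -/
theorem add_fib (f : U →+ U) {P K T Z : AddSubgroup U} (hZT : Z ≤ T) (hf : ∀ v ∈ P, f v ∈ T)
    (hK : ∀ v ∈ P, f v ∈ Z → v ∈ K) : Nat.card P * Nat.card Z ≤ Nat.card K * Nat.card T := by
  classical
  let φ : P →+ T ⧸ Z.addSubgroupOf T :=
    (QuotientAddGroup.mk' (Z.addSubgroupOf T)).comp
      { toFun := fun v : P => (⟨f (v : U), hf v v.2⟩ : T)
        map_zero' := Subtype.ext (map_zero f)
        map_add' := fun v w => Subtype.ext (map_add f (v : U) w) }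
  have h1 : Nat.card P = Nat.card φ.ker * Nat.card φ.range := by
    rw [← AddSubgroup.index_ker]
    exact φ.ker.card_mul_index.symm
  have h2 : Nat.card φ.range ≤ Nat.card (T ⧸ Z.addSubgroupOf T) :=
    Nat.card_le_card_of_injective (fun x => (x : T ⧸ Z.addSubgroupOf T)) Subtype.coe_injective
  have h3 : Nat.card (T ⧸ Z.addSubgroupOf T) * Nat.card Z = Nat.card T := by
    have h4 := AddSubgroup.card_eq_card_quotient_mul_card_addSubgroup (Z.addSubgroupOf T)
    rw [h4, Nat.card_congr (AddSubgroup.addSubgroupOfEquivOfLe hZT).toEquiv]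
  have h4 : Nat.card φ.ker ≤ Nat.card K := by
    refine Nat.card_le_card_of_injective (fun x : φ.ker => (⟨x.1.1, hK _ x.1.2 ?_⟩ : K)) ?_
    · have h5 : φ x.1 = 0 := x.2
      have h6 := (QuotientAddGroup.eq_zero_iff _).1 h5
      exact AddSubgroup.mem_addSubgroupOf.1 h6
    · intro x y hxy
      have h6 : ((x : P) : U) = ((y : P) : U) := congrArg (fun k : K => (k : U)) hxy
      exact Subtype.ext (Subtype.ext h6)
  calc Nat.card P * Nat.card Z = Nat.card φ.ker * Nat.card φ.range * Nat.card Z := by rw [h1]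
    _ ≤ Nat.card K * Nat.card (T ⧸ Z.addSubgroupOf T) * Nat.card Z :=
      Nat.mul_le_mul_right _ (Nat.mul_le_mul h4 h2)
    _ = Nat.card K * Nat.card T := by rw [mul_assoc, h3]

end gen

variable {Y : Type*} [Group Y] {U : Type*} [AddCommGroup U] [DistribMulAction Y U]

theorem two_smul_sub (two : ∀ u : U, u + u = 0) (u v : U) : u - v = u + v := by
  rw [sub_eq_add_neg, neg_eq_of_add_eq_zero_left (two v)]

/-- `TI A M`, `A` quadratic -/
structure Q (U : Type*) [AddCommGroup U] [DistribMulAction Y U] (A M : Subgroup Y) : Prop where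
  two : ∀ u : U, u + u = 0
  faith : ∀ y : Y, (∀ u : U, y • u = u) → y = 1
  ti : TI A M
  quad : ∀ a ∈ A, ∀ b ∈ A, ∀ u : U, b • (a • u - u) = a • u - u

/-- `⟨C_U(A)^Y⟩` -/
def D (U : Type*) [AddCommGroup U] [DistribMulAction Y U] (A : Subgroup Y) : AddSubgroup U := ⨆ k : Y, k • fx U A

namespace Q

variable {A M : Subgroup Y} (h : Q U A M)
include h

theorem inf_le {g : Y} (hg : g ∉ M) {v : U} (hv : v ∈ fx U A) (hv' : g⁻¹ • v ∈ fx U A) : v ∈ fx U (⊤ : Subgroup Y) := by
  have h1 : A ⊔ MulAut.conj g • A ≤ MulAction.stabilizer Y v := by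
    refine sup_le (fun a ha => hv a ha) fun a ha => ?_
    have h2 := hv' _ (MinFF.mem_cj.1 ha)
    rw [MulAction.mem_stabilizer_iff]
    have e : a • v = g • (g⁻¹ * a * g) • g⁻¹ • v := by
      rw [smul_smul, smul_smul]; congr 1; group
    rw [e, h2, smul_inv_smul]
  rw [h.ti.sup_eq_top hg] at h1
  intro y _
  exact h1 (Subgroup.mem_top y)

theorem inf_le' {g : Y} (hg : g ∉ M) : fx U A ⊓ g • fx U A ≤ fx U (⊤ : Subgroup Y) :=
  fun _ hv => h.inf_le hg hv.1 (mem_smul.1 hv.2)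

omit h in
theorem Z_le (B : Subgroup Y) : fx U (⊤ : Subgroup Y) ≤ fx U B := fx_anti le_top

omit h in
theorem Z_smul {z : U} (hz : z ∈ fx U (⊤ : Subgroup Y)) (y : Y) : y • z = z := hz y (Subgroup.mem_top y)

/-- `A` is quadratic in the multiplicative notation -/
theorem quad' : ∀ a ∈ A, ∀ b ∈ A, ∀ u : U, b • (a • u + u) = a • u + u := by
  intro a ha b hb u
  have := h.quad a ha b hb u
  rwa [two_smul_sub h.two] at this

theorem comm_mem {g : Y} (hg : g ∉ M) (y : Y) (v : U) : y • v - v ∈ fx U A ⊔ g • fx U A := by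
  let K : Subgroup Y :=
    { carrier := {y | ∀ v : U, y • v - v ∈ fx U A ⊔ g • fx U A}
      mul_mem' := by
        intro x y hx hy v
        have e : (x * y) • v - v = (x • (y • v) - y • v) + (y • v - v) := by rw [mul_smul]; abel
        rw [e]; exact add_mem (hx _) (hy _)
      one_mem' := by
        intro v
        rw [one_smul, sub_self]; exact zero_mem _
      inv_mem' := by
        intro x hx v
        have e : x⁻¹ • v - v = -(x • (x⁻¹ • v) - x⁻¹ • v) := by rw [smul_inv_smul]; abel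
        rw [e]; exact neg_mem (hx _) }
  have h1 : A ≤ K := fun a ha v => AddSubgroup.mem_sup_left (fun b hb => h.quad a ha b hb v)
  have h2 : MulAut.conj g • A ≤ K := by
    intro a ha v
    apply AddSubgroup.mem_sup_right
    rw [mem_smul]
    have h3 : g⁻¹ * a * g ∈ A := MinFF.mem_cj.1 ha
    have e : g⁻¹ • (a • v - v) = (g⁻¹ * a * g) • (g⁻¹ • v) - g⁻¹ • v := by
      rw [smul_sub, smul_smul, smul_smul, mul_assoc, mul_inv_cancel, mul_one]
    rw [e]
    exact fun b hb => h.quad _ h3 b hb _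
  have h3 := sup_le h1 h2
  rw [h.ti.sup_eq_top hg] at h3
  exact h3 (Subgroup.mem_top y) v

theorem D_eq {g : Y} (hg : g ∉ M) : D U A = fx U A ⊔ g • fx U A := by
  apply le_antisymm
  · refine iSup_le fun k => ?_
    intro v hv
    rw [mem_smul] at hv
    have e : v = (k • (k⁻¹ • v) - k⁻¹ • v) + k⁻¹ • v := by rw [smul_inv_smul]; abel
    rw [e]
    exact add_mem (h.comm_mem hg _ _) (AddSubgroup.mem_sup_left hv)
  · refine sup_le ?_ (le_iSup (fun k : Y => k • fx U A) g)
    have := le_iSup (fun k : Y => k • fx U A) (1 : Y)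
    rwa [one_smul] at this

omit h in
theorem C_le_D : fx U A ≤ D U A := by
  have := le_iSup (fun k : Y => k • fx U A) (1 : Y)
  rwa [one_smul] at this

omit h in
theorem smul_C_le_D (g : Y) : g • fx U A ≤ D U A := le_iSup (fun k : Y => k • fx U A) g

theorem comm_D (y : Y) (v : U) : y • v - v ∈ D U A := by
  obtain ⟨g, hg⟩ := h.ti.exists_not_mem
  rw [h.D_eq hg]; exact h.comm_mem hg y v

/-- (2) of the `L`-lemma -/
theorem mem_of_comm {g b : Y} {v : U} (hv : g⁻¹ • v ∈ fx U A) (hvZ : v ∉ fx U (⊤ : Subgroup Y))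
    (hb : b • v - v ∈ fx U (⊤ : Subgroup Y)) : b ∈ MulAut.conj g • M := by
  let _ : MulDistribMulAction Y (Multiplicative U) := FF.SpreadEnd.mulAct Y U
  refine h.ti.mem_of_d_mem (V := Multiplicative U) (fun v => h.two v.toAdd) (v := Multiplicative.ofAdd v)
    (MinFF.mem_cv_cj.2 fun a ha => hv a ha) (fun hcon => hvZ fun y _ => hcon y trivial) ?_
  intro y _
  show y • (b • v + v) = b • v + v
  rw [← two_smul_sub h.two]
  exact hb y (Subgroup.mem_top y)

variable [Finite Y]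

theorem core_le : pCore 2 Y ≤ M := by
  have hO : (pCore 2 Y).Normal := Lib.Cores.pCore_normal 2
  obtain ⟨S, hS⟩ := (Lib.Cores.pCore_isPGroup (G := Y) 2).exists_le_sylow
  have hA : ∃ S : Sylow 2 Y, A ≤ S := by
    have hA2 : IsPGroup 2 A := by
      intro a
      refine ⟨1, Subtype.ext ?_⟩
      have h1 : (a : Y) * a = 1 := by
        apply h.faith
        intro u
        have h2 := h.quad a a.2 a a.2 u
        have e : ((a : Y) * a) • u = (a : Y) • ((a : Y) • u - u) + (a : Y) • u := by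
          rw [mul_smul, smul_sub]; abel
        rw [e, h2]
        have e2 : (a : Y) • u - u + (a : Y) • u = ((a : Y) • u + (a : Y) • u) - u := by abel
        rw [e2, h.two, zero_sub]
        exact neg_eq_of_add_eq_zero_left (h.two u)
      simpa [pow_two] using h1
    exact hA2.exists_le_sylow
  obtain ⟨S, hS⟩ := hA
  exact (Lib.Cores.pCore_le_sylow S).trans (h.ti.sylow_le hS)

theorem isPGroup_A : IsPGroup 2 A := by
  intro a
  refine ⟨1, Subtype.ext ?_⟩
  have h1 : (a : Y) * a = 1 := by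
    apply h.faith
    intro u
    have h2 := h.quad a a.2 a a.2 u
    have e : ((a : Y) * a) • u = (a : Y) • ((a : Y) • u - u) + (a : Y) • u := by
      rw [mul_smul, smul_sub]; abel
    rw [e, h2]
    have e2 : (a : Y) • u - u + (a : Y) • u = ((a : Y) • u + (a : Y) • u) - u := by abel
    rw [e2, h.two, zero_sub]
    exact neg_eq_of_add_eq_zero_left (h.two u)
  simpa [pow_two] using h1

/-- `a ∈ A - O`, `v ∈ D`, `[v, a] ∈ Z` imply `v ∈ C` -/
theorem mem_C {a : Y} (ha : a ∈ A) (haO : a ∉ pCore 2 Y) {v : U} (hv : v ∈ D U A)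
    (hd : a • v - v ∈ fx U (⊤ : Subgroup Y)) : v ∈ fx U A := by
  obtain ⟨g, hg, hga⟩ := h.ti.exists_good h.isPGroup_A ha haO
  rw [h.D_eq hg] at hv
  obtain ⟨v₁, h₁, v₂, h₂, rfl⟩ := AddSubgroup.mem_sup.1 hv
  rw [mem_smul] at h₂
  have e : a • (v₁ + v₂) - (v₁ + v₂) = a • v₂ - v₂ := by
    rw [smul_add, h₁ a ha]; abel
  rw [e] at hd
  have h3 : v₂ ∈ fx U (⊤ : Subgroup Y) := by
    by_contra hne
    exact hga (h.mem_of_comm h₂ hne hd)
  exact add_mem h₁ (Z_le A h3)

variable [Finite U]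

theorem inf_core {g : Y} (hg : g ∉ M) : A ⊓ MulAut.conj g • M ≤ pCore 2 Y := by
  let _ : MulDistribMulAction Y (Multiplicative U) := FF.SpreadEnd.mulAct Y U
  have hfin : Finite (Multiplicative U) := inferInstanceAs (Finite U)
  exact h.ti.inf_le_pCore (V := Multiplicative U) (fun v => h.two v.toAdd)
    (fun x hx => h.faith x fun u => congrArg Multiplicative.toAdd (hx (Multiplicative.ofAdd u)))
    (fun a ha b hb v => congrArg Multiplicative.ofAdd (h.quad' a ha b hb v.toAdd)) hg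

end Q

/-- `Z ≤ P ≤ D` is `Y`-invariant -/
structure Sec (U : Type*) [AddCommGroup U] [DistribMulAction Y U] (A : Subgroup Y) (P : AddSubgroup U) : Prop where
  Z_le : fx U (⊤ : Subgroup Y) ≤ P
  le_D : P ≤ D U A
  inv : ∀ (y : Y), ∀ v ∈ P, y • v ∈ P

namespace Sec

variable {A M : Subgroup Y} {P P' : AddSubgroup U} [Finite Y] [Finite U] (h : Q U A M) (s : Sec U A P)
include h s

omit [Finite Y] in
theorem smul_inf_le {g : Y} : g • (P ⊓ fx U A) ≤ P := by
  intro v hv
  rw [mem_smul] at hv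
  have := s.inv g _ hv.1
  rwa [smul_inv_smul] at this

omit [Finite Y] in
theorem inf_smul {g : Y} (hg : g ∉ M) : (P ⊓ fx U A) ⊓ g • (P ⊓ fx U A) = fx U (⊤ : Subgroup Y) := by
  apply le_antisymm
  · intro v hv
    exact h.inf_le hg hv.1.2 (mem_smul.1 hv.2).2
  · intro v hv
    have h1 : v ∈ P ⊓ fx U A := ⟨s.Z_le hv, Q.Z_le A hv⟩
    refine AddSubgroup.mem_inf.2 ⟨h1, mem_smul.2 ?_⟩
    rw [Q.Z_smul hv]
    exact h1

theorem card_le : Nat.card P * Nat.card (fx U (⊤ : Subgroup Y)) ≤ Nat.card ↥(P ⊓ fx U A) * Nat.card ↥(P ⊓ fx U A) := by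
  obtain ⟨a, ha, haO⟩ := SetLike.not_le_iff_exists.1 h.ti.not_le_pCore
  let f : U →+ U :=
    { toFun := fun v => a • v - v
      map_zero' := by rw [smul_zero, sub_zero]
      map_add' := fun v w => by rw [smul_add]; abel }
  refine add_fib f (P := P) (K := P ⊓ fx U A) (T := P ⊓ fx U A) (le_inf s.Z_le (Q.Z_le A)) ?_ ?_
  · intro v hv
    exact AddSubgroup.mem_inf.2 ⟨sub_mem (s.inv a v hv) hv, fun b hb => h.quad a ha b hb v⟩
  · intro v hv hz
    exact ⟨hv, h.mem_C ha haO (s.le_D hv) hz⟩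

theorem card : Nat.card P * Nat.card (fx U (⊤ : Subgroup Y)) = Nat.card ↥(P ⊓ fx U A) * Nat.card ↥(P ⊓ fx U A) := by
  apply le_antisymm (s.card_le h)
  obtain ⟨g, hg⟩ := h.ti.exists_not_mem
  have h1 := card_sup_inf (P ⊓ fx U A) (g • (P ⊓ fx U A))
  rw [s.inf_smul h hg, card_smul'] at h1
  rw [← h1]
  exact Nat.mul_le_mul_right _ (FF.Basic.card_le (sup_le inf_le_left (s.smul_inf_le h)))

theorem sup_eq {g : Y} (hg : g ∉ M) : (P ⊓ fx U A) ⊔ g • (P ⊓ fx U A) = P := by
  refine eq_of_card_le (sup_le inf_le_left (s.smul_inf_le h)) ?_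
  have h1 := card_sup_inf (P ⊓ fx U A) (g • (P ⊓ fx U A))
  rw [s.inf_smul h hg, card_smul'] at h1
  refine Nat.le_of_mul_le_mul_right ?_ (Nat.card_pos (α := fx U (⊤ : Subgroup Y)))
  rw [h1]; exact s.card_le h

/-- `[P ∩ C^g, a] Z = P ∩ C` for `a ∈ A - O` -/
theorem surj {g : Y} (hg : g ∉ M) {a : Y} (ha : a ∈ A) (haO : a ∉ pCore 2 Y) {c : U} (hc : c ∈ P ⊓ fx U A) :
    ∃ v ∈ P, g⁻¹ • v ∈ fx U A ∧ (a • v - v) - c ∈ fx U (⊤ : Subgroup Y) := by
  let H : AddSubgroup U :=
    { carrier := {c | c ∈ P ⊓ fx U A ∧ ∃ v ∈ P, g⁻¹ • v ∈ fx U A ∧ (a • v - v) - c ∈ fx U (⊤ : Subgroup Y)}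
      zero_mem' := ⟨zero_mem _, 0, zero_mem _, by rw [smul_zero]; exact zero_mem _, by
        rw [smul_zero, sub_zero, sub_zero]; exact zero_mem _⟩
      add_mem' := by
        rintro c c' ⟨hc, v, hv, hvg, h1⟩ ⟨hc', v', hv', hvg', h1'⟩
        refine ⟨add_mem hc hc', v + v', add_mem hv hv', by rw [smul_add]; exact add_mem hvg hvg', ?_⟩
        have e : (a • (v + v') - (v + v')) - (c + c') = ((a • v - v) - c) + ((a • v' - v') - c') := by
          rw [smul_add]; abel
        rw [e]; exact add_mem h1 h1'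
      neg_mem' := by
        rintro c ⟨hc, v, hv, hvg, h1⟩
        refine ⟨neg_mem hc, -v, neg_mem hv, by rw [smul_neg]; exact neg_mem hvg, ?_⟩
        have e : (a • (-v) - (-v)) - (-c) = -((a • v - v) - c) := by rw [smul_neg]; abel
        rw [e]; exact neg_mem h1 }
  let f : U →+ U :=
    { toFun := fun v => a • v - v
      map_zero' := by rw [smul_zero, sub_zero]
      map_add' := fun v w => by rw [smul_add]; abel }
  have h1 := add_fib f (P := g • (P ⊓ fx U A)) (K := fx U (⊤ : Subgroup Y)) (T := H) (Z := fx U (⊤ : Subgroup Y))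
    (by
      intro z hz
      refine ⟨⟨s.Z_le hz, Q.Z_le A hz⟩, 0, zero_mem _, by rw [smul_zero]; exact zero_mem _, ?_⟩
      rw [smul_zero, sub_zero, zero_sub]; exact neg_mem hz)
    (by
      intro v hv
      have hvP := s.smul_inf_le h hv
      refine ⟨AddSubgroup.mem_inf.2 ⟨sub_mem (s.inv a v hvP) hvP, fun b hb => h.quad a ha b hb v⟩, v, hvP,
        (mem_smul.1 hv).2, ?_⟩
      show (a • v - v) - (a • v - v) ∈ _
      rw [sub_self]; exact zero_mem _)
    (by
      intro v hv hz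
      have hvP := s.smul_inf_le h hv
      exact h.inf_le hg (h.mem_C ha haO (s.le_D hvP) hz) (mem_smul.1 hv).2)
  rw [card_smul', mul_comm] at h1
  have h2 := Nat.le_of_mul_le_mul_left h1 Nat.card_pos
  have h3 : H = P ⊓ fx U A := eq_of_card_le (fun c hc => hc.1) h2
  rw [← h3] at hc
  exact hc.2

/-- `|A : A ∩ O| ≤ |P ∩ C : P' ∩ C|` -/
theorem fib (s' : Sec U A P') {g : Y} (hg : g ∉ M) {v : U} (hv : v ∈ P) (hvg : g⁻¹ • v ∈ fx U A)
    (hv' : v ∉ P') {H : AddSubgroup U} (hH : P' ⊓ fx U A ≤ H) (hf : ∀ a ∈ A, a • v - v ∈ H) :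
    Nat.card A * Nat.card ↥(P' ⊓ fx U A) ≤ Nat.card ↥(A ⊓ pCore 2 Y) * Nat.card H := by
  refine card_fib hH (fun a => a • v - v) hf ?_
  intro a ha b hb hab
  have hab' : (a • v - v) - (b • v - v) ∈ P' ⊓ fx U A := hab
  have ht : b⁻¹ * a ∈ A := A.mul_mem (A.inv_mem hb) ha
  refine ⟨ht, ?_⟩
  by_contra hO
  have e1 : (a • v - v) - (b • v - v) = a • v - b • v := by abel
  rw [e1] at hab'
  have h1 : (b⁻¹ * a) • v - v = a • v - b • v := by
    have h2 := hab'.2 _ (A.inv_mem hb)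
    rw [smul_sub, inv_smul_smul, smul_smul] at h2
    exact h2
  rw [← h1] at hab'
  obtain ⟨v', hv'P, hv'g, h3⟩ := s'.surj h hg ht hO hab'
  have h4 : (b⁻¹ * a) • (v' - v) - (v' - v) ∈ fx U (⊤ : Subgroup Y) := by
    have e : (b⁻¹ * a) • (v' - v) - (v' - v) = ((b⁻¹ * a) • v' - v') - ((b⁻¹ * a) • v - v) := by
      rw [smul_sub]; abel
    rw [e]; exact h3
  have h5 : v' - v ∈ fx U A := h.mem_C ht hO (sub_mem (s'.le_D hv'P) (s.le_D hv)) h4
  have h6 : v' - v ∈ fx U (⊤ : Subgroup Y) := h.inf_le hg h5 (by rw [smul_sub]; exact sub_mem hv'g hvg)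
  apply hv'
  have e : v = v' - (v' - v) := by abel
  rw [e]; exact sub_mem hv'P (s'.Z_le h6)

omit [Finite Y] in
theorem exists_smul (s' : Sec U A P') (hlt : P' < P) {g : Y} (hP : (P ⊓ fx U A) ⊔ g • (P ⊓ fx U A) = P) :
    ∃ v ∈ P, g⁻¹ • v ∈ fx U A ∧ v ∉ P' := by
  by_contra hcon
  push Not at hcon
  apply hlt.not_ge
  rw [← hP]
  have h1 : g • (P ⊓ fx U A) ≤ P' := fun v hv => hcon v (s.smul_inf_le h hv) (mem_smul.1 hv).2
  refine sup_le ?_ h1
  intro v hv
  have h2 := h1 (smul_mem' (x := g) hv)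
  have h3 := s'.inv g⁻¹ _ h2
  rwa [inv_smul_smul] at h3

theorem index (s' : Sec U A P') (hlt : P' < P) :
    Nat.card A * Nat.card ↥(P' ⊓ fx U A) ≤ Nat.card ↥(A ⊓ pCore 2 Y) * Nat.card ↥(P ⊓ fx U A) := by
  obtain ⟨g, hg⟩ := h.ti.exists_not_mem
  obtain ⟨v, hv, hvg, hv'⟩ := s.exists_smul h s' hlt (s.sup_eq h hg)
  refine s.fib h s' hg hv hvg hv' (inf_le_inf_right _ hlt.le) ?_
  intro a ha
  exact AddSubgroup.mem_inf.2 ⟨sub_mem (s.inv a v hv) hv, fun b hb => h.quad a ha b hb v⟩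

end Sec

end Cfsg.Agent.Omega.NO3b.TheoremL.Act

end

section


/-!
# THEOREM L (#18749, helper344), (4): the ring trick

`b : W × Θ → Z` a biadditive pairing of finite elementary abelian 2-groups, nondegenerate on both sides, such that
`2 |E| |ann E| ≤ |W|` for `0 ≠ E ≤ Θ`.  Then `|P / P'| |Θ| ≤ |W|` for every chief factor `P / P'` of `W` under the ring
of adjoint pairs of `b`.

Proof: `R` the ring of adjoint pairs, `e` a primitive idempotent of `R`, `G e` the group of units of `eRe`.  The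
elements of `eRe` are nilpotent or units, so `G e` acts on `eM - 0` with stabilizers which are 2-groups, for every
finite `R`-module `M`, and transitively on `eN - 0` for a simple `N`.  Hence with `l` = odd part of `|G e|`:
`l ∣ |eM| - 1`, `|eN| ≤ l + 1`; so `|eW| > |Θe|` implies `|eW| ≥ |Θe| |eN|`.
-/

set_option autoImplicit false

namespace Cfsg.Agent.Omega.NO3b.TheoremL.Ring

open MulOpposite

section ring

variable {R : Type*} [Ring R]

theorem exists_idem [Finite R] (x : R) : ∃ n, 0 < n ∧ x ^ n * x ^ n = x ^ n := by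
  obtain ⟨i, j, hne, hij⟩ := Finite.exists_ne_map_eq_of_infinite (fun n : ℕ => x ^ n)
  wlog hlt : i < j generalizing i j
  · exact this j i hne.symm hij.symm (lt_of_le_of_ne (not_lt.1 hlt) hne.symm)
  obtain ⟨p, rfl⟩ := Nat.exists_eq_add_of_lt hlt
  have hij' : x ^ i = x ^ (i + p + 1) := hij
  have h1 : ∀ n, i ≤ n → x ^ (n + (p + 1)) = x ^ n := by
    intro n hn
    obtain ⟨m, rfl⟩ := Nat.exists_eq_add_of_le hn
    have e1 : i + m + (p + 1) = (i + p + 1) + m := by ring
    rw [e1, pow_add, ← hij', ← pow_add]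
  have h2 : ∀ k n, i ≤ n → x ^ (n + k * (p + 1)) = x ^ n := by
    intro k
    induction k with
    | zero => intro n _; rw [zero_mul, add_zero]
    | succ k ih =>
      intro n hn
      have e1 : n + (k + 1) * (p + 1) = (n + k * (p + 1)) + (p + 1) := by ring
      rw [e1, h1 _ (by omega), ih n hn]
  refine ⟨(i + 1) * (p + 1), by positivity, ?_⟩
  rw [← pow_add]
  exact h2 (i + 1) _ (by nlinarith)

theorem one_add_pow (h : ∀ x : R, x + x = 0) (x : R) (k : ℕ) : (1 + x) ^ (2 ^ k) = 1 + x ^ (2 ^ k) := by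
  induction k with
  | zero => rw [pow_zero, pow_one, pow_one]
  | succ k ih =>
    rw [pow_succ, pow_mul, ih, pow_mul]
    have e : (1 + x ^ 2 ^ k) ^ 2 = 1 + (x ^ 2 ^ k + x ^ 2 ^ k) + (x ^ 2 ^ k) ^ 2 := by noncomm_ring
    rw [e, h, add_zero]

/-- `e` has no proper idempotent below it -/
def Pr (e : R) : Prop := ∀ f : R, f * f = f → e * f = f → f * e = f → f = 0 ∨ f = e

/-- the units of `eRe`, as units `u` of `R` with `u - 1 ∈ eRe` -/
def G (e : R) : Subgroup Rˣ where
  carrier := {u | e * ((u : R) - 1) = (u : R) - 1 ∧ ((u : R) - 1) * e = (u : R) - 1}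
  one_mem' := by simp
  mul_mem' := by
    rintro a b ⟨h1, h2⟩ ⟨h3, h4⟩
    have e1 : ((a * b : Rˣ) : R) - 1 = ((a : R) - 1) * ((b : R) - 1) + ((a : R) - 1) + ((b : R) - 1) := by
      push_cast; noncomm_ring
    constructor
    · rw [e1, mul_add, mul_add, ← mul_assoc, h1, h3]
    · rw [e1, add_mul, add_mul, mul_assoc, h2, h4]
  inv_mem' := by
    rintro a ⟨h1, h2⟩
    have e1 : ((a⁻¹ : Rˣ) : R) - 1 = -(((a : R) - 1) * ((a⁻¹ : Rˣ) : R)) := by
      rw [sub_mul, one_mul, Units.mul_inv]; abel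
    have e2 : ((a⁻¹ : Rˣ) : R) - 1 = -(((a⁻¹ : Rˣ) : R) * ((a : R) - 1)) := by
      rw [mul_sub, mul_one, Units.inv_mul]; abel
    constructor
    · rw [e1, mul_neg, ← mul_assoc, h1]
    · rw [e2, neg_mul, mul_assoc, h2]

theorem mem_G {e : R} {u : Rˣ} : u ∈ G e ↔ e * ((u : R) - 1) = (u : R) - 1 ∧ ((u : R) - 1) * e = (u : R) - 1 := Iff.rfl

/-- an element of `eRe` is nilpotent or a unit of `eRe` -/
theorem nil_or_unit [Finite R] {e : R} (he : Pr e) {x : R} (h1 : e * x = x) (h2 : x * e = x) :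
    (∃ n, x ^ n = 0) ∨ ∃ y : R, e * y = y ∧ y * e = y ∧ x * y = e ∧ y * x = e := by
  obtain ⟨n, hn, hidem⟩ := exists_idem x
  obtain ⟨m, rfl⟩ := Nat.exists_eq_add_of_lt hn
  rw [zero_add] at hidem hn
  have h3 : e * x ^ (m + 1) = x ^ (m + 1) := by rw [pow_succ', ← mul_assoc, h1]
  have h4 : x ^ (m + 1) * e = x ^ (m + 1) := by rw [pow_succ, mul_assoc, h2]
  rcases he _ hidem h3 h4 with h5 | h5
  · exact Or.inl ⟨m + 1, h5⟩
  · right
    have hee : e * e = e := by rw [← h5]; exact hidem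
    refine ⟨x ^ m * e, ?_, ?_, ?_, ?_⟩
    · rcases Nat.eq_zero_or_pos m with rfl | hm
      · rw [pow_zero, one_mul, hee]
      · obtain ⟨k, rfl⟩ := Nat.exists_eq_add_of_lt hm
        rw [zero_add, ← mul_assoc, pow_succ', ← mul_assoc, h1]
    · rw [mul_assoc, hee]
    · rw [← mul_assoc, ← pow_succ', h5, hee]
    · rw [mul_assoc, h1, ← pow_succ, h5]

section act

variable {M : Type*} [AddCommGroup M] [Module R M]

/-- `eM` -/
def ran (M : Type*) [AddCommGroup M] [Module R M] (e : R) : AddSubgroup M where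
  carrier := {m | e • m = m}
  zero_mem' := smul_zero _
  add_mem' := fun {a b} ha hb => by
    show e • (a + b) = a + b
    rw [smul_add]
    have h1 : e • a = a := ha
    have h2 : e • b = b := hb
    rw [h1, h2]
  neg_mem' := fun {a} ha => by
    show e • (-a) = -a
    have h1 : e • a = a := ha
    rw [smul_neg, h1]

theorem mem_ran {e : R} {m : M} : m ∈ ran M e ↔ e • m = m := Iff.rfl

theorem G_smul {e : R} {u : Rˣ} (hu : u ∈ G e) {m : M} (hm : e • m = m) : e • (u : R) • m = (u : R) • m := by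
  have h1 : (u : R) • m = ((u : R) - 1) • m + m := by rw [sub_smul, one_smul]; abel
  rw [h1, smul_add, smul_smul, hu.1, hm]

/-- `G e` acts on `eM - 0` -/
instance act (e : R) : MulAction (G e) {m : M // e • m = m ∧ m ≠ 0} where
  smul u m := ⟨((u : Rˣ) : R) • (m : M), G_smul u.2 m.2.1, fun h => m.2.2 (by
    have := congrArg (fun x => (((u : Rˣ)⁻¹ : Rˣ) : R) • x) h
    simp only [smul_smul, Units.inv_mul, one_smul, smul_zero] at this
    exact this)⟩
  one_smul m := by
    apply Subtype.ext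
    show ((1 : Rˣ) : R) • (m : M) = m
    rw [Units.val_one, one_smul]
  mul_smul u v m := by
    apply Subtype.ext
    show (((u : Rˣ) * (v : Rˣ) : Rˣ) : R) • (m : M) = ((u : Rˣ) : R) • ((v : Rˣ) : R) • (m : M)
    rw [Units.val_mul, mul_smul]

theorem coe_act {e : R} (u : G e) (m : {m : M // e • m = m ∧ m ≠ 0}) :
    ((u • m : {m : M // e • m = m ∧ m ≠ 0}) : M) = ((u : Rˣ) : R) • (m : M) := rfl

theorem stab [Finite R] (h : ∀ x : R, x + x = 0) {e : R} (he : Pr e) (m : {m : M // e • m = m ∧ m ≠ 0}) :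
    IsPGroup 2 (MulAction.stabilizer (G e) m) := by
  rintro ⟨u, hu⟩
  have h1 : ((u : Rˣ) : R) • (m : M) = m := by
    have := congrArg Subtype.val (MulAction.mem_stabilizer_iff.1 hu)
    exact this
  have h2 : (((u : Rˣ) : R) - 1) • (m : M) = 0 := by rw [sub_smul, one_smul, h1, sub_self]
  rcases nil_or_unit he u.2.1 u.2.2 with ⟨n, hn⟩ | ⟨y, hy1, hy2, hy3, hy4⟩
  · refine ⟨n, ?_⟩
    apply Subtype.ext
    apply Subtype.ext
    apply Units.ext
    show ((u : Rˣ) : R) ^ 2 ^ n = 1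
    have h3 : ((u : Rˣ) : R) = 1 + (((u : Rˣ) : R) - 1) := by abel
    rw [h3, one_add_pow h, pow_eq_zero_of_le Nat.lt_two_pow_self.le hn, add_zero]
  · exfalso
    apply m.2.2
    calc (m : M) = e • (m : M) := m.2.1.symm
      _ = y • (((u : Rˣ) : R) - 1) • (m : M) := by rw [smul_smul, hy4]
      _ = 0 := by rw [h2, smul_zero]

end act

/-- the odd part of `|G e|` -/
noncomputable def odd (e : R) : ℕ := ordCompl[2] (Nat.card (G e))

theorem dvd_of_stab {Γ Ω : Type*} [Group Γ] [Finite Γ] [Finite Ω] [MulAction Γ Ω]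
    (h : ∀ x : Ω, IsPGroup 2 (MulAction.stabilizer Γ x)) : ordCompl[2] (Nat.card Γ) ∣ Nat.card Ω := by
  classical
  have : Fintype Γ := Fintype.ofFinite _
  have : Fintype Ω := Fintype.ofFinite _
  have hf : Fact (Nat.Prime 2) := ⟨Nat.prime_two⟩
  have key : ∀ x : Ω, ordCompl[2] (Nat.card Γ) ∣ Nat.card (MulAction.orbit Γ x) := by
    intro x
    obtain ⟨n, hn⟩ := IsPGroup.iff_card.1 (h x)
    have h1 : Nat.card (MulAction.orbit Γ x) * Nat.card (MulAction.stabilizer Γ x) = Nat.card Γ := by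
      rw [← Nat.card_prod]
      exact Nat.card_congr (MulAction.orbitProdStabilizerEquivGroup Γ x)
    rw [hn] at h1
    have h2 : ordCompl[2] (Nat.card Γ) ∣ Nat.card (MulAction.orbit Γ x) * 2 ^ n := by
      rw [h1]; exact Nat.ordCompl_dvd _ _
    refine Nat.Coprime.dvd_of_dvd_mul_right ?_ h2
    exact (Nat.coprime_ordCompl Nat.prime_two Nat.card_pos.ne').symm.pow_right n
  have h3 : Nat.card Ω = ∑ ω : MulAction.orbitRel.Quotient Γ Ω, Nat.card (MulAction.orbit Γ ω.out) := by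
    rw [← Nat.card_sigma]
    exact Nat.card_congr (MulAction.selfEquivSigmaOrbits Γ Ω)
  rw [h3]
  exact Finset.dvd_sum fun ω _ => key _

theorem card_ran {M : Type*} [AddCommGroup M] [Module R M] [Finite M] (e : R) :
    Nat.card (ran M e) = Nat.card {m : M // e • m = m ∧ m ≠ 0} + 1 := by
  classical
  have : Fintype M := Fintype.ofFinite _
  have h1 : Nat.card (ran M e) = Nat.card (Option {m : M // e • m = m ∧ m ≠ 0}) := by
    refine Nat.card_congr ⟨fun m => if h : (m : M) = 0 then none else some ⟨m, m.2, h⟩,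
      fun o => o.elim ⟨0, smul_zero _⟩ fun m => ⟨m, m.2.1⟩, ?_, ?_⟩
    · intro m
      by_cases h : (m : M) = 0
      · simp only [h, dite_true]
        exact Subtype.ext h.symm
      · simp only [h, dite_false]
        rfl
    · intro o
      cases o with
      | none => simp
      | some m => simp [m.2.2]
  rw [h1, Finite.card_option]

/-- `l ∣ |eM| - 1` -/
theorem odd_dvd [Finite R] (h : ∀ x : R, x + x = 0) {e : R} (he : Pr e) (M : Type*) [AddCommGroup M] [Module R M]
    [Finite M] : odd e ∣ Nat.card (ran M e) - 1 := by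
  rw [card_ran, Nat.add_sub_cancel]
  exact dvd_of_stab (stab h he)

/-- `|eN| ≤ l + 1` for a simple module -/
theorem card_simple [Finite R] {e : R} (he : Pr e) (hee : e * e = e) (N : Type*) [AddCommGroup N] [Module R N]
    [Finite N] (h2 : ∀ n : N, n + n = 0) [IsSimpleModule R N] : Nat.card (ran N e) ≤ odd e + 1 := by
  have hodd : 0 < odd e := Nat.ordCompl_pos _ Nat.card_pos.ne'
  by_cases hne : Nonempty {m : N // e • m = m ∧ m ≠ 0}
  swap
  · have h3 : Nat.card {m : N // e • m = m ∧ m ≠ 0} = 0 := by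
      rw [Nat.card_eq_zero]; exact Or.inl (not_nonempty_iff.1 hne)
    rw [card_ran, h3]; omega
  obtain ⟨v⟩ := hne
  -- transitivity
  have htr : MulAction.orbit (G e) v = Set.univ := by
    rw [Set.eq_univ_iff_forall]
    intro w
    have hgen : ∀ (a b : N), a ≠ 0 → ∃ r : R, r • a = b := by
      intro a b ha
      have h3 : Submodule.span R {a} = ⊤ := by
        rcases eq_bot_or_eq_top (Submodule.span R {a}) with h4 | h4
        · exfalso
          rw [Submodule.span_singleton_eq_bot] at h4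
          exact ha h4
        · exact h4
      have h4 : b ∈ Submodule.span R {a} := by rw [h3]; trivial
      exact Submodule.mem_span_singleton.1 h4
    obtain ⟨r, hr⟩ := hgen v w v.2.2
    obtain ⟨s, hs⟩ := hgen w v w.2.2
    have hv := v.2.1
    have hw := w.2.1
    set a := e * r * e with ha
    set b := e * s * e with hb
    have ea : e * a = a := by rw [ha, ← mul_assoc, ← mul_assoc, hee]
    have ae : a * e = a := by rw [ha, mul_assoc, hee]
    have eb : e * b = b := by rw [hb, ← mul_assoc, ← mul_assoc, hee]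
    have be : b * e = b := by rw [hb, mul_assoc, hee]
    have hav : a • (v : N) = w := by rw [ha, mul_smul, mul_smul, hv, hr, hw]
    have hbw : b • (w : N) = v := by rw [hb, mul_smul, mul_smul, hw, hs, hv]
    have hv0 : ∀ n : ℕ, (b * a) ^ n • (v : N) = v := by
      intro n
      induction n with
      | zero => rw [pow_zero, one_smul]
      | succ n ih => rw [pow_succ, mul_smul, mul_smul, hav, hbw, ih]
    -- `ba` is a unit
    obtain ⟨y, -, -, -, hy⟩ : ∃ y : R, e * y = y ∧ y * e = y ∧ (b * a) * y = e ∧ y * (b * a) = e := by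
      rcases nil_or_unit he (x := b * a) (by rw [← mul_assoc, eb]) (by rw [mul_assoc, ae]) with ⟨n, hn⟩ | h4
      · exfalso
        apply v.2.2
        rw [← hv0 n, hn, zero_smul]
      · exact h4
    obtain ⟨z, ez, ze, haz, hza⟩ : ∃ z : R, e * z = z ∧ z * e = z ∧ a * z = e ∧ z * a = e := by
      rcases nil_or_unit he ea ae with ⟨n, hn⟩ | h4
      · exfalso
        have h5 : ∀ n : ℕ, (y * b) ^ n * a ^ n * e = e := by
          intro n
          induction n with
          | zero => rw [pow_zero, pow_zero, one_mul, one_mul]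
          | succ n ih =>
            have h6 : (y * b) ^ (n + 1) * a ^ (n + 1) * e = (y * b) ^ n * (y * (b * a)) * a ^ n * e := by
              rw [pow_succ, pow_succ' a]; noncomm_ring
            rw [h6, hy]
            rcases Nat.eq_zero_or_pos n with h7 | h7
            · subst h7; rw [pow_zero, pow_zero, one_mul, mul_one, hee]
            · obtain ⟨k, rfl⟩ := Nat.exists_eq_add_of_lt h7
              have h8 : e * a ^ (0 + k + 1) = a ^ (0 + k + 1) := by rw [pow_succ', ← mul_assoc, ea]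
              rw [mul_assoc _ e, h8]; exact ih
        have h6 := h5 n
        rw [hn, mul_zero, zero_mul] at h6
        apply v.2.2
        calc (v : N) = e • (v : N) := hv.symm
          _ = (0 : R) • (v : N) := congrArg (fun x : R => x • (v : N)) h6.symm
          _ = 0 := zero_smul _ _
      · exact h4
    have hu1 : (a + (1 - e)) * (z + (1 - e)) = 1 := by
      have h5 : (a + (1 - e)) * (z + (1 - e)) = a * z + (a - a * e) + (z - e * z) + (1 - e - e + e * e) := by
        noncomm_ring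
      rw [h5, haz, ae, ez, hee]; abel
    have hu2 : (z + (1 - e)) * (a + (1 - e)) = 1 := by
      have h5 : (z + (1 - e)) * (a + (1 - e)) = z * a + (z - z * e) + (a - e * a) + (1 - e - e + e * e) := by
        noncomm_ring
      rw [h5, hza, ze, ea, hee]; abel
    let u : Rˣ := ⟨a + (1 - e), z + (1 - e), hu1, hu2⟩
    have hu : u ∈ G e := by
      show e * ((a + (1 - e)) - 1) = (a + (1 - e)) - 1 ∧ ((a + (1 - e)) - 1) * e = (a + (1 - e)) - 1
      have h5 : a + (1 - e) - 1 = a - e := by abel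
      rw [h5, mul_sub, sub_mul, ea, ae, hee]
      exact ⟨rfl, rfl⟩
    refine ⟨⟨u, hu⟩, ?_⟩
    apply Subtype.ext
    show (a + (1 - e)) • (v : N) = w
    rw [add_smul, sub_smul, one_smul, hv, sub_self, add_zero, hav]
  set n := Nat.card {m : N // e • m = m ∧ m ≠ 0} with hn
  have h3 : n ∣ Nat.card (G e) := by
    have h4 : Nat.card (MulAction.orbit (G e) v) = n := by
      rw [htr]; exact Nat.card_congr (Equiv.Set.univ _)
    rw [← h4, ← Nat.card_congr (MulAction.orbitProdStabilizerEquivGroup (G e) v), Nat.card_prod]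
    exact Dvd.intro _ rfl
  have h4 : Nat.Coprime n 2 := by
    have h5 := card_ran (M := N) e
    rw [← hn] at h5
    have h6 : IsPGroup 2 (Multiplicative (ran N e)) := by
      intro x
      refine ⟨1, ?_⟩
      apply Multiplicative.toAdd.injective
      apply Subtype.ext
      rw [pow_one, toAdd_pow, two_nsmul]
      exact h2 _
    have hf : Fact (Nat.Prime 2) := ⟨Nat.prime_two⟩
    obtain ⟨k, hk⟩ := IsPGroup.iff_card.1 h6
    have hk' : Nat.card (ran N e) = 2 ^ k := hk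
    have hn0 : 0 < n := by
      have : Nonempty {m : N // e • m = m ∧ m ≠ 0} := ⟨v⟩
      exact Nat.card_pos
    rw [Nat.coprime_comm, Nat.coprime_two_left, ← Nat.not_even_iff_odd]
    intro h7
    have h8 : k ≠ 0 := by
      rintro rfl
      rw [pow_zero] at hk'
      omega
    have h9 : Even (Nat.card (ran N e)) := by rw [hk']; exact (Nat.even_pow.2 ⟨even_two, h8⟩)
    rw [h5, Nat.even_add_one] at h9
    exact h9 h7
  have h5 : n ∣ odd e := by
    have h6 : ordProj[2] (Nat.card (G e)) * ordCompl[2] (Nat.card (G e)) = Nat.card (G e) :=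
      Nat.ordProj_mul_ordCompl_eq_self _ _
    rw [← h6] at h3
    exact Nat.Coprime.dvd_of_dvd_mul_left (h4.pow_right _) h3
  rw [card_ran]
  have := Nat.le_of_dvd hodd h5
  omega

theorem Pr.op {e : R} (he : Pr e) : Pr (MulOpposite.op e) := by
  intro f h1 h2 h3
  have h4 := he (unop f) (by rw [← unop_mul, h1]) (by rw [← unop_op e, ← unop_mul, h3])
    (by rw [← unop_op e, ← unop_mul, h2])
  rcases h4 with h5 | h5
  · left; rw [← op_unop f, h5, op_zero]
  · right; rw [← op_unop f, h5]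

theorem odd_op (e : R) : odd (MulOpposite.op e) = odd e := by
  have h1 : Nat.card (G (MulOpposite.op e)) = Nat.card (G e) := by
    refine Nat.card_congr (Equiv.subtypeEquiv (Units.opEquiv.toEquiv.trans MulOpposite.opEquiv.symm) fun u => ?_)
    show MulOpposite.op e * ((u : Rᵐᵒᵖ) - 1) = (u : Rᵐᵒᵖ) - 1 ∧ ((u : Rᵐᵒᵖ) - 1) * MulOpposite.op e = (u : Rᵐᵒᵖ) - 1 ↔
      e * (unop (u : Rᵐᵒᵖ) - 1) = unop (u : Rᵐᵒᵖ) - 1 ∧ (unop (u : Rᵐᵒᵖ) - 1) * e = unop (u : Rᵐᵒᵖ) - 1
    constructor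
    · rintro ⟨h2, h3⟩
      have h2' := congrArg unop h2
      have h3' := congrArg unop h3
      exact ⟨by simpa using h3', by simpa using h2'⟩
    · rintro ⟨h2, h3⟩
      exact ⟨unop_injective (by simpa using h3), unop_injective (by simpa using h2)⟩
  rw [odd, odd, h1]

theorem card_split {M : Type*} [AddCommGroup M] [Module R M] {f g : R} (hf : f * f = f) (hg : g * g = g)
    (hfg : f * g = 0) (hgf : g * f = 0) : Nat.card (ran M (f + g)) = Nat.card (ran M f) * Nat.card (ran M g) := by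
  rw [← Nat.card_prod]
  refine Nat.card_congr ⟨fun m => (⟨f • (m : M), ?_⟩, ⟨g • (m : M), ?_⟩), fun x => ⟨x.1 + x.2, ?_⟩, ?_, ?_⟩
  · show f • f • (m : M) = f • (m : M)
    rw [smul_smul, hf]
  · show g • g • (m : M) = g • (m : M)
    rw [smul_smul, hg]
  · show (f + g) • ((x.1 : M) + x.2) = x.1 + x.2
    have h1 : f • (x.1 : M) = x.1 := x.1.2
    have h2 : g • (x.2 : M) = x.2 := x.2.2
    have h3 : g • (x.1 : M) = 0 := by rw [← h1, smul_smul, hgf, zero_smul]
    have h4 : f • (x.2 : M) = 0 := by rw [← h2, smul_smul, hfg, zero_smul]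
    rw [add_smul, smul_add, smul_add, h1, h2, h3, h4, zero_add, add_zero]
  · intro m
    apply Subtype.ext
    have h1 : (f + g) • (m : M) = m := m.2
    show f • (m : M) + g • (m : M) = m
    rw [← add_smul, h1]
  · intro x
    have h1 : f • (x.1 : M) = x.1 := x.1.2
    have h2 : g • (x.2 : M) = x.2 := x.2.2
    have h3 : g • (x.1 : M) = 0 := by rw [← h1, smul_smul, hgf, zero_smul]
    have h4 : f • (x.2 : M) = 0 := by rw [← h2, smul_smul, hfg, zero_smul]
    apply Prod.ext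
    · apply Subtype.ext
      show f • ((x.1 : M) + x.2) = x.1
      rw [smul_add, h1, h4, add_zero]
    · apply Subtype.ext
      show g • ((x.1 : M) + x.2) = x.2
      rw [smul_add, h2, h3, zero_add]

theorem arith {a b l n : ℕ} (hl : Nat.Coprime l 2) (hab : 2 ^ b < 2 ^ a) (ha : l ∣ 2 ^ a - 1) (hb : l ∣ 2 ^ b - 1)
    (hn : n ≤ l + 1) : 2 ^ b * n ≤ 2 ^ a := by
  have h1 := (Nat.pow_lt_pow_iff_right (by norm_num : 1 < 2)).1 hab
  obtain ⟨c, rfl⟩ := Nat.exists_eq_add_of_lt h1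
  have h2 : l ∣ (2 ^ (b + c + 1) - 1) - (2 ^ b - 1) := Nat.dvd_sub ha hb
  have p1 : 0 < 2 ^ b := by positivity
  have h3 : (2 ^ (b + c + 1) - 1) - (2 ^ b - 1) = 2 ^ b * (2 ^ (c + 1) - 1) := by
    have e1 : 2 ^ (b + c + 1) = 2 ^ b * 2 ^ (c + 1) := by rw [← pow_add]; ring_nf
    rw [e1, Nat.mul_sub, mul_one]
    omega
  rw [h3] at h2
  have h4 : l ∣ 2 ^ (c + 1) - 1 := Nat.Coprime.dvd_of_dvd_mul_left (hl.pow_right _) h2
  have h5 : 2 ≤ 2 ^ (c + 1) := by
    calc 2 = 2 ^ 1 := rfl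
      _ ≤ 2 ^ (c + 1) := Nat.pow_le_pow_right (by norm_num) (by omega)
  have h6 := Nat.le_of_dvd (by omega) h4
  have e1 : 2 ^ (b + c + 1) = 2 ^ b * 2 ^ (c + 1) := by rw [← pow_add]; ring_nf
  rw [e1]
  exact Nat.mul_le_mul_left _ (by omega)

theorem card_two_pow {M : Type*} [AddCommGroup M] [Finite M] (h2 : ∀ m : M, m + m = 0) : ∃ k, Nat.card M = 2 ^ k := by
  have h6 : IsPGroup 2 (Multiplicative M) := by
    intro x
    refine ⟨1, ?_⟩
    apply Multiplicative.toAdd.injective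
    rw [pow_one, toAdd_pow, two_nsmul]
    exact h2 _
  have hf : Fact (Nat.Prime 2) := ⟨Nat.prime_two⟩
  obtain ⟨k, hk⟩ := IsPGroup.iff_card.1 h6
  exact ⟨k, hk⟩

/-- the inequality for an idempotent -/
theorem main [Finite R] (h : ∀ x : R, x + x = 0) (W Θ N : Type*) [AddCommGroup W] [Module R W] [Finite W]
    [AddCommGroup Θ] [Module Rᵐᵒᵖ Θ] [Finite Θ] [AddCommGroup N] [Module R N] [Finite N] [IsSimpleModule R N]
    (hW : ∀ w : W, w + w = 0) (hΘ : ∀ w : Θ, w + w = 0) (hN : ∀ w : N, w + w = 0)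
    (h1 : ∀ e : R, e * e = e → ran Θ (op e) ≠ ⊥ → Nat.card (ran Θ (op e)) < Nat.card (ran W e))
    (h2 : ∀ e : R, e * e = e → ran Θ (op e) = ⊥ → ran N e = ⊥) :
    ∀ n : ℕ, ∀ e : R, e * e = e → Nat.card {x : R // e * x = x ∧ x * e = x} ≤ n →
      Nat.card (ran Θ (op e)) * Nat.card (ran N e) ≤ Nat.card (ran W e) := by
  intro n
  have hfin : Finite Rᵐᵒᵖ := Finite.of_equiv R MulOpposite.opEquiv
  induction n with
  | zero =>
    intro e he hn
    exfalso
    have : Nonempty {x : R // e * x = x ∧ x * e = x} := ⟨⟨0, by simp, by simp⟩⟩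
    have : 0 < Nat.card {x : R // e * x = x ∧ x * e = x} := Nat.card_pos
    omega
  | succ n ih =>
    intro e he hn
    by_cases hp : Pr e
    · by_cases h3 : ran Θ (op e) = ⊥
      · rw [h2 e he h3, h3, AddSubgroup.card_bot, AddSubgroup.card_bot]
        exact Nat.card_pos
      · have h4 := h1 e he h3
        obtain ⟨a, ha⟩ := card_two_pow (M := ran W e) fun m => Subtype.ext (hW _)
        obtain ⟨b, hb⟩ := card_two_pow (M := ran Θ (op e)) fun m => Subtype.ext (hΘ _)
        have h5 := odd_dvd h hp W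
        have h6 := odd_dvd (R := Rᵐᵒᵖ) (fun x => unop_injective (h _)) hp.op Θ
        rw [odd_op] at h6
        have h7 := card_simple hp he N hN
        rw [ha] at h4 h5 ⊢
        rw [hb] at h4 h6 ⊢
        exact arith (Nat.coprime_ordCompl Nat.prime_two Nat.card_pos.ne').symm h4 h5 h6 h7
    · rw [Pr] at hp
      push Not at hp
      obtain ⟨f, hf, hef, hfe, hf0, hfne⟩ := hp
      set g := e - f with hg
      have hgg : g * g = g := by
        have : g * g = e * e - e * f - f * e + f * f := by rw [hg]; noncomm_ring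
        rw [this, he, hef, hfe, hf, hg]; abel
      have hfg : f * g = 0 := by rw [hg, mul_sub, hfe, hf, sub_self]
      have hgf : g * f = 0 := by rw [hg, sub_mul, hef, hf, sub_self]
      have heg : e * g = g := by rw [hg, mul_sub, he, hef]
      have hge : g * e = g := by rw [hg, sub_mul, he, hfe]
      have hadd : e = f + g := by rw [hg]; abel
      have key : ∀ k : R, e * k = k → k * e = k → k ≠ e →
          Nat.card {x : R // k * x = x ∧ x * k = x} ≤ n := by
        intro k hek hke hne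
        have h3 : Nat.card {x : R // k * x = x ∧ x * k = x} < Nat.card {x : R // e * x = x ∧ x * e = x} := by
          have h4 : {x : R | k * x = x ∧ x * k = x} ⊂ {x : R | e * x = x ∧ x * e = x} := by
            refine ⟨fun x hx => ⟨?_, ?_⟩, fun h5 => hne ?_⟩
            · rw [← hx.1, ← mul_assoc, hek]
            · rw [← hx.2, mul_assoc, hke]
            · have h6 := (h5 (show e ∈ {x : R | e * x = x ∧ x * e = x} from ⟨he, he⟩)).1
              rw [hke] at h6
              exact h6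
          exact Set.ncard_lt_ncard h4 (Set.toFinite _)
        omega
      have h3 := ih f hf (key f hef hfe hfne)
      have h4 := ih g hgg (key g heg hge (fun h5 => hf0 (by
        have : f = e - g := by rw [hg]; abel
        rw [this, h5, sub_self])))
      rw [hadd, card_split hf hgg hfg hgf, card_split hf hgg hfg hgf, op_add,
        card_split (R := Rᵐᵒᵖ) (f := op f) (g := op g) (unop_injective hf) (unop_injective hgg) (unop_injective hgf)
          (unop_injective hfg)]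
      calc _ = (Nat.card (ran Θ (op f)) * Nat.card (ran N f)) * (Nat.card (ran Θ (op g)) * Nat.card (ran N g)) := by
            ring
        _ ≤ _ := Nat.mul_le_mul h3 h4

end ring

section pairing

variable {W Θ Z : Type*} [AddCommGroup W] [AddCommGroup Θ] [AddCommGroup Z]

/-- annihilator -/
def ann (b : W →+ Θ →+ Z) (E : AddSubgroup Θ) : AddSubgroup W where
  carrier := {w | ∀ θ ∈ E, b w θ = 0}
  zero_mem' := fun θ _ => by rw [map_zero, AddMonoidHom.zero_apply]
  add_mem' := fun {x y} hx hy θ hθ => by rw [map_add, AddMonoidHom.add_apply, hx θ hθ, hy θ hθ, add_zero]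
  neg_mem' := fun {x} hx θ hθ => by rw [map_neg, AddMonoidHom.neg_apply, hx θ hθ, neg_zero]

theorem mem_ann {b : W →+ Θ →+ Z} {E : AddSubgroup Θ} {w : W} : w ∈ ann b E ↔ ∀ θ ∈ E, b w θ = 0 := Iff.rfl

/-- invariant under all adjoint pairs -/
def Inv (b : W →+ Θ →+ Z) (P : AddSubgroup W) : Prop :=
  ∀ (f : W →+ W) (g : Θ →+ Θ), (∀ w θ, b (f w) θ = b w (g θ)) → ∀ w ∈ P, f w ∈ P

/-- the ring of adjoint pairs -/
def Adj (b : W →+ Θ →+ Z) : Subring (AddMonoid.End W × (AddMonoid.End Θ)ᵐᵒᵖ) where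
  carrier := {x | ∀ w θ, b (x.1 w) θ = b w ((unop x.2) θ)}
  one_mem' := fun w θ => rfl
  zero_mem' := fun w θ => by
    show b (0 : W) θ = b w (0 : Θ)
    rw [map_zero, map_zero, AddMonoidHom.zero_apply]
  mul_mem' := fun {x y} hx hy w θ => by
    show b (x.1 (y.1 w)) θ = b w ((unop y.2) ((unop x.2) θ))
    rw [hx, hy]
  add_mem' := fun {x y} hx hy w θ => by
    show b (x.1 w + y.1 w) θ = b w ((unop x.2) θ + (unop y.2) θ)
    rw [map_add, AddMonoidHom.add_apply, map_add, hx, hy]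
  neg_mem' := fun {x} hx w θ => by
    show b (-(x.1 w)) θ = b w (-((unop x.2) θ))
    rw [map_neg, AddMonoidHom.neg_apply, map_neg, hx]

/-- `W` as a module -/
@[reducible] def modW (b : W →+ Θ →+ Z) : Module (Adj b) W :=
  Module.compHom W ((RingHom.fst (AddMonoid.End W) (AddMonoid.End Θ)ᵐᵒᵖ).comp (Adj b).subtype)

/-- the ring hom for `Θ` -/
def homT (b : W →+ Θ →+ Z) : (Adj b)ᵐᵒᵖ →+* AddMonoid.End Θ where
  toFun x := unop ((unop x : Adj b) : AddMonoid.End W × (AddMonoid.End Θ)ᵐᵒᵖ).2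
  map_one' := rfl
  map_mul' := fun _ _ => rfl
  map_zero' := rfl
  map_add' := fun _ _ => rfl

/-- `Θ` as a module -/
@[reducible] def modT (b : W →+ Θ →+ Z) : Module (Adj b)ᵐᵒᵖ Θ := Module.compHom Θ (homT b)

theorem ring_trick [Finite W] [Finite Θ] (b : W →+ Θ →+ Z) (hW : ∀ w : W, w + w = 0) (hΘ : ∀ θ : Θ, θ + θ = 0)
    (hL : ∀ w, (∀ θ, b w θ = 0) → w = 0) (_hR : ∀ θ, (∀ w, b w θ = 0) → θ = 0)
    (nf : ∀ E : AddSubgroup Θ, E ≠ ⊥ → 2 * (Nat.card E * Nat.card (ann b E)) ≤ Nat.card W)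
    {P P' : AddSubgroup W} (hP : Inv b P) (hP' : Inv b P') (hlt : P' < P)
    (hmax : ∀ Q : AddSubgroup W, Inv b Q → P' ≤ Q → Q ≤ P → Q = P' ∨ Q = P) :
    Nat.card P * Nat.card Θ ≤ Nat.card P' * Nat.card W := by
  let _ := modW b
  let _ := modT b
  have hfin : Finite (Adj b) := by
    have h1 : Finite (AddMonoid.End W) := Finite.of_injective (fun f : AddMonoid.End W => (f : W → W)) DFunLike.coe_injective
    have h2 : Finite (AddMonoid.End Θ) := Finite.of_injective (fun f : AddMonoid.End Θ => (f : Θ → Θ)) DFunLike.coe_injective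
    have h3 : Finite (AddMonoid.End Θ)ᵐᵒᵖ := Finite.of_equiv _ MulOpposite.opEquiv
    infer_instance
  have hsW : ∀ (r : Adj b) (w : W), r • w = (r : AddMonoid.End W × (AddMonoid.End Θ)ᵐᵒᵖ).1 w := fun _ _ => rfl
  have hsT : ∀ (r : Adj b) (θ : Θ), (op r) • θ = (unop (r : AddMonoid.End W × (AddMonoid.End Θ)ᵐᵒᵖ).2) θ := fun _ _ => rfl
  have hadj : ∀ (r : Adj b) (w : W) (θ : Θ), b (r • w) θ = b w ((op r) • θ) := fun r w θ => r.2 w θ
  have h2R : ∀ x : Adj b, x + x = 0 := by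
    intro x
    apply Subtype.ext
    apply Prod.ext
    · apply AddMonoidHom.ext
      intro w
      exact hW _
    · apply unop_injective
      apply AddMonoidHom.ext
      intro w
      exact hΘ _
  let PS : Submodule (Adj b) W := { P with
    smul_mem' := fun r w hw => hP r.1.1 (unop r.1.2) r.2 w hw }
  let PS' : Submodule (Adj b) W := { P' with
    smul_mem' := fun r w hw => hP' r.1.1 (unop r.1.2) r.2 w hw }
  have hcov : PS' ⋖ PS := by
    refine ⟨hlt, fun Q h1 h2 => ?_⟩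
    have h3 : Inv b Q.toAddSubgroup := fun f g hfg w hw =>
      Q.smul_mem (⟨(f, op g), hfg⟩ : Adj b) hw
    rcases hmax Q.toAddSubgroup h3 h1.le h2.le with h4 | h4
    · exact h1.ne (SetLike.ext fun w => (SetLike.ext_iff.1 h4 w).symm)
    · exact h2.ne (SetLike.ext fun w => (SetLike.ext_iff.1 h4 w))
  have hsimple := (covBy_iff_quot_is_simple hcov.le).1 hcov
  set N := PS ⧸ Submodule.comap PS.subtype PS' with hN
  have hfinN : Finite N := Finite.of_surjective _ (Submodule.mkQ_surjective _)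
  have key := main h2R W Θ N hW hΘ (by
      intro n
      obtain ⟨x, rfl⟩ := Submodule.mkQ_surjective _ n
      rw [← map_add]
      have : x + x = 0 := Subtype.ext (hW _)
      rw [this, map_zero]) ?_ ?_ _ 1 (mul_one 1) le_rfl
  · -- conclusion
    have e1 : ∀ (M : Type _) [AddCommGroup M] [Module (Adj b) M], Nat.card (ran M (1 : Adj b)) = Nat.card M := by
      intro M _ _
      refine Nat.card_congr ⟨fun m => m, fun m => ⟨m, one_smul _ _⟩, fun _ => rfl, fun _ => rfl⟩
    have e2 : Nat.card (ran Θ (op (1 : Adj b))) = Nat.card Θ := by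
      refine Nat.card_congr ⟨fun m => m, fun m => ⟨m, one_smul _ _⟩, fun _ => rfl, fun _ => rfl⟩
    rw [e1 W, e1 N, e2] at key
    have e3 : Nat.card P = Nat.card P' * Nat.card N := by
      have h1 := Submodule.card_eq_card_quotient_mul_card (Submodule.comap PS.subtype PS')
      have h2 : Nat.card (Submodule.comap PS.subtype PS') = Nat.card P' := by
        refine Nat.card_congr ⟨fun m => ⟨m, m.2⟩, fun m => ⟨⟨m, hlt.le m.2⟩, m.2⟩, fun _ => rfl, fun _ => rfl⟩
      rw [h2] at h1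
      exact h1
    calc Nat.card P * Nat.card Θ = Nat.card P' * (Nat.card Θ * Nat.card N) := by rw [e3]; ring
      _ ≤ _ := Nat.mul_le_mul_left _ key
  · intro e he hne
    have h1 := nf (ran Θ (op e)) hne
    have hann : ∀ w : W, w ∈ ann b (ran Θ (op e)) ↔ e • w = 0 := by
      intro w
      constructor
      · intro hw
        apply hL
        intro θ
        rw [hadj]
        apply hw
        show op e • op e • θ = op e • θ
        rw [smul_smul, ← op_mul, he]
      · intro hw θ hθ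
        have h4 : op e • θ = θ := hθ
        rw [← h4, ← hadj, hw, map_zero, AddMonoidHom.zero_apply]
    have h3 : Nat.card W = Nat.card (ran W e) * Nat.card (ann b (ran Θ (op e))) := by
      rw [← Nat.card_prod]
      refine Nat.card_congr ⟨fun w => (⟨e • w, ?_⟩, ⟨w - e • w, ?_⟩), fun x => x.1 + x.2, ?_, ?_⟩
      · show e • e • w = e • w
        rw [smul_smul, he]
      · rw [hann, smul_sub, smul_smul, he, sub_self]
      · intro w
        show e • w + (w - e • w) = w
        abel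
      · intro x
        have h4 : e • (x.1 : W) = x.1 := x.1.2
        have h5 : e • (x.2 : W) = 0 := (hann _).1 x.2.2
        have h6 : e • ((x.1 : W) + x.2) = x.1 := by rw [smul_add, h4, h5, add_zero]
        apply Prod.ext
        · exact Subtype.ext h6
        · apply Subtype.ext
          show (x.1 : W) + x.2 - e • ((x.1 : W) + x.2) = x.2
          rw [h6]; abel
    have p1 : 0 < Nat.card (ann b (ran Θ (op e))) := Nat.card_pos
    have p2 : 0 < Nat.card (ran Θ (op e)) := Nat.card_pos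
    rw [h3, ← mul_assoc] at h1
    have := Nat.le_of_mul_le_mul_right h1 p1
    omega
  · intro e he h0
    have h1 : ∀ θ : Θ, op e • θ = 0 := by
      intro θ
      have h2 : op e • θ ∈ ran Θ (op e) := by
        show op e • op e • θ = op e • θ
        rw [smul_smul, ← op_mul, he]
      rwa [h0] at h2
    have h3 : ∀ w : W, e • w = 0 := fun w => hL _ fun θ => by rw [hadj, h1, map_zero]
    rw [eq_bot_iff]
    intro n hn
    obtain ⟨x, rfl⟩ := Submodule.mkQ_surjective _ n
    have h4 : e • x = 0 := Subtype.ext (h3 x)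
    have h5 : e • Submodule.mkQ (Submodule.comap PS.subtype PS') x = Submodule.mkQ (Submodule.comap PS.subtype PS') x := hn
    rw [← map_smul, h4, map_zero] at h5
    rw [← h5]
    exact AddSubgroup.zero_mem _

end pairing

end Cfsg.Agent.Omega.NO3b.TheoremL.Ring

end

section


/-!
# THEOREM L (#18749, helper344), part 1: the ring trick for a group action

`Z ≤ W ≤ U`, `Q` acts on `U`, `[W, Q] ≤ Z`, `[Z, Q] = 0`, `C_W(Q) ≤ Z`, no subgroup of `Q` offends on `W`.  `I P`: `P / Z`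
is invariant under the ring of all adjoint pairs of the pairing `W / Z × Q / C_Q(W) → Z`.  `ring_rel`: for every
`I`-simple section `P / P'` of `W / Z` : `|P / P'| |Q / C_Q(W)| ≤ |W / Z|`.
-/

set_option autoImplicit false
set_option linter.unusedSectionVars false

namespace Cfsg.Agent.Omega.NO3b.TheoremL.RingRel

open Cfsg.Agent.Omega.FF.Basic
open Cfsg.Agent.Omega.NO3b.Exit.TT (cf mem_cf nf mem_nf)
open Cfsg.Agent.Omega.NO3b.TheoremL.Ring

section gen

variable {A B : Type*}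

theorem card_comap_add [AddCommGroup A] [AddCommGroup B] [Finite A] [Finite B] (f : A →+ B)
    (hf : Function.Surjective f) (P : AddSubgroup B) :
    Nat.card (P.comap f) = Nat.card P * Nat.card f.ker := by
  have h1 := AddSubgroup.index_comap_of_surjective P hf
  have h2 := (P.comap f).card_mul_index
  have h3 := f.ker.card_mul_index
  have h4 : f.ker.index = Nat.card B := by
    rw [AddSubgroup.index_ker, AddMonoidHom.range_eq_top.2 hf]
    exact Nat.card_congr (Equiv.Set.univ B)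
  have h5 := P.card_mul_index
  rw [h1] at h2
  rw [h4] at h3
  have p : 0 < P.index := Nat.pos_of_ne_zero AddSubgroup.index_ne_zero_of_finite
  refine Nat.eq_of_mul_eq_mul_right p ?_
  rw [h2, ← h3, ← h5]; ring

theorem card_comap_mul [Group A] [Group B] [Finite A] [Finite B] (f : A →* B) (hf : Function.Surjective f)
    (P : Subgroup B) : Nat.card (P.comap f) = Nat.card P * Nat.card f.ker := by
  have h1 := Subgroup.index_comap_of_surjective P hf
  have h2 := (P.comap f).card_mul_index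
  have h3 := f.ker.card_mul_index
  have h4 : f.ker.index = Nat.card B := by
    rw [Subgroup.index_ker, MonoidHom.range_eq_top.2 hf]
    exact Nat.card_congr (Equiv.Set.univ B)
  have h5 := P.card_mul_index
  rw [h1] at h2
  rw [h4] at h3
  have p : 0 < P.index := Nat.pos_of_ne_zero Subgroup.index_ne_zero_of_finite
  refine Nat.eq_of_mul_eq_mul_right p ?_
  rw [h2, ← h3, ← h5]; ring

end gen

variable {Y : Type*} [Group Y] [Finite Y] {U : Type*} [AddCommGroup U] [Finite U] [DistribMulAction Y U]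

section

variable {W Z : AddSubgroup U} {Q : Subgroup Y}

/-- `t ↦ (w ↦ t w - w)` -/
def tau (hQW : ∀ t ∈ Q, ∀ w ∈ W, t • w - w ∈ Z) (t : Q) : W →+ Z where
  toFun w := ⟨(t : Y) • (w : U) - w, hQW t t.2 w w.2⟩
  map_zero' := by
    apply Subtype.ext
    simp
  map_add' v w := by
    apply Subtype.ext
    show (t : Y) • ((v : U) + w) - (v + w) = ((t : Y) • (v : U) - v) + ((t : Y) • (w : U) - w)
    rw [smul_add]; abel

theorem tau_apply (hQW : ∀ t ∈ Q, ∀ w ∈ W, t • w - w ∈ Z) (t : Q) (w : W) :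
    ((tau hQW t w : Z) : U) = (t : Y) • (w : U) - w := rfl

theorem tau_mul (hQW : ∀ t ∈ Q, ∀ w ∈ W, t • w - w ∈ Z) (hQZ : ∀ t ∈ Q, ∀ z ∈ Z, t • z = z) (s t : Q) :
    tau hQW (s * t) = tau hQW s + tau hQW t := by
  ext w
  show ((s : Y) * t) • (w : U) - w = ((s : Y) • (w : U) - w) + ((t : Y) • (w : U) - w)
  have h1 := hQZ s s.2 _ (hQW t t.2 w w.2)
  rw [smul_sub] at h1
  rw [mul_smul]
  have e : (s : Y) • (t : Y) • (w : U) = (t : Y) • (w : U) - w + (s : Y) • (w : U) := by rw [← h1]; abel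
  rw [e]; abel

theorem tau_one (hQW : ∀ t ∈ Q, ∀ w ∈ W, t • w - w ∈ Z) : tau hQW 1 = 0 := by
  ext w
  show (1 : Y) • (w : U) - w = 0
  rw [one_smul, sub_self]

/-- the image of `Q` -/
def TH (hQW : ∀ t ∈ Q, ∀ w ∈ W, t • w - w ∈ Z) (hQZ : ∀ t ∈ Q, ∀ z ∈ Z, t • z = z) : AddSubgroup (W →+ Z) where
  carrier := Set.range (tau hQW)
  zero_mem' := ⟨1, tau_one hQW⟩
  add_mem' := by
    rintro _ _ ⟨s, rfl⟩ ⟨t, rfl⟩
    exact ⟨s * t, tau_mul hQW hQZ s t⟩
  neg_mem' := by
    rintro _ ⟨s, rfl⟩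
    refine ⟨s⁻¹, ?_⟩
    have h1 := tau_mul hQW hQZ s⁻¹ s
    rw [inv_mul_cancel, tau_one] at h1
    exact (neg_eq_of_add_eq_zero_left h1.symm).symm

variable (hQW : ∀ t ∈ Q, ∀ w ∈ W, t • w - w ∈ Z) (hQZ : ∀ t ∈ Q, ∀ z ∈ Z, t • z = z)

/-- `tau` as a homomorphism -/
def tauH : Q →* Multiplicative (TH hQW hQZ) where
  toFun t := Multiplicative.ofAdd ⟨tau hQW t, ⟨t, rfl⟩⟩
  map_one' := by
    apply Multiplicative.toAdd.injective
    exact Subtype.ext (tau_one hQW)
  map_mul' s t := by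
    apply Multiplicative.toAdd.injective
    exact Subtype.ext (tau_mul hQW hQZ s t)

theorem tauH_surj : Function.Surjective (tauH hQW hQZ) := by
  rintro ⟨θ, t, ht⟩
  exact ⟨t, congrArg Multiplicative.ofAdd (Subtype.ext ht)⟩

theorem mem_ker_tauH {t : Q} : t ∈ (tauH hQW hQZ).ker ↔ (t : Y) ∈ cf Y W := by
  rw [MonoidHom.mem_ker]
  constructor
  · intro h w hw
    have h1 : tau hQW t = 0 := congrArg Subtype.val (congrArg Multiplicative.toAdd h)
    have h2 := DFunLike.congr_fun h1 ⟨w, hw⟩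
    have h3 : (t : Y) • w - w = 0 := congrArg Subtype.val h2
    exact sub_eq_zero.1 h3
  · intro h
    apply Multiplicative.toAdd.injective
    apply Subtype.ext
    show tau hQW t = 0
    ext w
    show (t : Y) • (w : U) - w = 0
    rw [h w w.2, sub_self]

theorem card_ker_tauH : Nat.card (tauH hQW hQZ).ker = Nat.card ↥(Q ⊓ cf Y W) := by
  refine Nat.card_congr ⟨fun t => ⟨t.1.1, t.1.2, (mem_ker_tauH hQW hQZ).1 t.2⟩,
    fun t => ⟨⟨t.1, t.2.1⟩, (mem_ker_tauH hQW hQZ).2 t.2.2⟩, fun t => rfl, fun t => rfl⟩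

/-- the preimage in `Q` of a subgroup of `TH` -/
def pre (E : AddSubgroup (TH hQW hQZ)) : Subgroup Y := (E.toSubgroup.comap (tauH hQW hQZ)).map Q.subtype

theorem mem_pre {E : AddSubgroup (TH hQW hQZ)} {t : Y} :
    t ∈ pre hQW hQZ E ↔ ∃ h : t ∈ Q, (⟨tau hQW ⟨t, h⟩, ⟨⟨t, h⟩, rfl⟩⟩ : TH hQW hQZ) ∈ E := by
  constructor
  · rintro ⟨t, ht, rfl⟩
    exact ⟨t.2, ht⟩
  · rintro ⟨h, h1⟩
    exact ⟨⟨t, h⟩, h1, rfl⟩

theorem pre_le (E : AddSubgroup (TH hQW hQZ)) : pre hQW hQZ E ≤ Q := fun _ h => ((mem_pre hQW hQZ).1 h).1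

theorem card_TH [Finite (TH hQW hQZ)] : Nat.card Q = Nat.card (TH hQW hQZ) * Nat.card ↥(Q ⊓ cf Y W) := by
  have h1 := card_comap_mul (tauH hQW hQZ) (tauH_surj hQW hQZ) ⊤
  rw [card_ker_tauH, Subgroup.comap_top] at h1
  have h2 : Nat.card (⊤ : Subgroup Q) = Nat.card Q := Subgroup.card_top
  have h3 : Nat.card (⊤ : Subgroup (Multiplicative (TH hQW hQZ))) = Nat.card (TH hQW hQZ) := Subgroup.card_top
  rw [← h2, h1, h3]

theorem card_pre [Finite (TH hQW hQZ)] (E : AddSubgroup (TH hQW hQZ)) :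
    Nat.card (pre hQW hQZ E) = Nat.card E * Nat.card ↥(Q ⊓ cf Y W) := by
  have h1 := card_comap_mul (tauH hQW hQZ) (tauH_surj hQW hQZ) E.toSubgroup
  rw [card_ker_tauH] at h1
  have h2 : Nat.card (pre hQW hQZ E) = Nat.card (E.toSubgroup.comap (tauH hQW hQZ)) :=
    (Nat.card_congr (Subgroup.equivMapOfInjective _ _ Q.subtype_injective).toEquiv).symm
  have h3 : Nat.card E.toSubgroup = Nat.card E := rfl
  rw [h2, h1, h3]

/-- the pairing, second variable first -/
def bb' : TH hQW hQZ →+ (W ⧸ Z.addSubgroupOf W) →+ Z where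
  toFun θ := QuotientAddGroup.lift (Z.addSubgroupOf W) θ.1 (by
    obtain ⟨_, t, rfl⟩ := θ
    intro w hw
    apply Subtype.ext
    show (t : Y) • (w : U) - w = 0
    rw [hQZ t t.2 _ (AddSubgroup.mem_addSubgroupOf.1 hw), sub_self])
  map_zero' := by
    ext w
    rfl
  map_add' θ θ' := by
    ext w
    rfl

/-- the pairing -/
def bb : (W ⧸ Z.addSubgroupOf W) →+ TH hQW hQZ →+ Z := (bb' hQW hQZ).flip

theorem bb_mk (w : W) (θ : TH hQW hQZ) :
    bb hQW hQZ (QuotientAddGroup.mk w) θ = θ.1 w := rfl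

/-- the subgroup of `U` belonging to a subgroup of `W / Z` -/
def up (P : AddSubgroup (W ⧸ Z.addSubgroupOf W)) : AddSubgroup U :=
  (P.comap (QuotientAddGroup.mk' (Z.addSubgroupOf W))).map W.subtype

theorem mem_up {P : AddSubgroup (W ⧸ Z.addSubgroupOf W)} {u : U} :
    u ∈ up P ↔ ∃ h : u ∈ W, (QuotientAddGroup.mk ⟨u, h⟩ : W ⧸ Z.addSubgroupOf W) ∈ P := by
  constructor
  · rintro ⟨w, hw, rfl⟩
    exact ⟨w.2, hw⟩
  · rintro ⟨h, h1⟩
    exact ⟨⟨u, h⟩, h1, rfl⟩

theorem up_le (P : AddSubgroup (W ⧸ Z.addSubgroupOf W)) : up P ≤ W := fun _ h => (mem_up.1 h).1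

theorem le_up (hZW : Z ≤ W) (P : AddSubgroup (W ⧸ Z.addSubgroupOf W)) : Z ≤ up P := by
  intro z hz
  refine mem_up.2 ⟨hZW hz, ?_⟩
  have : (QuotientAddGroup.mk ⟨z, hZW hz⟩ : W ⧸ Z.addSubgroupOf W) = 0 :=
    (QuotientAddGroup.eq_zero_iff _).2 (AddSubgroup.mem_addSubgroupOf.2 hz)
  rw [this]; exact P.zero_mem

theorem up_le_up {P P' : AddSubgroup (W ⧸ Z.addSubgroupOf W)} : up P ≤ up P' ↔ P ≤ P' := by
  constructor
  · intro h x hx
    induction x using QuotientAddGroup.induction_on with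
    | H w =>
      obtain ⟨h1, h2⟩ := mem_up.1 (h (mem_up.2 ⟨w.2, hx⟩ : (w : U) ∈ up P))
      exact h2
  · intro h u hu
    obtain ⟨h1, h2⟩ := mem_up.1 hu
    exact mem_up.2 ⟨h1, h h2⟩

theorem up_inj {P P' : AddSubgroup (W ⧸ Z.addSubgroupOf W)} (h : up P = up P') : P = P' :=
  le_antisymm (up_le_up.1 h.le) (up_le_up.1 h.ge)

theorem up_top : up (⊤ : AddSubgroup (W ⧸ Z.addSubgroupOf W)) = W := by
  apply le_antisymm (up_le _)
  intro w hw
  exact mem_up.2 ⟨hw, trivial⟩

theorem up_bot (hZW : Z ≤ W) : up (⊥ : AddSubgroup (W ⧸ Z.addSubgroupOf W)) = Z := by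
  apply le_antisymm _ (le_up hZW _)
  intro w hw
  obtain ⟨h1, h2⟩ := mem_up.1 hw
  have := (QuotientAddGroup.eq_zero_iff _).1 (AddSubgroup.mem_bot.1 h2)
  exact AddSubgroup.mem_addSubgroupOf.1 this

theorem card_up (hZW : Z ≤ W) (P : AddSubgroup (W ⧸ Z.addSubgroupOf W)) :
    Nat.card (up P) = Nat.card P * Nat.card Z := by
  have h1 := card_comap_add (QuotientAddGroup.mk' (Z.addSubgroupOf W)) (QuotientAddGroup.mk'_surjective _) P
  rw [QuotientAddGroup.ker_mk'] at h1
  have h2 : Nat.card (up P) = Nat.card (P.comap (QuotientAddGroup.mk' (Z.addSubgroupOf W))) :=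
    (Nat.card_congr (AddSubgroup.equivMapOfInjective _ _ W.subtype_injective).toEquiv).symm
  have h3 : Nat.card (Z.addSubgroupOf W) = Nat.card Z :=
    Nat.card_congr (AddSubgroup.addSubgroupOfEquivOfLe hZW).toEquiv
  rw [h2, h1, h3]

end

/-- **the ring trick**, relative form -/
theorem ring_rel {W Z : AddSubgroup U} {Q : Subgroup Y} (two : ∀ u : U, u + u = 0) (hZW : Z ≤ W)
    (hQW : ∀ t ∈ Q, ∀ w ∈ W, t • w - w ∈ Z) (hQZ : ∀ t ∈ Q, ∀ z ∈ Z, t • z = z)
    (hL : ∀ w ∈ W, (∀ t ∈ Q, t • w = w) → w ∈ Z)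
    (nf : ∀ B ≤ Q, ¬ B ≤ cf Y W →
      2 * (Nat.card B * Nat.card ↥(W ⊓ fx U B)) ≤ Nat.card W * Nat.card ↥(B ⊓ cf Y W)) :
    ∃ I : AddSubgroup U → Prop, I W ∧ I Z ∧ (∀ P, I P → Z ≤ P ∧ P ≤ W) ∧
      (∀ P, I P → ∀ y : Y, (∀ w ∈ W, y • w ∈ W) → (∀ z ∈ Z, y • z = z) → (∀ t ∈ Q, y⁻¹ * t * y ∈ Q) →
        ∀ v ∈ P, y • v ∈ P) ∧
      (∀ P' P, I P' → I P → P' < P → (∀ R, I R → P' ≤ R → R ≤ P → R = P' ∨ R = P) →
        Nat.card P * (Nat.card Q * Nat.card Z) ≤ Nat.card P' * (Nat.card W * Nat.card ↥(Q ⊓ cf Y W))) := by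
  classical
  have hfin : Finite (W →+ Z) := Finite.of_injective (fun f : W →+ Z => (f : W → Z)) DFunLike.coe_injective
  have pZ : 0 < Nat.card Z := Nat.card_pos
  have pQ : 0 < Nat.card ↥(Q ⊓ cf Y W) := Nat.card_pos
  refine ⟨fun P => ∃ P' : AddSubgroup (W ⧸ Z.addSubgroupOf W), Inv (bb hQW hQZ) P' ∧ P = up P', ⟨⊤, ?_, up_top.symm⟩,
    ⟨⊥, ?_, (up_bot hZW).symm⟩, ?_, ?_, ?_⟩
  · intro f g _ w _; trivial
  · intro f g _ w hw
    rw [AddSubgroup.mem_bot] at hw ⊢
    rw [hw, map_zero]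
  · rintro _ ⟨P, -, rfl⟩
    exact ⟨le_up hZW P, up_le P⟩
  · rintro _ ⟨P, hP, rfl⟩ y hyW hyZ hyQ v hv
    obtain ⟨hvW, hvP⟩ := mem_up.1 hv
    let yW : W →+ W :=
      { toFun := fun w => ⟨y • (w : U), hyW w w.2⟩
        map_zero' := Subtype.ext (smul_zero y)
        map_add' := fun a b => Subtype.ext (smul_add y (a : U) b) }
    let f : (W ⧸ Z.addSubgroupOf W) →+ (W ⧸ Z.addSubgroupOf W) :=
      QuotientAddGroup.map _ _ yW (by
        intro w hw
        rw [AddSubgroup.mem_comap, AddSubgroup.mem_addSubgroupOf]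
        have h1 := AddSubgroup.mem_addSubgroupOf.1 hw
        show y • (w : U) ∈ Z
        rw [hyZ _ h1]; exact h1)
    have key : ∀ θ : TH hQW hQZ, θ.1.comp yW ∈ TH hQW hQZ := by
      rintro ⟨_, t, rfl⟩
      refine ⟨⟨y⁻¹ * t * y, hyQ t t.2⟩, ?_⟩
      ext w
      show (y⁻¹ * (t : Y) * y) • (w : U) - w = (t : Y) • (y • (w : U)) - y • (w : U)
      have h1 := hyZ _ (hQW t t.2 _ (hyW w w.2))
      have h2 : y⁻¹ • ((t : Y) • y • (w : U) - y • (w : U)) = (t : Y) • y • (w : U) - y • (w : U) := by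
        rw [inv_smul_eq_iff, h1]
      rw [← h2, smul_sub, inv_smul_smul, mul_smul, mul_smul]
    let g : TH hQW hQZ →+ TH hQW hQZ :=
      { toFun := fun θ => ⟨θ.1.comp yW, key θ⟩
        map_zero' := by
          apply Subtype.ext
          ext w
          rfl
        map_add' := fun θ θ' => by
          apply Subtype.ext
          ext w
          rfl }
    have hfg : ∀ w θ, bb hQW hQZ (f w) θ = bb hQW hQZ w (g θ) := by
      intro w θ
      induction w using QuotientAddGroup.induction_on with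
      | H w => rfl
    have h1 := hP f g hfg _ hvP
    exact mem_up.2 ⟨hyW v hvW, h1⟩
  · rintro _ _ ⟨P', hP', rfl⟩ ⟨P, hP, rfl⟩ hlt hmax
    have hlt' : P' < P := lt_of_le_of_ne (up_le_up.1 hlt.le) fun h => hlt.ne (congrArg up h)
    have hTH := card_TH hQW hQZ
    have hW : Nat.card W = Nat.card (W ⧸ Z.addSubgroupOf W) * Nat.card Z := by
      have h1 := card_up hZW (⊤ : AddSubgroup (W ⧸ Z.addSubgroupOf W))
      rw [up_top, card_top] at h1
      exact h1
    have h := ring_trick (bb hQW hQZ) (fun w => by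
        induction w using QuotientAddGroup.induction_on with
        | H w =>
          have : w + w = 0 := Subtype.ext (two w)
          rw [← QuotientAddGroup.mk_add, this]; rfl)
      (fun θ => by
        apply Subtype.ext
        ext w
        show ((θ.1 w : Z) : U) + θ.1 w = 0
        exact two _)
      (fun w hw => by
        induction w using QuotientAddGroup.induction_on with
        | H w =>
          refine (QuotientAddGroup.eq_zero_iff _).2 (AddSubgroup.mem_addSubgroupOf.2 (hL w w.2 fun t ht => ?_))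
          have h1 := hw ⟨tau hQW ⟨t, ht⟩, ⟨⟨t, ht⟩, rfl⟩⟩
          have h2 : t • (w : U) - w = 0 := congrArg Subtype.val h1
          exact sub_eq_zero.1 h2)
      (fun θ hθ => by
        apply Subtype.ext
        ext w
        exact congrArg Subtype.val (hθ (QuotientAddGroup.mk w)))
      (fun E hE => by
        set B := pre hQW hQZ E with hB
        have hBQ : B ≤ Q := pre_le hQW hQZ E
        have hBc : ¬ B ≤ cf Y W := by
          intro h1
          apply hE
          rw [AddSubgroup.eq_bot_iff_forall]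
          rintro ⟨_, t, rfl⟩ ht
          have h2 : (t : Y) ∈ B := (mem_pre hQW hQZ).2 ⟨t.2, ht⟩
          apply Subtype.ext
          show tau hQW t = 0
          ext w
          show (t : Y) • (w : U) - w = 0
          rw [h1 h2 w w.2, sub_self]
        have h1 := nf B hBQ hBc
        have h2 : Nat.card B = Nat.card E * Nat.card ↥(Q ⊓ cf Y W) := card_pre hQW hQZ E
        have h3 : B ⊓ cf Y W = Q ⊓ cf Y W := by
          apply le_antisymm (inf_le_inf_right _ hBQ)
          rintro t ⟨ht, htc⟩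
          refine ⟨(mem_pre hQW hQZ).2 ⟨ht, ?_⟩, htc⟩
          have : (⟨tau hQW ⟨t, ht⟩, ⟨⟨t, ht⟩, rfl⟩⟩ : TH hQW hQZ) = 0 := by
            apply Subtype.ext
            show tau hQW ⟨t, ht⟩ = 0
            ext w
            show t • (w : U) - w = 0
            rw [htc w w.2, sub_self]
          rw [this]; exact E.zero_mem
        have h4 : W ⊓ fx U B = up (ann (bb hQW hQZ) E) := by
          ext u
          rw [mem_up]
          constructor
          · rintro ⟨hu, huB⟩
            refine ⟨hu, ?_⟩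
            rintro ⟨_, t, rfl⟩ ht
            apply Subtype.ext
            show (t : Y) • u - u = 0
            rw [huB t ((mem_pre hQW hQZ).2 ⟨t.2, ht⟩), sub_self]
          · rintro ⟨hu, h5⟩
            refine ⟨hu, fun t ht => ?_⟩
            obtain ⟨h6, h7⟩ := (mem_pre hQW hQZ).1 ht
            have h8 := h5 _ h7
            have h9 : t • u - u = 0 := congrArg Subtype.val h8
            exact sub_eq_zero.1 h9
        rw [h4, card_up hZW, h3, h2, hW] at h1
        refine Nat.le_of_mul_le_mul_right ?_ (Nat.mul_pos pQ pZ)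
        calc 2 * (Nat.card E * Nat.card (ann (bb hQW hQZ) E)) * (Nat.card ↥(Q ⊓ cf Y W) * Nat.card Z)
            = 2 * (Nat.card E * Nat.card ↥(Q ⊓ cf Y W) * (Nat.card (ann (bb hQW hQZ) E) * Nat.card Z)) := by ring
          _ ≤ _ := h1
          _ = _ := by ring)
      hP hP' hlt' (fun R hR h1 h2 => by
        rcases hmax (up R) ⟨R, hR, rfl⟩ (up_le_up.2 h1) (up_le_up.2 h2) with h3 | h3
        · exact Or.inl (up_inj h3)
        · exact Or.inr (up_inj h3))
    rw [card_up hZW, card_up hZW, hTH, hW]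
    calc Nat.card P * Nat.card Z * (Nat.card (TH hQW hQZ) * Nat.card ↥(Q ⊓ cf Y W) * Nat.card Z)
        = (Nat.card P * Nat.card (TH hQW hQZ)) * (Nat.card Z * (Nat.card ↥(Q ⊓ cf Y W) * Nat.card Z)) := by ring
      _ ≤ (Nat.card P' * Nat.card (W ⧸ Z.addSubgroupOf W)) * (Nat.card Z * (Nat.card ↥(Q ⊓ cf Y W) * Nat.card Z)) :=
        Nat.mul_le_mul_right _ h
      _ = _ := by ring

end Cfsg.Agent.Omega.NO3b.TheoremL.RingRel

end

section


/-!
# THEOREM L (#18749, helper344), part 3: the module `W = ⟨V^Y⟩ Z` and `Q = ⟨(A ∩ O)^Y⟩`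

`Hyp A M V` : `TI A M`, `A` an elementary abelian best offender, minimal in itself, `V` an `M`-invariant not-FF module for
`M`, `V ≰ Z = C_U(Y)`.  `[V, A] = 0`; `[W, Q] ≤ Z`; `Hyp.nfW` : no subgroup of `Q` offends on `W`;
`Hyp.inf_fx_le` : `A ∩ O ≠ 1` implies `C_W(Q) ≤ Z`; `Hyp.theta` : `|B|² |C_Q(W)| ≤ |Q| |C_B(W)|²` for `B ≤ C_Q(A)`.
-/

set_option autoImplicit false
set_option linter.unusedSectionVars false

namespace Cfsg.Agent.Omega.NO3b.TheoremL.Core1

open Cfsg.Agent.Omega.FF.Basic (fx mem_fx fx_anti card_sup_inf card_le eq_of_card_le card_fib EA mm mm_bot cj mem_cj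
  mem_cj_of isPGroup_cj card_cj smul_mem_fx_cj mem_fx_cj card_smul fx_bot)
open Cfsg.Agent.Omega.NO3b.Exit.TT (cf mem_cf nf mem_nf mem_smul smul_mem' nf_smul le_cf card_smul' cf_conj nf_conj
  quad' card_pow two_mul_le_of_pow mm_pow)
open Cfsg.Agent.Omega.NO3b.TheoremL.Act
open Cfsg.Agent.Omega.NO3b.TheoremL.RingRel (TH tau card_TH)
open Cfsg.Agent.Omega.MinFF (TI)
open Cfsg (pCore)
open scoped Pointwise

variable {Y : Type*} [Group Y] {U : Type*} [AddCommGroup U] [DistribMulAction Y U]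

/-- `⟨V^Y⟩ Z` -/
def W (Y : Type*) [Group Y] {U : Type*} [AddCommGroup U] [DistribMulAction Y U] (V : AddSubgroup U) : AddSubgroup U :=
  (⨆ y : Y, y • V) ⊔ fx U (⊤ : Subgroup Y)

/-- `⟨(A ∩ O)^Y⟩` -/
def QQ (A : Subgroup Y) : Subgroup Y := Subgroup.normalClosure ((A ⊓ pCore 2 Y : Subgroup Y) : Set Y)

/-- The hypotheses without 'not FF'; `VA` : `A` centralises the line `V`. -/
structure Pre {Y : Type*} [Group Y] {U : Type*} [AddCommGroup U] [DistribMulAction Y U] (A M : Subgroup Y)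
    (V : AddSubgroup U) : Prop where
  two : ∀ u : U, u + u = 0
  faith : ∀ y : Y, (∀ u : U, y • u = u) → y = 1
  ti : TI A M
  ea : EA A
  off : Nat.card U ≤ mm U A
  min : ∀ E < A, E ≠ ⊥ → mm U E < mm U A
  inv : M ≤ nf Y V
  VA : V ≤ fx U A

/-- The hypotheses.  (`VA`, `nfq` are all that is needed of 'not FF': see `Hyp.of_nff`.) -/
structure Hyp {Y : Type*} [Group Y] {U : Type*} [AddCommGroup U] [DistribMulAction Y U] (A M : Subgroup Y)
    (V : AddSubgroup U) : Prop extends Pre A M V where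
  nfq : ∀ B : Subgroup Y, B ≤ QQ A → ¬ B ≤ cf Y V →
    Nat.card B * Nat.card ↥(V ⊓ fx U B) < Nat.card V * Nat.card ↥(B ⊓ cf Y V)
  nz : ¬ V ≤ fx U (⊤ : Subgroup Y)

theorem Z_le_W (V : AddSubgroup U) : fx U (⊤ : Subgroup Y) ≤ W Y V := le_sup_right

theorem smul_le_W (V : AddSubgroup U) (y : Y) : y • V ≤ W Y V :=
  (le_iSup (fun y : Y => y • V) y).trans le_sup_left

theorem V_le_W (V : AddSubgroup U) : V ≤ W Y V := by
  have := smul_le_W V (1 : Y)
  rwa [one_smul] at this

theorem W_le {V K : AddSubgroup U} (h1 : ∀ y : Y, y • V ≤ K) (h2 : fx U (⊤ : Subgroup Y) ≤ K) : W Y V ≤ K :=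
  sup_le (iSup_le h1) h2

theorem W_inv (V : AddSubgroup U) (y : Y) {v : U} (hv : v ∈ W Y V) : y • v ∈ W Y V := by
  have h1 : W Y V ≤ y⁻¹ • W Y V := by
    refine W_le (fun k => ?_) ?_
    · intro v hv
      rw [mem_smul, inv_inv]
      apply smul_le_W V (y * k)
      rw [mul_smul]
      exact smul_mem' hv
    · intro v hv
      rw [mem_smul, Q.Z_smul hv]
      exact Z_le_W V hv
  have h2 := h1 hv
  rw [mem_smul, inv_inv] at h2
  exact h2

namespace Pre

variable {A M : Subgroup Y} {V : AddSubgroup U} (h : Pre A M V)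
include h

theorem ne_bot : A ≠ ⊥ := by
  intro h0
  obtain ⟨g, hg⟩ := h.ti.exists_not_mem
  apply hg
  apply h.ti.ti
  rw [h0]; exact bot_le

variable [Finite Y] [Finite U]

theorem toQ : Q U A M where
  two := h.two
  faith := h.faith
  ti := h.ti
  quad := quad' h.two h.ea h.ne_bot h.off h.min

theorem mm_le {E : Subgroup Y} (hE : E ≤ A) : mm U E ≤ mm U A := by
  by_cases h0 : E = ⊥
  · rw [h0, mm_bot]; exact h.off
  · rcases hE.eq_or_lt with h1 | h1
    · rw [h1]
    · exact (h.min E h1 h0).le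

theorem two_mul {E : Subgroup Y} (hE : E < A) (h0 : E ≠ ⊥) : 2 * mm U E ≤ mm U A :=
  two_mul_le_of_pow (mm_pow h.two (h.ea.mono hE.le)) (mm_pow h.two h.ea) (h.min E hE h0)

omit [Finite Y] [Finite U] in
/-- `[V, A] = 0` -/
theorem V_le_C : V ≤ fx U A := h.VA

omit [Finite Y] [Finite U] in
theorem smul_V_le (y : Y) : y • V ≤ y • fx U A := AddSubgroup.pointwise_smul_le_pointwise_smul_iff.2 h.V_le_C

theorem secW : Sec U A (W Y V) where
  Z_le := Z_le_W V
  le_D := W_le (fun y => (h.smul_V_le y).trans (Q.smul_C_le_D y)) ((Q.Z_le A).trans Q.C_le_D)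
  inv := fun y _ hv => W_inv V y hv

theorem secZ : Sec U A (fx U (⊤ : Subgroup Y)) where
  Z_le := le_rfl
  le_D := (Q.Z_le A).trans Q.C_le_D
  inv := fun y v hv => by rw [Q.Z_smul hv]; exact hv

omit h [Finite U] in
theorem QQ_normal : (QQ A).Normal := Subgroup.normalClosure_normal

omit h [Finite U] in
theorem QQ_conj {t : Y} (ht : t ∈ QQ A) (y : Y) : y⁻¹ * t * y ∈ QQ A := by
  have := QQ_normal.conj_mem t ht y⁻¹
  rwa [inv_inv] at this

omit h [Finite U] in
theorem A₁_le : A ⊓ pCore 2 Y ≤ QQ A := Subgroup.le_normalClosure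

omit h [Finite U] in
theorem QQ_le : QQ A ≤ pCore 2 Y := by
  have hn : (pCore 2 Y).Normal := Lib.Cores.pCore_normal 2
  exact Subgroup.normalClosure_le_normal (fun t ht => ht.2)

theorem core_nf (y : Y) : pCore 2 Y ≤ nf Y (y • V) := by
  intro t ht
  rw [nf_conj]
  have hn : (pCore 2 Y).Normal := Lib.Cores.pCore_normal 2
  apply h.inv
  apply h.toQ.core_le
  have := hn.conj_mem t ht y⁻¹
  rwa [inv_inv] at this

/-- `[W, A ∩ O] ≤ Z` -/
theorem comm_A₁ {t : Y} (ht : t ∈ A ⊓ pCore 2 Y) {w : U} (hw : w ∈ W Y V) : t • w - w ∈ fx U (⊤ : Subgroup Y) := by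
  let K : AddSubgroup U :=
    { carrier := {w | t • w - w ∈ fx U (⊤ : Subgroup Y)}
      zero_mem' := by
        show t • (0 : U) - 0 ∈ fx U (⊤ : Subgroup Y)
        rw [smul_zero, sub_zero]; exact zero_mem _
      add_mem' := fun {v w} hv hw => by
        show t • (v + w) - (v + w) ∈ fx U (⊤ : Subgroup Y)
        have e : t • (v + w) - (v + w) = (t • v - v) + (t • w - w) := by rw [smul_add]; abel
        rw [e]; exact add_mem hv hw
      neg_mem' := fun {v} hv => by
        show t • (-v) - (-v) ∈ fx U (⊤ : Subgroup Y)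
        have e : t • (-v) - (-v) = -(t • v - v) := by rw [smul_neg]; abel
        rw [e]; exact neg_mem hv }
  have h1 : W Y V ≤ K := by
    refine W_le (fun y => ?_) ?_
    · intro v hv
      show t • v - v ∈ fx U (⊤ : Subgroup Y)
      by_cases hy : y ∈ M
      · have h2 : y • V = V := h.inv hy
        rw [h2] at hv
        rw [h.V_le_C hv t ht.1, sub_self]; exact zero_mem _
      · have h3 : t • v ∈ y • V := nf_smul (h.core_nf y ht.2) hv
        have h4 : t • v - v ∈ y • V := sub_mem h3 hv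
        exact h.toQ.inf_le hy (fun b hb => h.toQ.quad t ht.1 b hb v) (mem_smul.1 (h.smul_V_le y h4))
    · intro z hz
      show t • z - z ∈ fx U (⊤ : Subgroup Y)
      rw [Q.Z_smul hz, sub_self]; exact zero_mem _
  exact h1 hw

/-- `[W, Q] ≤ Z` -/
theorem comm_QQ {t : Y} (ht : t ∈ QQ A) {w : U} (hw : w ∈ W Y V) : t • w - w ∈ fx U (⊤ : Subgroup Y) := by
  let K : Subgroup Y :=
    { carrier := {t | ∀ w ∈ W Y V, t • w - w ∈ fx U (⊤ : Subgroup Y)}
      one_mem' := fun w _ => by rw [one_smul, sub_self]; exact zero_mem _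
      mul_mem' := fun {s t} hs ht w hw => by
        have e : (s * t) • w - w = (s • (t • w - w)) + (s • w - w) := by rw [mul_smul, smul_sub]; abel
        rw [e, Q.Z_smul (ht w hw)]; exact add_mem (ht w hw) (hs w hw)
      inv_mem' := fun {s} hs w hw => by
        have h1 := hs _ (W_inv V s⁻¹ hw)
        rw [smul_inv_smul] at h1
        have e : s⁻¹ • w - w = -(w - s⁻¹ • w) := by abel
        rw [e]; exact neg_mem h1 }
  have hK : K.Normal := by
    constructor
    intro t ht g w hw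
    have h1 := ht _ (W_inv V g⁻¹ hw)
    have e : (g * t * g⁻¹) • w - w = g • (t • g⁻¹ • w - g⁻¹ • w) := by
      rw [smul_sub, smul_inv_smul, mul_smul, mul_smul]
    rw [e, Q.Z_smul h1]; exact h1
  have h1 : QQ A ≤ K := Subgroup.normalClosure_le_normal fun t ht w hw => h.comm_A₁ ht hw
  exact h1 ht w hw

/-- an element of `Q` is an involution on `W` -/
theorem QQ_sq {t : Y} (ht : t ∈ QQ A) {w : U} (hw : w ∈ W Y V) : t • t • w = w := by
  have h1 := Q.Z_smul (h.comm_QQ ht hw) t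
  have e : t • t • w = (t • (t • w - w)) + t • w := by rw [smul_sub]; abel
  rw [e, h1]
  have e2 : t • w - w + t • w = (t • w + t • w) - w := by abel
  rw [e2, h.two, zero_sub]
  exact neg_eq_of_add_eq_zero_left (h.two w)

end Pre

namespace Hyp

variable [Finite Y]

theorem QQ_normal {A : Subgroup Y} : (QQ A).Normal := Pre.QQ_normal

theorem QQ_conj {A : Subgroup Y} {t : Y} (ht : t ∈ QQ A) (y : Y) : y⁻¹ * t * y ∈ QQ A := Pre.QQ_conj ht y

theorem A₁_le {A : Subgroup Y} : A ⊓ pCore 2 Y ≤ QQ A := Pre.A₁_le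

theorem QQ_le {A : Subgroup Y} : QQ A ≤ pCore 2 Y := Pre.QQ_le

variable [Finite U]

/-- the hypotheses of #18749: `V` is not FF for `M` -/
theorem of_nff {A M : Subgroup Y} {V : AddSubgroup U} (two : ∀ u : U, u + u = 0)
    (faith : ∀ y : Y, (∀ u : U, y • u = u) → y = 1) (ti : TI A M) (ea : EA A) (off : Nat.card U ≤ mm U A)
    (min : ∀ E < A, E ≠ ⊥ → mm U E < mm U A) (inv : M ≤ nf Y V)
    (nff : ∀ B : Subgroup Y, IsPGroup 2 B → B ≤ M → (∀ b ∈ B, ∀ v ∈ V, b • b • v = v) → ¬ B ≤ cf Y V →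
      Nat.card B * Nat.card ↥(V ⊓ fx U B) < Nat.card V * Nat.card ↥(B ⊓ cf Y V))
    (nz : ¬ V ≤ fx U (⊤ : Subgroup Y)) : Hyp A M V := by
  have mm_le : ∀ {E : Subgroup Y}, E ≤ A → mm U E ≤ mm U A := by
    intro E hE
    by_cases h0 : E = ⊥
    · rw [h0, mm_bot]; exact off
    · rcases hE.eq_or_lt with h1 | h1
      · rw [h1]
      · exact (min E h1 h0).le
  have VA : V ≤ fx U A := by
    rw [← le_cf]
    by_contra hne
    have h1 := nff A ea.isPGroup ti.le (fun a ha v _ => by rw [smul_smul, ea a ha, one_smul]) hne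
    set E := A ⊓ cf Y V with hE
    have h2 := mm_le (inf_le_left : E ≤ A)
    have h3 : V ⊔ fx U A ≤ fx U E := sup_le (le_cf.1 inf_le_right) (fx_anti inf_le_left)
    have h4 := card_sup_inf V (fx U A)
    have h5 := card_le h3
    rw [mm, mm] at h2
    have h6 : Nat.card V * Nat.card E ≤ Nat.card A * Nat.card ↥(V ⊓ fx U A) := by
      have p : 0 < Nat.card (fx U A) := Nat.card_pos
      refine Nat.le_of_mul_le_mul_right ?_ p
      calc Nat.card V * Nat.card E * Nat.card (fx U A) = Nat.card E * (Nat.card V * Nat.card (fx U A)) := by ring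
        _ = Nat.card E * (Nat.card ↥(V ⊔ fx U A) * Nat.card ↥(V ⊓ fx U A)) := by rw [h4]
        _ ≤ Nat.card E * (Nat.card (fx U E) * Nat.card ↥(V ⊓ fx U A)) :=
          Nat.mul_le_mul_left _ (Nat.mul_le_mul_right _ h5)
        _ = Nat.card E * Nat.card (fx U E) * Nat.card ↥(V ⊓ fx U A) := by ring
        _ ≤ Nat.card A * Nat.card (fx U A) * Nat.card ↥(V ⊓ fx U A) := Nat.mul_le_mul_right _ h2
        _ = _ := by ring
    exact absurd h1 (not_lt.2 h6)
  have hp : Pre A M V := ⟨two, faith, ti, ea, off, min, inv, VA⟩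
  refine ⟨hp, fun B hB hne => nff B ?_ (fun b hb => hp.toQ.core_le (QQ_le (hB hb))) (fun b hb v hv =>
    hp.QQ_sq (hB hb) (V_le_W V hv)) hne, nz⟩
  exact (Lib.Cores.pCore_isPGroup (G := Y) 2).to_le (hB.trans QQ_le)

variable {A M : Subgroup Y} {V : AddSubgroup U} (h : Hyp A M V)
include h

/-- NF for the lines -/
theorem nfV (y : Y) {B : Subgroup Y} (hB : B ≤ QQ A) (hne : ¬ B ≤ cf Y (y • V)) :
    2 * (Nat.card B * Nat.card ↥(y • V ⊓ fx U B)) ≤ Nat.card V * Nat.card ↥(B ⊓ cf Y (y • V)) := by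
  have hBp : IsPGroup 2 B := (Lib.Cores.pCore_isPGroup (G := Y) 2).to_le (hB.trans QQ_le)
  have hn : (pCore 2 Y).Normal := Lib.Cores.pCore_normal 2
  have h1 := h.nfq (cj y⁻¹ B) (fun b hb => by
      rw [mem_cj, inv_inv] at hb
      have h2 := QQ_conj (hB hb) y
      have e : y⁻¹ * (y * b * y⁻¹) * y = b := by group
      rw [e] at h2
      exact h2) (fun h0 => hne (fun b hb => by
      rw [cf_conj]
      have h2 := h0 (mem_cj_of (g := y⁻¹) hb)
      rwa [inv_inv] at h2))
  rw [card_cj] at h1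
  have e1 : Nat.card ↥(V ⊓ fx U (cj y⁻¹ B)) = Nat.card ↥(y • V ⊓ fx U B) := by
    refine (card_smul y fun v => ?_).symm
    constructor
    · rintro ⟨h2, h3⟩
      exact ⟨mem_smul.1 h2, smul_mem_fx_cj h3⟩
    · rintro ⟨h2, h3⟩
      have h3' := mem_fx_cj.1 h3
      rw [inv_inv, smul_inv_smul] at h3'
      exact ⟨mem_smul.2 h2, h3'⟩
  have e2 : Nat.card ↥(cj y⁻¹ B ⊓ cf Y V) = Nat.card ↥(B ⊓ cf Y (y • V)) := by
    have e3 : cj y⁻¹ B ⊓ cf Y V = cj y⁻¹ (B ⊓ cf Y (y • V)) := by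
      ext a
      rw [mem_cj, inv_inv, Subgroup.mem_inf, Subgroup.mem_inf, mem_cj, inv_inv, cf_conj]
      have e : y⁻¹ * (y * a * y⁻¹) * y = a := by group
      rw [e]
    rw [e3, card_cj]
  rw [e1, e2] at h1
  have hf : Fact (Nat.Prime 2) := ⟨Nat.prime_two⟩
  refine two_mul_le_of_pow ?_ ?_ h1
  · obtain ⟨a, ha⟩ := IsPGroup.iff_card.1 hBp
    obtain ⟨b, hb⟩ := card_pow h.two (y • V ⊓ fx U B)
    exact ⟨a + b, by rw [ha, hb, pow_add]⟩
  · obtain ⟨a, ha⟩ := IsPGroup.iff_card.1 (hBp.to_le (inf_le_left : B ⊓ cf Y (y • V) ≤ B))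
    obtain ⟨b, hb⟩ := card_pow h.two V
    exact ⟨b + a, by rw [ha, hb, pow_add]⟩

/-- NF for `W` -/
theorem nfW : ∀ n : ℕ, ∀ B : Subgroup Y, Nat.card B ≤ n → B ≤ QQ A → ¬ B ≤ cf Y (W Y V) →
    2 * (Nat.card B * Nat.card ↥(W Y V ⊓ fx U B)) ≤ Nat.card (W Y V) * Nat.card ↥(B ⊓ cf Y (W Y V)) := by
  intro n
  induction n with
  | zero =>
    intro B hB
    have : 0 < Nat.card B := Nat.card_pos
    omega
  | succ n ih =>
    intro B hBn hB hne
    have hex : ∃ y : Y, ¬ B ≤ cf Y (y • V) := by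
      by_contra hcon
      push Not at hcon
      apply hne
      rw [le_cf]
      exact W_le (fun y => le_cf.1 (hcon y)) (Q.Z_le B)
    obtain ⟨y, hy⟩ := hex
    set E := B ⊓ cf Y (y • V) with hE
    have hEB : E < B := lt_of_le_of_ne inf_le_left fun h0 => hy (by rw [← h0]; exact inf_le_right)
    have h1 := h.nfV y hB hy
    have h2 : (y • V) ⊔ (W Y V ⊓ fx U B) ≤ W Y V ⊓ fx U E := by
      refine sup_le (le_inf (smul_le_W V y) (le_cf.1 inf_le_right)) ?_
      exact inf_le_inf_left _ (fx_anti hEB.le)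
    have h3 := card_sup_inf (y • V) (W Y V ⊓ fx U B)
    have h4 : (y • V) ⊓ (W Y V ⊓ fx U B) = y • V ⊓ fx U B := by
      rw [← inf_assoc, inf_eq_left.2 (smul_le_W V y)]
    rw [h4, card_smul'] at h3
    have h5 := card_le h2
    have p : 0 < Nat.card ↥(y • V ⊓ fx U B) := Nat.card_pos
    have key : 2 * (Nat.card B * Nat.card ↥(W Y V ⊓ fx U B)) ≤ Nat.card E * Nat.card ↥(W Y V ⊓ fx U E) := by
      refine Nat.le_of_mul_le_mul_right ?_ p
      calc 2 * (Nat.card B * Nat.card ↥(W Y V ⊓ fx U B)) * Nat.card ↥(y • V ⊓ fx U B)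
          = 2 * (Nat.card B * Nat.card ↥(y • V ⊓ fx U B)) * Nat.card ↥(W Y V ⊓ fx U B) := by ring
        _ ≤ Nat.card V * Nat.card E * Nat.card ↥(W Y V ⊓ fx U B) := Nat.mul_le_mul_right _ h1
        _ = Nat.card E * (Nat.card V * Nat.card ↥(W Y V ⊓ fx U B)) := by ring
        _ = Nat.card E * (Nat.card ↥((y • V) ⊔ (W Y V ⊓ fx U B) : AddSubgroup U) * Nat.card ↥(y • V ⊓ fx U B)) := by
          rw [h3]
        _ = Nat.card E * Nat.card ↥((y • V) ⊔ (W Y V ⊓ fx U B) : AddSubgroup U) * Nat.card ↥(y • V ⊓ fx U B) := by ring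
        _ ≤ Nat.card E * Nat.card ↥(W Y V ⊓ fx U E) * Nat.card ↥(y • V ⊓ fx U B) :=
          Nat.mul_le_mul_right _ (Nat.mul_le_mul_left _ h5)
    refine key.trans ?_
    by_cases hEc : E ≤ cf Y (W Y V)
    · have h6 : E ≤ B ⊓ cf Y (W Y V) := le_inf hEB.le hEc
      calc Nat.card E * Nat.card ↥(W Y V ⊓ fx U E) ≤ Nat.card ↥(B ⊓ cf Y (W Y V)) * Nat.card (W Y V) :=
            Nat.mul_le_mul (Subgroup.card_le_of_le h6) (card_le inf_le_left)
        _ = _ := by ring
    · have hcard : Nat.card E < Nat.card B := by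
        by_contra hc
        push Not at hc
        exact hEB.ne (Subgroup.eq_of_le_of_card_ge hEB.le hc)
      have h7 := ih E (by omega) (hEB.le.trans hB) hEc
      have h8 : Nat.card ↥(E ⊓ cf Y (W Y V)) ≤ Nat.card ↥(B ⊓ cf Y (W Y V)) :=
        Subgroup.card_le_of_le (inf_le_inf_right _ hEB.le)
      calc Nat.card E * Nat.card ↥(W Y V ⊓ fx U E) ≤ 2 * (Nat.card E * Nat.card ↥(W Y V ⊓ fx U E)) := by omega
        _ ≤ Nat.card (W Y V) * Nat.card ↥(E ⊓ cf Y (W Y V)) := h7
        _ ≤ _ := Nat.mul_le_mul_left _ h8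

theorem A₁_lt : A ⊓ pCore 2 Y < A :=
  lt_of_le_of_ne inf_le_left fun h0 => h.ti.not_le_pCore (by rw [← h0]; exact inf_le_right)

/-- `C_W(Q) ≤ Z` -/
theorem inf_fx_le (hne : A ⊓ pCore 2 Y ≠ ⊥) : W Y V ⊓ fx U (QQ A) ≤ fx U (⊤ : Subgroup Y) := by
  set P := W Y V ⊓ fx U (QQ A) with hP
  have hs : Sec U A P :=
    { Z_le := le_inf (Z_le_W V) (Q.Z_le _)
      le_D := inf_le_left.trans h.secW.le_D
      inv := fun y v hv => ⟨W_inv V y hv.1, fun t ht => by
        have h1 := hv.2 _ (QQ_conj ht y)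
        have e : t • y • v = y • (y⁻¹ * t * y) • v := by
          rw [smul_smul, smul_smul]; congr 1; group
        rw [e, h1]⟩ }
  by_contra hcon
  have hlt : fx U (⊤ : Subgroup Y) < P := lt_of_le_of_ne hs.Z_le fun h0 => hcon h0.ge
  have h1 := hs.index h.toQ h.secZ hlt
  have h2 : fx U (⊤ : Subgroup Y) ⊓ fx U A = fx U (⊤ : Subgroup Y) := inf_eq_left.2 (Q.Z_le A)
  rw [h2] at h1
  have h3 := h.two_mul h.A₁_lt hne
  have h4 : P ⊔ fx U A ≤ fx U (A ⊓ pCore 2 Y) :=
    sup_le (inf_le_right.trans (fx_anti A₁_le)) (fx_anti inf_le_left)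
  have h5 := card_le h4
  have h6 := card_sup_inf P (fx U A)
  have h7 := hs.card h.toQ
  rw [mm, mm] at h3
  have pC : 0 < Nat.card (fx U A) := Nat.card_pos
  have pZ : 0 < Nat.card (fx U (⊤ : Subgroup Y)) := Nat.card_pos
  have pP : 0 < Nat.card ↥(P ⊓ fx U A) := Nat.card_pos
  have pA : 0 < Nat.card ↥(A ⊓ pCore 2 Y) := Nat.card_pos
  set a := Nat.card A
  set a1 := Nat.card ↥(A ⊓ pCore 2 Y)
  set c := Nat.card (fx U A)
  set z := Nat.card (fx U (⊤ : Subgroup Y))
  set pc := Nat.card ↥(P ⊓ fx U A)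
  set p := Nat.card P
  -- `2 a1 p ≤ a pc`
  have h8 : 2 * a1 * p ≤ a * pc := by
    refine Nat.le_of_mul_le_mul_right ?_ pC
    calc 2 * a1 * p * c = 2 * a1 * (p * c) := by ring
      _ = 2 * a1 * (Nat.card ↥(P ⊔ fx U A) * pc) := by rw [h6]
      _ = 2 * (a1 * Nat.card ↥(P ⊔ fx U A)) * pc := by ring
      _ ≤ 2 * (a1 * Nat.card (fx U (A ⊓ pCore 2 Y))) * pc :=
        Nat.mul_le_mul_right _ (Nat.mul_le_mul_left _ (Nat.mul_le_mul_left _ h5))
      _ ≤ (a * c) * pc := Nat.mul_le_mul_right _ h3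
      _ = a * pc * c := by ring
  have h9 : 2 * a1 * pc ≤ a * z := by
    refine Nat.le_of_mul_le_mul_right ?_ pP
    calc 2 * a1 * pc * pc = 2 * a1 * (pc * pc) := by ring
      _ = 2 * a1 * (p * z) := by rw [h7]
      _ = (2 * a1 * p) * z := by ring
      _ ≤ (a * pc) * z := Nat.mul_le_mul_right _ h8
      _ = a * z * pc := by ring
  have h10 : 2 * (a1 * pc) ≤ a1 * pc := by
    calc 2 * (a1 * pc) = 2 * a1 * pc := by ring
      _ ≤ a * z := h9
      _ ≤ a1 * pc := h1
  have : 0 < a1 * pc := Nat.mul_pos pA pP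
  omega

/-- `|B|² |C_Q(W)| ≤ |Q| |C_B(W)|²` for `B ≤ C_Q(A)` -/
theorem theta {B : Subgroup Y} (hB : B ≤ QQ A) (hc : ∀ b ∈ B, ∀ a ∈ A, a * b = b * a) :
    Nat.card B * Nat.card B * Nat.card ↥(QQ A ⊓ cf Y (W Y V)) ≤
      Nat.card (QQ A) * (Nat.card ↥(B ⊓ cf Y (W Y V)) * Nat.card ↥(B ⊓ cf Y (W Y V))) := by
  classical
  obtain ⟨g, hg⟩ := h.ti.exists_not_mem
  set Z := fx U (⊤ : Subgroup Y) with hZ
  have hfin : Finite (W Y V →+ Z) := Finite.of_injective (fun f : W Y V →+ Z => (f : W Y V → Z)) DFunLike.coe_injective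
  have hQW : ∀ t ∈ QQ A, ∀ w ∈ W Y V, t • w - w ∈ Z := fun t ht w hw => h.comm_QQ ht hw
  have hQZ : ∀ t ∈ QQ A, ∀ z ∈ Z, t • z = z := fun t _ z hz => Q.Z_smul hz t
  have hB' : cj g B ≤ QQ A := by
    intro t ht
    have h1 := QQ_conj (hB (mem_cj.1 ht)) g⁻¹
    have e : g⁻¹⁻¹ * (g⁻¹ * t * g) * g⁻¹ = t := by group
    rwa [e] at h1
  let T₁ := TH (W := W Y V) (Z := Z) (Q := B) (fun t ht => hQW t (hB ht)) (fun t ht => hQZ t (hB ht))
  let T₂ := TH (W := W Y V) (Z := Z) (Q := cj g B) (fun t ht => hQW t (hB' ht)) (fun t ht => hQZ t (hB' ht))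
  let T := TH (W := W Y V) (Z := Z) (Q := QQ A) hQW hQZ
  have hT₁ : T₁ ≤ T := by
    rintro _ ⟨t, rfl⟩
    exact ⟨⟨t, hB t.2⟩, rfl⟩
  have hT₂ : T₂ ≤ T := by
    rintro _ ⟨t, rfl⟩
    exact ⟨⟨t, hB' t.2⟩, rfl⟩
  have c₁ : Nat.card B = Nat.card T₁ * Nat.card ↥(B ⊓ cf Y (W Y V)) := card_TH _ _
  have c₂ : Nat.card (cj g B) = Nat.card T₂ * Nat.card ↥(cj g B ⊓ cf Y (W Y V)) := card_TH _ _
  have c : Nat.card (QQ A) = Nat.card T * Nat.card ↥(QQ A ⊓ cf Y (W Y V)) := card_TH _ _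
  have e2 : Nat.card ↥(cj g B ⊓ cf Y (W Y V)) = Nat.card ↥(B ⊓ cf Y (W Y V)) := by
    have e3 : cj g B ⊓ cf Y (W Y V) = cj g (B ⊓ cf Y (W Y V)) := by
      ext a
      rw [Subgroup.mem_inf, mem_cj, mem_cj, Subgroup.mem_inf]
      refine and_congr_right fun _ => ?_
      constructor
      · intro h1 w hw
        have h2 := h1 _ (W_inv V g hw)
        rw [mul_smul, mul_smul, h2, inv_smul_smul]
      · intro h1 w hw
        have h2 := h1 _ (W_inv V g⁻¹ hw)
        rw [mul_smul, mul_smul, smul_inv_smul, inv_smul_eq_iff, smul_inv_smul] at h2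
        exact h2
    rw [e3, card_cj]
  rw [card_cj, e2] at c₂
  have hinf : T₁ ⊓ T₂ = ⊥ := by
    rw [AddSubgroup.eq_bot_iff_forall]
    rintro θ ⟨⟨s, hs⟩, ⟨t, ht⟩⟩
    have hs' : ∀ w : W Y V, ((θ w : Z) : U) = (s : Y) • (w : U) - w := fun w => by rw [← hs]; rfl
    have ht' : ∀ w : W Y V, ((θ w : Z) : U) = (t : Y) • (w : U) - w := fun w => by rw [← ht]; rfl
    have hθZ : ∀ w : W Y V, (w : U) ∈ Z → θ w = 0 := by
      intro w hw
      apply Subtype.ext
      rw [hs', Q.Z_smul hw, sub_self]; rfl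
    -- `θ ∘ y = θ`
    have hinv : ∀ (y : Y) (w : W Y V), θ ⟨y • (w : U), W_inv V y w.2⟩ = θ w := by
      let K : Subgroup Y :=
        { carrier := {y | ∀ w : W Y V, θ ⟨y • (w : U), W_inv V y w.2⟩ = θ w}
          one_mem' := fun w => by
            congr 1
            exact Subtype.ext (one_smul _ _)
          mul_mem' := fun {x y} hx hy w => by
            have h1 := hx ⟨y • (w : U), W_inv V y w.2⟩
            have h2 := hy w
            rw [← h2, ← h1]
            congr 1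
            exact Subtype.ext (mul_smul _ _ _)
          inv_mem' := fun {x} hx w => by
            have h1 := hx ⟨x⁻¹ • (w : U), W_inv V x⁻¹ w.2⟩
            rw [← h1]
            congr 1
            exact Subtype.ext (smul_inv_smul _ _) }
      have h1 : A ≤ K := by
        intro a ha w
        apply Subtype.ext
        rw [hs', hs']
        show (s : Y) • a • (w : U) - a • (w : U) = (s : Y) • (w : U) - w
        have h2 := hc s s.2 a ha
        rw [smul_smul, ← h2, mul_smul, ← smul_sub]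
        have h3 : (s : Y) • (w : U) - w ∈ Z := hQW s (hB s.2) w w.2
        exact Q.Z_smul h3 a
      have h2 : MulAut.conj g • A ≤ K := by
        intro a ha w
        have ha' := MinFF.mem_cj.1 ha
        apply Subtype.ext
        rw [ht', ht']
        show (t : Y) • a • (w : U) - a • (w : U) = (t : Y) • (w : U) - w
        have h2 := hc _ (mem_cj.1 t.2) _ ha'
        have h3 : a * (t : Y) = t * a := by
          have e1 : g⁻¹ * a * g * (g⁻¹ * (t : Y) * g) = g⁻¹ * (a * t) * g := by group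
          have e2 : g⁻¹ * (t : Y) * g * (g⁻¹ * a * g) = g⁻¹ * (t * a) * g := by group
          rw [e1, e2] at h2
          exact mul_left_cancel (mul_right_cancel h2)
        rw [smul_smul, ← h3, mul_smul, ← smul_sub]
        have h4 : (t : Y) • (w : U) - w ∈ Z := hQW t (hB' t.2) w w.2
        exact Q.Z_smul h4 a
      have h3 := sup_le h1 h2
      rw [h.ti.sup_eq_top hg] at h3
      intro y
      exact h3 (Subgroup.mem_top y)
    -- `θ = 0` on `W ∩ C`
    obtain ⟨a, ha, haO⟩ := SetLike.not_le_iff_exists.1 h.ti.not_le_pCore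
    have hC : ∀ w : W Y V, (w : U) ∈ fx U A → θ w = 0 := by
      intro w hw
      obtain ⟨v, hv, -, h1⟩ := h.secW.surj h.toQ hg ha haO (c := (w : U)) ⟨w.2, hw⟩
      have h2 : θ (⟨a • v, W_inv V a hv⟩ - ⟨v, hv⟩ - w) = 0 := hθZ _ h1
      rw [map_sub, map_sub, hinv a ⟨v, hv⟩, sub_self, zero_sub, neg_eq_zero] at h2
      exact h2
    apply AddMonoidHom.ext
    intro w
    have hw : (w : U) ∈ (W Y V ⊓ fx U A) ⊔ g • (W Y V ⊓ fx U A) := by
      rw [h.secW.sup_eq h.toQ hg]; exact w.2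
    obtain ⟨c₁, h₁, c₂, h₂, e⟩ := AddSubgroup.mem_sup.1 hw
    rw [mem_smul] at h₂
    have e' : w = ⟨c₁, h₁.1⟩ + ⟨g • (g⁻¹ • c₂), W_inv V g h₂.1⟩ := by
      apply Subtype.ext
      show (w : U) = c₁ + g • g⁻¹ • c₂
      rw [smul_inv_smul, e]
    rw [e', map_add, hC _ h₁.2, hinv g ⟨g⁻¹ • c₂, h₂.1⟩, hC _ h₂.2, add_zero]
    rfl
  have hcard := card_sup_inf T₁ T₂
  rw [hinf] at hcard
  have h1 : Nat.card (⊥ : AddSubgroup (W Y V →+ Z)) = 1 := AddSubgroup.card_bot
  rw [h1, mul_one] at hcard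
  have h2 := card_le (sup_le hT₁ hT₂)
  have h3 : Nat.card T₁ = Nat.card T₂ := by
    have p : 0 < Nat.card ↥(B ⊓ cf Y (W Y V)) := Nat.card_pos
    exact Nat.eq_of_mul_eq_mul_right p (by rw [← c₁, ← c₂])
  rw [c, c₁]
  calc Nat.card T₁ * Nat.card ↥(B ⊓ cf Y (W Y V)) * (Nat.card T₁ * Nat.card ↥(B ⊓ cf Y (W Y V))) *
        Nat.card ↥(QQ A ⊓ cf Y (W Y V))
      = (Nat.card T₁ * Nat.card T₁) * (Nat.card ↥(QQ A ⊓ cf Y (W Y V)) *
        (Nat.card ↥(B ⊓ cf Y (W Y V)) * Nat.card ↥(B ⊓ cf Y (W Y V)))) := by ring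
    _ ≤ Nat.card T * (Nat.card ↥(QQ A ⊓ cf Y (W Y V)) *
        (Nat.card ↥(B ⊓ cf Y (W Y V)) * Nat.card ↥(B ⊓ cf Y (W Y V)))) := by
        refine Nat.mul_le_mul_right _ ?_
        calc Nat.card T₁ * Nat.card T₁ = Nat.card T₁ * Nat.card T₂ := by rw [← h3]
          _ = Nat.card ↥(T₁ ⊔ T₂) := hcard.symm
          _ ≤ Nat.card T := h2
    _ = _ := by ring

end Hyp

end Cfsg.Agent.Omega.NO3b.TheoremL.Core1

end
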